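import Cfsg.Agent.Lib.OmegaPresent.Data

/-!
How the transvections and the element `r` act on the two families of root elements, and the dual data.
-/

set_option autoImplicit false
set_option linter.unusedSectionVars false
set_option linter.unusedSimpArgs false

namespace CfsgLib.OmegaPresent

open Equiv Matrix CfsgLib.SLPresent

variable {F : Type*} [Field F] {n : ℕ} {G : Type*} [Group G]

local notation "SL" => Matrix.SpecialLinearGroup (Fin n) F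
local notation "tv" => Matrix.SpecialLinearGroup.transvection

theorem tv_inv {a b : Fin n} (h : a ≠ b) (t : F) : (tv h t : SL)⁻¹ = tv h (-t) :=
  Matrix.SpecialLinearGroup.transvection_inv h t

theorem sub_map (f : SL →* G) {a b : Fin n} (h : a ≠ b) (t : F) : (f (tv h t))⁻¹ = f (tv h (-t)) := by
  rw [← map_inv, tv_inv]

/-- A monomial element taking three of the first four indices to three given ones, with scalars one. -/
theorem exists_move (hn : 4 ≤ n) {p q s k : Fin 4} (hp : p ≠ q) (hps : p ≠ s) (hq : q ≠ s)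
    (hkp : k ≠ p) (hkq : k ≠ q) (hks : k ≠ s) {a b c : Fin n} (hab : a ≠ b) (hac : a ≠ c) (hbc : b ≠ c) :
    ∃ (g : SL) (σ : Perm (Fin n)) (d : Fin n → F), IsMon g σ d ∧ σ (idx hn p) = a ∧
      σ (idx hn q) = b ∧ σ (idx hn s) = c ∧ d (idx hn p) = 1 ∧ d (idx hn q) = 1 ∧ d (idx hn s) = 1 := by
  obtain ⟨σ, hσ⟩ := exists_perm_extend (f := ![idx hn p, idx hn q, idx hn s]) (g := ![a, b, c])
    (fun x y e => by
      have h1 := idx_ne hn hp
      have h2 := idx_ne hn hps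
      have h3 := idx_ne hn hq
      fin_cases x <;> fin_cases y <;> simp [h1, h2, h3, h1.symm, h2.symm, h3.symm] at e ⊢)
    (fun x y e => by
      fin_cases x <;> fin_cases y <;> simp [hab, hac, hbc, hab.symm, hac.symm, hbc.symm] at e ⊢)
  obtain ⟨g, d, hg, hd⟩ := exists_mon (F := F) σ (idx hn k)
  exact ⟨g, σ, d, hg, hσ 0, hσ 1, hσ 2, hd _ (idx_ne hn hkp.symm), hd _ (idx_ne hn hkq.symm),
    hd _ (idx_ne hn hks.symm)⟩

theorem theta_pm (σ : alternatingGroup (Fin n)) : (theta (pm σ) : SL) = pm σ := by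
  refine sl_ext ?_
  rw [theta_coe, ← map_inv, pm_coe, pm_coe, Matrix.transpose_permMatrix]
  simp

theorem theta_dg {a b : Fin n} (h : a ≠ b) : (theta (dg a b h (-1 : Fˣ)) : SL) = dg a b h (-1) := by
  refine ext_col fun x => ?_
  rw [(dg_mon h (-1 : Fˣ)).theta x, dg_mon h (-1 : Fˣ) x]
  congr 1
  simp only [hVec]
  split_ifs <;> simp

theorem pm_mon (σ : alternatingGroup (Fin n)) : IsMon (pm σ : SL) (σ : Perm (Fin n)) (fun _ => 1) :=
  fun x => by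
    funext k
    simp only [pm_coe, Matrix.mulVec_single_one, Matrix.col_apply, PEquiv.toMatrix_apply,
      Equiv.toPEquiv_apply, Option.mem_def, Option.some.injEq, Pi.single_apply, Perm.inv_def,
      Equiv.symm_apply_eq]

theorem w02_mon (hn : 4 ≤ n) : IsMon (w02 (F := F) hn) (swap (idx hn 0) (idx hn 2))
    (fun x => if x = idx hn 0 then 1 else if x = idx hn 2 then -1 else 1) := fun x => by
  rw [w02, wEl_mon (idx_ne hn (show (0 : Fin 4) ≠ 2 by decide)) (neg_ne_zero.2 one_ne_zero) x]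
  simp

theorem theta_w02 (hn : 4 ≤ n) : (theta (w02 (F := F) hn) : SL) = w02 hn :=
  ext_col fun x => by
    rw [(w02_mon hn).theta x, w02_mon hn x]
    congr 1
    simp only []
    by_cases h : x = idx hn 0
    · simp [h]
    · by_cases h' : x = idx hn 2 <;> simp [h, h']

namespace Data

variable {hn : 4 ≤ n} {ι : Matrix.SpecialLinearGroup (Fin n) F →* G} {r : G} (D : Data hn ι r)
include D

local notation "𝟎" => idx hn 0
local notation "𝟏" => idx hn 1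
local notation "𝟐" => idx hn 2
local notation "𝟑" => idx hn 3
local notation "Y" => Yel hn ι r

theorem X_Y_base (s t : F) :
    ι (tv (idx_ne hn (show (3 : Fin 4) ≠ 2 by decide)) s) * Y 𝟏 𝟐 t *
      (ι (tv (idx_ne hn (show (3 : Fin 4) ≠ 2 by decide)) s))⁻¹ = Y 𝟏 𝟑 (s * t) * Y 𝟏 𝟐 t := by
  have h32 : (idx hn 3 : Fin n) ≠ idx hn 2 := idx_ne hn (by decide)
  have h20 : (idx hn 2 : Fin n) ≠ idx hn 0 := idx_ne hn (by decide)
  have h30 : (idx hn 3 : Fin n) ≠ idx hn 0 := idx_ne hn (by decide)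
  have h31 : (idx hn 3 : Fin n) ≠ idx hn 1 := idx_ne hn (by decide)
  have h21 : (idx hn 2 : Fin n) ≠ idx hn 1 := idx_ne hn (by decide)
  have hm : (tv h32 s : SL) ∈ LevP 𝟎 𝟏 :=
    tv_mem_levP _ (iff_of_false (by simp [h30, h31]) (by simp [h20, h21])) _
  have e : r * ι (tv h32 s) = ι (tv h32 s) * r := (D.comm_r _ hm).eq
  have f : (tv h32 s : SL) * tv h20 t * (tv h32 s)⁻¹ = tv h30 (s * t) * tv h20 t := by
    rw [tv_form h32 h20 h30, mul_inv_cancel_right]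
  rw [D.Y_base, ← D.r_X0 h30 h31, y12]
  calc ι (tv h32 s) * (r * ι (tv h20 t) * r⁻¹) * (ι (tv h32 s))⁻¹
      = (r * ι (tv h32 s)) * ι (tv h20 t) * (r * ι (tv h32 s))⁻¹ := by rw [e]; group
    _ = r * ι (tv h32 s * tv h20 t * (tv h32 s)⁻¹) * r⁻¹ := by simp only [map_mul, map_inv]; group
    _ = _ := by rw [f, map_mul]; group

/-- A transvection acting on an element of the second family with which it shares its column. -/
theorem X_Y {a b c : Fin n} (hab : a ≠ b) (hac : a ≠ c) (hbc : b ≠ c) (s t : F) :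
    ι (tv hab s) * Y c b t * (ι (tv hab s))⁻¹ = Y c a (s * t) * Y c b t := by
  obtain ⟨g, σ, d, hg, h3, h2, h1, d3, d2, d1⟩ := exists_move (F := F) hn
    (show (3 : Fin 4) ≠ 2 by decide) (show (3 : Fin 4) ≠ 1 by decide) (show (2 : Fin 4) ≠ 1 by decide)
    (show (0 : Fin 4) ≠ 3 by decide) (show (0 : Fin 4) ≠ 2 by decide) (show (0 : Fin 4) ≠ 1 by decide)
    hab hac hbc
  have hx := hg.conj_tv (idx_ne hn (show (3 : Fin 4) ≠ 2 by decide)) s
  simp only [h3, h2, d3, d2, div_one, one_mul] at hx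
  have e : ι g * (ι (tv (idx_ne hn (show (3 : Fin 4) ≠ 2 by decide)) s) * Y 𝟏 𝟐 t *
      (ι (tv (idx_ne hn (show (3 : Fin 4) ≠ 2 by decide)) s))⁻¹) * (ι g)⁻¹ =
      ι g * Y 𝟏 𝟑 (s * t) * (ι g)⁻¹ * (ι g * Y 𝟏 𝟐 t * (ι g)⁻¹) := by
    rw [D.X_Y_base s t, conj_mul]
  rw [D.Y_mon hg (idx_ne hn (show (1 : Fin 4) ≠ 3 by decide)),
    D.Y_mon hg (idx_ne hn (show (1 : Fin 4) ≠ 2 by decide))] at e
  simp only [h1, h2, h3, d1, d2, d3, one_mul] at e
  rw [← e, show (tv hab s : SL) = g * tv (idx_ne hn (show (3 : Fin 4) ≠ 2 by decide)) s * g⁻¹ from hx.symm]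
  have hy := D.Y_mon hg (idx_ne hn (show (1 : Fin 4) ≠ 2 by decide)) t
  simp only [h1, h2, d1, d2, one_mul] at hy
  rw [← hy]
  simp only [map_mul, map_inv]
  group

theorem X_Y' {a b c : Fin n} (hab : a ≠ b) (hac : a ≠ c) (hbc : b ≠ c) (s t : F) :
    ι (tv hab s) * Y b c t * (ι (tv hab s))⁻¹ = Y a c (s * t) * Y b c t := by
  rw [D.Y_swap hbc.symm, D.X_Y hab hac hbc, D.Y_swap hac.symm, mul_neg]

/-- A transvection commutes with the second family elements not meeting its column. -/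
theorem X_Y_comm {a b k l : Fin n} (hab : a ≠ b) (hkl : k ≠ l) (hs : (b ≠ k ∧ b ≠ l) ∨
    ((a = k ∨ a = l) ∧ (b = k ∨ b = l))) (s t : F) : Commute (ι (tv hab s)) (Y k l t) := by
  obtain ⟨σ, hσ⟩ := exists_perm_extend (f := ![idx hn 1, idx hn 2]) (g := ![k, l])
    (fun x y e => by
      fin_cases x <;> fin_cases y <;>
        simp [idx_ne hn (show (1 : Fin 4) ≠ 2 by decide), idx_ne hn (show (2 : Fin 4) ≠ 1 by decide)] at e ⊢)
    (fun x y e => by fin_cases x <;> fin_cases y <;> simp [hkl, hkl.symm] at e ⊢)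
  obtain ⟨g, d, hg, hd⟩ := exists_mon (F := F) σ 𝟎
  have hs1 : σ 𝟏 = k := hσ 0
  have hs2 : σ 𝟐 = l := hσ 1
  have hy : Y k l t = ι g * y12 hn ι r t * (ι g)⁻¹ := by
    rw [D.Y_of hg, hs1, hs2, hd _ (idx_ne hn (show (1 : Fin 4) ≠ 0 by decide)),
      hd _ (idx_ne hn (show (2 : Fin 4) ≠ 0 by decide)), one_mul, one_mul]
  by_cases hin : Same k l a b
  · have hx : g⁻¹ * tv hab s * g⁻¹⁻¹ ∈ LevP 𝟏 𝟐 := by
      have := hg.inv.conj_levP (tv_mem_levP (F := F) hab hin s)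
      rwa [show σ⁻¹ k = 𝟏 by rw [Perm.inv_def, Equiv.symm_apply_eq, hs1],
        show σ⁻¹ l = 𝟐 by rw [Perm.inv_def, Equiv.symm_apply_eq, hs2]] at this
    have h := ((D.y_comm hx t).map (MulAut.conj (ι g)).toMonoidHom).symm
    rw [hy]
    change Commute (ι g * ι (g⁻¹ * tv hab s * g⁻¹⁻¹) * (ι g)⁻¹) (ι g * y12 hn ι r t * (ι g)⁻¹) at h
    rwa [← map_inv, ← map_mul, ← map_mul,
      show g * (g⁻¹ * tv hab s * g⁻¹⁻¹) * g⁻¹ = tv hab s by group, map_inv] at h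
  · have hb : b ≠ k ∧ b ≠ l := hs.elim id fun h => absurd (iff_of_true h.1 h.2) hin
    have ha : a = k ∨ a = l := by
      by_contra h
      exact hin (iff_of_false h (by simp [hb]))
    have h21 : (idx hn 2 : Fin n) ≠ idx hn 1 := idx_ne hn (by decide)
    have h20 : (idx hn 2 : Fin n) ≠ idx hn 0 := idx_ne hn (by decide)
    have h23 : (idx hn 2 : Fin n) ≠ idx hn 3 := idx_ne hn (by decide)
    have h30 : (idx hn 3 : Fin n) ≠ idx hn 0 := idx_ne hn (by decide)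
    have h31 : (idx hn 3 : Fin n) ≠ idx hn 1 := idx_ne hn (by decide)
    have base : ∀ s t : F, Commute (ι (tv h23 s)) (y12 hn ι r t) := fun s t => by
      have hm : (tv h23 s : SL) ∈ LevP 𝟎 𝟏 :=
        tv_mem_levP _ (iff_of_false (by simp [h20, h21]) (by simp [h30, h31])) _
      have h := ((tv_commute h23 h20 h23.symm h20 s t).map ι).map (MulAut.conj r).toMonoidHom
      change Commute (r * ι (tv h23 s) * r⁻¹) (y12 hn ι r t) at h
      rwa [D.r_fix hm] at h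
    obtain ⟨k', hk', hkb, hset⟩ : ∃ k', k' ≠ a ∧ k' ≠ b ∧ ((k' = k ∧ a = l) ∨ (k' = l ∧ a = k)) := by
      rcases ha with rfl | rfl
      · exact ⟨l, hkl.symm, hb.2.symm, Or.inr ⟨rfl, rfl⟩⟩
      · exact ⟨k, hkl, hb.1.symm, Or.inl ⟨rfl, rfl⟩⟩
    have key : ∀ t : F, Commute (ι (tv hab s)) (Y k' a t) := fun t => by
      obtain ⟨h, τ, e, hh, e2, e3, e1, c2, c3, c1⟩ := exists_move (F := F) hn
        (show (2 : Fin 4) ≠ 3 by decide) (show (2 : Fin 4) ≠ 1 by decide) (show (3 : Fin 4) ≠ 1 by decide)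
        (show (0 : Fin 4) ≠ 2 by decide) (show (0 : Fin 4) ≠ 3 by decide) (show (0 : Fin 4) ≠ 1 by decide)
        hab hk'.symm hkb.symm
      have hx := hh.conj_tv h23 s
      simp only [e2, e3, c2, c3, div_one, one_mul] at hx
      have hy' := D.Y_of hh t
      simp only [e1, e2, c1, c2, one_mul] at hy'
      have := (base s t).map (MulAut.conj (ι h)).toMonoidHom
      change Commute (ι h * ι (tv h23 s) * (ι h)⁻¹) (ι h * y12 hn ι r t * (ι h)⁻¹) at this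
      rwa [hy', ← map_inv, ← map_mul, ← map_mul, hx] at this
    rcases hset with ⟨e, e'⟩ | ⟨e, e'⟩
    · have := key t
      rwa [e, show Y k a t = Y k l t by rw [e']] at this
    · have := key (-t)
      rwa [e, show Y l a (-t) = Y l k (-t) by rw [e'], D.Y_swap hkl.symm.symm, neg_neg] at this

theorem r_r_conj {a b : Fin n} (h : a ≠ b) (t : F) :
    r * (r * ι (tv h t) * r⁻¹) * r⁻¹ =
      ι (tv h (hVec 𝟎 𝟏 (-1 : F) a / hVec 𝟎 𝟏 (-1 : F) b * t)) := by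
  have e : r * (r * ι (tv h t) * r⁻¹) * r⁻¹ = (r * r) * ι (tv h t) * (r * r)⁻¹ := by group
  rw [e, D.sq, ← map_inv, ← map_mul, ← map_mul,
    (dg_mon (idx_ne hn (show (0 : Fin 4) ≠ 1 by decide)) (-1 : Fˣ)).conj_tv h t]
  simp

theorem r_Y0 {k : Fin n} (hk0 : k ≠ 𝟎) (hk1 : k ≠ 𝟏) (t : F) :
    r * Y 𝟎 k t * r⁻¹ = ι (tv hk1 t) := by
  rw [show Y 𝟎 k t = r * ι (tv hk1 (-t)) * r⁻¹ by rw [D.r_X1 hk0 hk1, neg_neg], D.r_r_conj]
  simp [hVec, hk0, hk1, idx_ne hn (show (1 : Fin 4) ≠ 0 by decide)]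

theorem r_Y1 {k : Fin n} (hk0 : k ≠ 𝟎) (hk1 : k ≠ 𝟏) (t : F) :
    r * Y 𝟏 k t * r⁻¹ = ι (tv hk0 (-t)) := by
  rw [← D.r_X0 hk0 hk1, D.r_r_conj]
  simp [hVec, hk0, hk1, idx_ne hn (show (1 : Fin 4) ≠ 0 by decide)]

theorem conj_comm_el (x y : G) :
    r * (x * y * x⁻¹ * y⁻¹) * r⁻¹ =
      (r * x * r⁻¹) * (r * y * r⁻¹) * (r * x * r⁻¹)⁻¹ * (r * y * r⁻¹)⁻¹ := by
  group

/-- Two members of the second family with a common index commute. -/
theorem Y_share {c a b : Fin n} (hca : c ≠ a) (hcb : c ≠ b) (t u : F) :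
    Commute (Y c a t) (Y c b u) := by
  by_cases hab : a = b
  · subst hab
    rw [Commute, SemiconjBy, ← D.Y_add hca, ← D.Y_add hca, add_comm]
  have h20 : (idx hn 2 : Fin n) ≠ idx hn 0 := idx_ne hn (by decide)
  have h21 : (idx hn 2 : Fin n) ≠ idx hn 1 := idx_ne hn (by decide)
  have h30 : (idx hn 3 : Fin n) ≠ idx hn 0 := idx_ne hn (by decide)
  have h31 : (idx hn 3 : Fin n) ≠ idx hn 1 := idx_ne hn (by decide)
  have hb : ∀ t u : F, Commute (Y 𝟏 𝟐 t) (Y 𝟏 𝟑 u) := fun t u => by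
    rw [← D.r_X0 h20 h21, ← D.r_X0 h30 h31]
    exact ((tv_commute h20 h30 h30.symm h20 t u).map ι).map (MulAut.conj r).toMonoidHom
  obtain ⟨g, σ, d, hg, h1, h2, h3, d1, d2, d3⟩ := exists_move (F := F) hn
    (show (1 : Fin 4) ≠ 2 by decide) (show (1 : Fin 4) ≠ 3 by decide) (show (2 : Fin 4) ≠ 3 by decide)
    (show (0 : Fin 4) ≠ 1 by decide) (show (0 : Fin 4) ≠ 2 by decide) (show (0 : Fin 4) ≠ 3 by decide)
    hca hcb hab
  have h := (hb t u).map (MulAut.conj (ι g)).toMonoidHom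
  change Commute (ι g * _ * (ι g)⁻¹) (ι g * _ * (ι g)⁻¹) at h
  rw [D.Y_mon hg (idx_ne hn (show (1 : Fin 4) ≠ 2 by decide)),
    D.Y_mon hg (idx_ne hn (show (1 : Fin 4) ≠ 3 by decide))] at h
  simpa only [h1, h2, h3, d1, d2, d3, one_mul] using h

theorem r_Y23 (u : F) : r * Y 𝟐 𝟑 u * r⁻¹ = Y 𝟐 𝟑 u := by
  have h31 : (idx hn 3 : Fin n) ≠ idx hn 1 := idx_ne hn (by decide)
  have h30 : (idx hn 3 : Fin n) ≠ idx hn 0 := idx_ne hn (by decide)
  have h32 : (idx hn 3 : Fin n) ≠ idx hn 2 := idx_ne hn (by decide)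
  have h12 : (idx hn 1 : Fin n) ≠ idx hn 2 := idx_ne hn (by decide)
  have h20 : (idx hn 2 : Fin n) ≠ idx hn 0 := idx_ne hn (by decide)
  have h21 : (idx hn 2 : Fin n) ≠ idx hn 1 := idx_ne hn (by decide)
  have e1 : Y 𝟐 𝟑 u = ι (tv h31 1) * Y 𝟐 𝟏 u * (ι (tv h31 1))⁻¹ * (Y 𝟐 𝟏 u)⁻¹ := by
    rw [D.X_Y h31 h32 h12, one_mul, mul_inv_cancel_right]
  have e2 : r * Y 𝟐 𝟏 u * r⁻¹ = ι (tv h20 u) := by
    rw [D.Y_swap h12, D.r_Y1 h20 h21, neg_neg]
  have e3 : r * ι (tv h31 1) * r⁻¹ = Y 𝟑 𝟎 1 := by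
    rw [D.r_X1 h30 h31, D.Y_swap h30, neg_neg]
  have e4 := D.X_Y' h20 h32.symm h30.symm u (1 : F)
  conv_lhs => rw [e1, D.conj_comm_el, e2, e3]
  rw [mul_one] at e4
  rw [D.Y_swap h30.symm, D.Y_neg h30.symm, inv_inv]
  calc (Y 𝟎 𝟑 1)⁻¹ * ι (tv h20 u) * Y 𝟎 𝟑 1 * (ι (tv h20 u))⁻¹
      = (Y 𝟎 𝟑 1)⁻¹ * (ι (tv h20 u) * Y 𝟎 𝟑 1 * (ι (tv h20 u))⁻¹) := by group
    _ = (Y 𝟎 𝟑 1)⁻¹ * Y 𝟐 𝟑 u * Y 𝟎 𝟑 1 := by rw [e4]; group
    _ = _ := by
      have hc : Commute (Y 𝟎 𝟑 1) (Y 𝟐 𝟑 u) := by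
        rw [D.Y_swap h30, D.Y_swap h32]
        exact D.Y_share h30 h32 _ _
      rw [mul_assoc, hc.symm.eq, inv_mul_cancel_left]

/-- `r` fixes the second family away from the first two indices. -/
theorem r_Y_far {k l : Fin n} (hkl : k ≠ l) (hk0 : k ≠ 𝟎) (hk1 : k ≠ 𝟏) (hl0 : l ≠ 𝟎) (hl1 : l ≠ 𝟏)
    (t : F) : r * Y k l t * r⁻¹ = Y k l t := by
  have hf : Function.Injective ![idx hn 0, idx hn 1, idx hn 2, idx hn 3] :=
    inj_four (idx_ne hn (by decide)) (idx_ne hn (by decide)) (idx_ne hn (by decide))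
      (idx_ne hn (by decide)) (idx_ne hn (by decide)) (idx_ne hn (by decide))
  obtain ⟨σ, hσ⟩ := exists_perm_extend hf
    (inj_four (idx_ne hn (show (0 : Fin 4) ≠ 1 by decide)) hk0.symm hl0.symm hk1.symm hl1.symm hkl)
  obtain ⟨g, d, hg, hd⟩ := exists_mon (F := F) σ 𝟐
  have d2 : d 𝟐 ≠ 0 := hg.ne _
  have hm := mon_mem_levP (F := F) (by omega) (idx_ne hn (show (0 : Fin 4) ≠ 1 by decide)) σ g d hg
    (hσ 0) (hσ 1) (by
      rw [hd _ (idx_ne hn (show (0 : Fin 4) ≠ 2 by decide)), hd _ (idx_ne hn (show (1 : Fin 4) ≠ 2 by decide)),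
        one_mul])
  have e : r * ι g = ι g * r := (D.comm_r g hm).eq
  have hy : Y k l t = ι g * Y 𝟐 𝟑 (t / d 𝟐) * (ι g)⁻¹ := by
    rw [D.Y_mon hg (idx_ne hn (show (2 : Fin 4) ≠ 3 by decide))]
    have h2 : σ 𝟐 = k := hσ 2
    have h3 : σ 𝟑 = l := hσ 3
    rw [h2, h3, hd _ (idx_ne hn (show (3 : Fin 4) ≠ 2 by decide)), mul_one, mul_div_cancel₀ _ d2]
  rw [hy]
  calc r * (ι g * Y 𝟐 𝟑 (t / d 𝟐) * (ι g)⁻¹) * r⁻¹
      = (r * ι g) * Y 𝟐 𝟑 (t / d 𝟐) * (r * ι g)⁻¹ := by group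
    _ = ι g * (r * Y 𝟐 𝟑 (t / d 𝟐) * r⁻¹) * (ι g)⁻¹ := by rw [e]; group
    _ = _ := by rw [D.r_Y23]

/-- The second family is abelian. -/
theorem Y_commute {i j k l : Fin n} (hij : i ≠ j) (hkl : k ≠ l) (t u : F) :
    Commute (Y i j t) (Y k l u) := by
  have share := @Y_share _ _ _ _ _ _ _ _ D
  by_cases h1 : i = k
  · subst h1; exact share hij hkl t u
  by_cases h2 : i = l
  · subst h2; rw [D.Y_swap hkl.symm u]; exact share hij hkl.symm t _
  by_cases h3 : j = k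
  · subst h3; rw [D.Y_swap hij.symm t]; exact share hij.symm hkl _ u
  by_cases h4 : j = l
  · subst h4; rw [D.Y_swap hij.symm t, D.Y_swap hkl.symm u]; exact share hij.symm hkl.symm _ _
  obtain ⟨σ, hσ⟩ := exists_perm_extend (f := ![idx hn 1, idx hn 2, idx hn 3, idx hn 0])
    (inj_four (idx_ne hn (by decide)) (idx_ne hn (by decide)) (idx_ne hn (by decide))
      (idx_ne hn (by decide)) (idx_ne hn (by decide)) (idx_ne hn (by decide)))
    (inj_four hij h1 h2 h3 h4 hkl)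
  obtain ⟨g, d, hg, -⟩ := exists_mon (F := F) σ 𝟏
  have e1 : σ 𝟏 = i := hσ 0
  have e2 : σ 𝟐 = j := hσ 1
  have e3 : σ 𝟑 = k := hσ 2
  have e0 : σ 𝟎 = l := hσ 3
  have h20 : (idx hn 2 : Fin n) ≠ idx hn 0 := idx_ne hn (by decide)
  have h30 : (idx hn 3 : Fin n) ≠ idx hn 0 := idx_ne hn (by decide)
  have h31 : (idx hn 3 : Fin n) ≠ idx hn 1 := idx_ne hn (by decide)
  have h12 : (idx hn 1 : Fin n) ≠ idx hn 2 := idx_ne hn (by decide)
  have hb : ∀ t u : F, Commute (Y 𝟏 𝟐 t) (Y 𝟑 𝟎 u) := fun t u => by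
    rw [D.Y_base, D.Y_swap h30.symm, ← D.r_X1 h30 h31, y12]
    exact ((tv_commute h20 h31 h30.symm (idx_ne hn (by decide)) t u).map ι).map
      (MulAut.conj r).toMonoidHom
  have h := (hb (t / (d 𝟏 * d 𝟐)) (u / (d 𝟑 * d 𝟎))).map (MulAut.conj (ι g)).toMonoidHom
  change Commute (ι g * _ * (ι g)⁻¹) (ι g * _ * (ι g)⁻¹) at h
  rw [D.Y_mon hg h12, D.Y_mon hg h30, e1, e2, e3, e0,
    mul_div_cancel₀ _ (mul_ne_zero (hg.ne _) (hg.ne _)),
    mul_div_cancel₀ _ (mul_ne_zero (hg.ne _) (hg.ne _))] at h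
  exact h

theorem C_commute {g : SL} (hg : g ∈ LevP 𝟏 𝟐) :
    Commute (r * ι (w02 hn) * r⁻¹) (ι g) := by
  rw [D.braid]
  obtain ⟨c0, c1, c2⟩ := cyc_apply hn
  have h1 := (pm_mon (F := F) (cyc hn)).inv.conj_levP hg
  rw [show (cyc hn : Perm (Fin n))⁻¹ 𝟏 = 𝟎 by rw [Perm.inv_def, Equiv.symm_apply_eq, c0],
    show (cyc hn : Perm (Fin n))⁻¹ 𝟐 = 𝟏 by rw [Perm.inv_def, Equiv.symm_apply_eq, c1], inv_inv] at h1
  have h := (D.comm_r _ h1).map (MulAut.conj (ι (pm (cyc hn)))).toMonoidHom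
  change Commute (ι (pm (cyc hn)) * r * (ι (pm (cyc hn)))⁻¹)
    (ι (pm (cyc hn)) * ι ((pm (cyc hn))⁻¹ * g * pm (cyc hn)) * (ι (pm (cyc hn)))⁻¹) at h
  rwa [← map_inv, ← map_mul, ← map_mul,
    show pm (cyc hn) * ((pm (cyc hn))⁻¹ * g * pm (cyc hn)) * (pm (cyc hn))⁻¹ = g by group,
    map_inv] at h

/-- The data composed with transpose inverse. -/
theorem dual : Data hn (ι.comp theta) r where
  comm_r g hg := D.comm_r _ (theta_mem_levP hg)
  comm_y g hg := by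
    have h20 : (idx hn 2 : Fin n) ≠ idx hn 0 := idx_ne hn (by decide)
    have e : (w02 (F := F) hn) * tv h20 1 * (w02 hn)⁻¹ = tv h20.symm (-1) := by
      have := (w02_mon (F := F) hn).conj_tv h20 1
      simp only [swap_apply_right, swap_apply_left] at this
      simpa [h20] using this
    show Commute (r * ι (theta (tv h20 1)) * r⁻¹) (ι (theta g))
    rw [theta_tv, ← e]
    have hy := D.y_comm (theta_mem_levP hg) (1 : F)
    have hC := D.C_commute (theta_mem_levP hg)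
    have := (hC.mul_left hy).mul_left hC.inv_left
    rwa [show r * ι (w02 hn) * r⁻¹ * y12 hn ι r 1 * (r * ι (w02 hn) * r⁻¹)⁻¹ =
      r * ι (w02 hn * tv h20 1 * (w02 hn)⁻¹) * r⁻¹ by
        simp only [y12, map_mul, map_inv]; group] at this
  braid := by
    show r * ι (theta (w02 hn)) * r⁻¹ = ι (theta (pm (cyc hn))) * r * (ι (theta (pm (cyc hn))))⁻¹
    rw [theta_w02, theta_pm, D.braid]
  sq := by
    show r * r = ι (theta _)
    rw [theta_dg, D.sq]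

local notation "Z" => Yel hn (MonoidHom.comp ι theta) r

theorem Z_mon {g : SL} {σ : Perm (Fin n)} {c : Fin n → F} (hg : IsMon g σ c) {i j : Fin n}
    (hij : i ≠ j) (t : F) :
    ι g * Z i j t * (ι g)⁻¹ = Z (σ i) (σ j) ((c i)⁻¹ * (c j)⁻¹ * t) := by
  have := D.dual.Y_mon hg.theta hij t
  rwa [MonoidHom.comp_apply, theta_theta] at this

/-- `r` sends the member of the second family on the first two indices to the third family. -/
theorem r_Y10 (t : F) : r * Y 𝟏 𝟎 t * r⁻¹ = Z 𝟏 𝟎 t := by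
  have h03 : (idx hn 0 : Fin n) ≠ idx hn 3 := idx_ne hn (by decide)
  have h13 : (idx hn 1 : Fin n) ≠ idx hn 3 := idx_ne hn (by decide)
  have h01 : (idx hn 0 : Fin n) ≠ idx hn 1 := idx_ne hn (by decide)
  have h30 : (idx hn 3 : Fin n) ≠ idx hn 0 := idx_ne hn (by decide)
  have h31 : (idx hn 3 : Fin n) ≠ idx hn 1 := idx_ne hn (by decide)
  have e1 : Y 𝟏 𝟎 t = ι (tv h03 1) * Y 𝟏 𝟑 t * (ι (tv h03 1))⁻¹ * (Y 𝟏 𝟑 t)⁻¹ := by
    rw [D.X_Y h03 h01 h31, one_mul, mul_inv_cancel_right]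
  have e2 : r * Y 𝟏 𝟑 t * r⁻¹ = (ι.comp theta) (tv h03 t) := by
    rw [D.r_Y1 h30 h31, MonoidHom.comp_apply, theta_tv]
  have e3 : r * ι (tv h03 1) * r⁻¹ = Z 𝟏 𝟑 (-1) := by
    rw [← D.dual.r_X0 h30 h31, MonoidHom.comp_apply, theta_tv, neg_neg]
  have e4 := D.dual.X_Y h03 h01 h31 t (1 : F)
  rw [mul_one] at e4
  conv_lhs => rw [e1, D.conj_comm_el, e2, e3]
  rw [D.dual.Y_neg h13, inv_inv]
  calc (Z 𝟏 𝟑 1)⁻¹ * (ι.comp theta) (tv h03 t) * Z 𝟏 𝟑 1 * ((ι.comp theta) (tv h03 t))⁻¹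
      = (Z 𝟏 𝟑 1)⁻¹ * ((ι.comp theta) (tv h03 t) * Z 𝟏 𝟑 1 * ((ι.comp theta) (tv h03 t))⁻¹) := by
        group
    _ = (Z 𝟏 𝟑 1)⁻¹ * (Z 𝟏 𝟑 1 * Z 𝟏 𝟎 t) := by
        rw [e4, (D.dual.Y_commute h01.symm h13 t 1).eq]
    _ = _ := by group

end Data

end CfsgLib.OmegaPresent
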