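import Cfsg.Agent.Lib.OmegaPresent.Roots

/-!
The group is the product of positive root elements, monomial elements and positive root elements.
-/

set_option autoImplicit false
set_option linter.unusedSectionVars false
set_option linter.unusedSimpArgs false

namespace CfsgLib.OmegaPresent

open Equiv Matrix CfsgLib.SLPresent

variable {F : Type*} [Field F] {n : ℕ} {G : Type*} [Group G]

local notation "SL" => Matrix.SpecialLinearGroup (Fin n) F
local notation "tv" => Matrix.SpecialLinearGroup.transvection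

/-- The weight of a signed index. -/
def wt (I : Fin n × Bool) : ℤ := if I.2 then (I.1.val : ℤ) + 1 else -((I.1.val : ℤ) + 1)

theorem wt_ng (I : Fin n × Bool) : wt (ng I) = -wt I := by
  obtain ⟨a, s⟩ := I
  cases s <;> simp [wt, ng]

theorem wt_inj {I J : Fin n × Bool} (h : wt I = wt J) : I = J := by
  obtain ⟨a, s⟩ := I
  obtain ⟨b, s'⟩ := J
  cases s <;> cases s' <;> simp [wt] at h ⊢ <;> omega

/-- Positivity of a pair of signed indices. -/
def Pos (I J : Fin n × Bool) : Prop := wt J < wt I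

/-- The pair, up to the identification with its reversed negative. -/
def IsA (I J K L : Fin n × Bool) : Prop := (K = I ∧ L = J) ∨ (K = ng J ∧ L = ng I)

theorem liftP_one : liftP (1 : Perm (Fin n)) = 1 := Equiv.ext fun _ => rfl

/-- The subgroup generated by a set of root elements. -/
def Usub (hn : 4 ≤ n) (ι : SL →* G) (r : G) (P : Fin n × Bool → Fin n × Bool → Prop) : Subgroup G :=
  Subgroup.closure {x | ∃ I J t, I.1 ≠ J.1 ∧ P I J ∧ x = RX hn ι r I J t}

theorem RX_mem {hn : 4 ≤ n} {ι : Matrix.SpecialLinearGroup (Fin n) F →* G} {r : G}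
    {P : Fin n × Bool → Fin n × Bool → Prop} {I J : Fin n × Bool} (h : I.1 ≠ J.1) (hP : P I J) (t : F) :
    RX hn ι r I J t ∈ Usub hn ι r P :=
  Subgroup.subset_closure ⟨I, J, t, h, hP, rfl⟩

/-- The positive part. -/
abbrev Upos (hn : 4 ≤ n) (ι : SL →* G) (r : G) : Subgroup G := Usub hn ι r Pos

/-- The positive part without one root. -/
abbrev Uexc (hn : 4 ≤ n) (ι : SL →* G) (r : G) (I J : Fin n × Bool) : Subgroup G :=
  Usub hn ι r fun K L => Pos K L ∧ ¬ IsA I J K L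

/-- The properties of a simple root and its Weyl element used in the step. -/
structure Simple (hn : 4 ≤ n) (ι : SL →* G) (r : G) (I J : Fin n × Bool) (w : G)
    (f : Perm (Fin n × Bool)) : Prop where
  legit : I.1 ≠ J.1
  pos : Pos I J
  w_mem : w ∈ Nsub ι r
  moves : Moves hn ι r w f
  moves_inv : Moves hn ι r w⁻¹ f
  fI : f I = J
  fJ : f J = I
  perm : ∀ K L, K.1 ≠ L.1 → Pos K L → ¬ IsA I J K L → Pos (f K) (f L) ∧ ¬ IsA I J (f K) (f L)
  conj : ∀ s K L (t : F), K.1 ≠ L.1 → Pos K L → ¬ IsA I J K L →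
    RX hn ι r I J s * RX hn ι r K L t * (RX hn ι r I J s)⁻¹ ∈ Uexc hn ι r I J
  sl2 : ∀ s : F, s ≠ 0 → ∃ b, ∃ m ∈ Nsub ι r,
    RX hn ι r J I s = RX hn ι r I J b * m * RX hn ι r I J b

/-- The big product. -/
def Cell (hn : 4 ≤ n) (ι : SL →* G) (r : G) : Set G :=
  {g | ∃ u ∈ Upos hn ι r, ∃ m ∈ Nsub ι r, ∃ v ∈ Upos hn ι r, g = u * m * v}

theorem pos_or {I J : Fin n × Bool} (h : I.1 ≠ J.1) : Pos I J ∨ Pos J I := by
  rcases lt_trichotomy (wt J) (wt I) with h' | h' | h'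
  · exact Or.inl h'
  · exact absurd (congrArg Prod.fst (wt_inj h')).symm h
  · exact Or.inr h'

namespace Data

variable {hn : 4 ≤ n} {ι : Matrix.SpecialLinearGroup (Fin n) F →* G} {r : G} (D : Data hn ι r)
include D

local notation "𝟎" => idx hn 0
local notation "𝟏" => idx hn 1
local notation "𝟐" => idx hn 2

theorem simple_conj_mem {I J : Fin n × Bool} {w : G} {f : Perm (Fin n × Bool)}
    (S : Simple hn ι r I J w f) {u : G} (hu : u ∈ Uexc hn ι r I J) :
    w * u * w⁻¹ ∈ Uexc hn ι r I J ∧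
      ∀ s, RX hn ι r I J s * u * (RX hn ι r I J s)⁻¹ ∈ Uexc hn ι r I J := by
  constructor
  · have : Uexc hn ι r I J ≤ (Uexc hn ι r I J).comap (MulAut.conj w).toMonoidHom := by
      refine (Subgroup.closure_le _).2 ?_
      rintro _ ⟨K, L, t, h, ⟨hP, hA⟩, rfl⟩
      obtain ⟨t', e⟩ := S.moves.2 K L h t
      show w * RX hn ι r K L t * w⁻¹ ∈ Uexc hn ι r I J
      rw [e]
      exact RX_mem (legit_map S.moves.1 h) (S.perm K L h hP hA) t'
    exact this hu
  · intro s
    have : Uexc hn ι r I J ≤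
        (Uexc hn ι r I J).comap (MulAut.conj (RX hn ι r I J s)).toMonoidHom := by
      refine (Subgroup.closure_le _).2 ?_
      rintro _ ⟨K, L, t, h, ⟨hP, hA⟩, rfl⟩
      exact S.conj s K L t h hP hA
    exact this hu

theorem split_upos {I J : Fin n × Bool} {w : G} {f : Perm (Fin n × Bool)}
    (S : Simple hn ι r I J w f) {u : G} (hu : u ∈ Upos hn ι r) :
    ∃ u' ∈ Uexc hn ι r I J, ∃ t, u = u' * RX hn ι r I J t := by
  have step : ∀ K L : Fin n × Bool, K.1 ≠ L.1 → Pos K L → ∀ (s : F) (y : G),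
      (∃ u' ∈ Uexc hn ι r I J, ∃ t, y = u' * RX hn ι r I J t) →
      ∃ u' ∈ Uexc hn ι r I J, ∃ t, RX hn ι r K L s * y = u' * RX hn ι r I J t := by
    rintro K L h hP s y ⟨u', hu', t, rfl⟩
    by_cases hA : IsA I J K L
    · obtain ⟨s', hs'⟩ : ∃ s', RX hn ι r K L s = RX hn ι r I J s' := by
        rcases hA with ⟨rfl, rfl⟩ | ⟨rfl, rfl⟩
        · exact ⟨s, rfl⟩
        · obtain ⟨s', e⟩ := D.RX_ng h s
          exact ⟨s', by rw [e, ng_ng, ng_ng]⟩
      refine ⟨_, (D.simple_conj_mem S hu').2 s', s' + t, ?_⟩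
      rw [hs', D.RX_add S.legit]
      group
    · exact ⟨RX hn ι r K L s * u', mul_mem (RX_mem h (show Pos K L ∧ _ from ⟨hP, hA⟩) s) hu', t,
        (mul_assoc _ _ _).symm⟩
  refine Subgroup.closure_induction_left
    (p := fun u _ => ∃ u' ∈ Uexc hn ι r I J, ∃ t, u = u' * RX hn ι r I J t)
    ⟨1, one_mem _, 0, by rw [D.RX_zero S.legit, mul_one]⟩ ?_ ?_ hu
  · rintro _ ⟨K, L, s, h, hP, rfl⟩ y - hy
    exact step K L h hP s y hy
  · rintro _ ⟨K, L, s, h, hP, rfl⟩ y - hy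
    rw [← D.RX_neg h]
    exact step K L h hP (-s) y hy

theorem uexc_le (I J : Fin n × Bool) : Uexc hn ι r I J ≤ Upos hn ι r :=
  Subgroup.closure_mono fun _ ⟨K, L, t, h, hP, e⟩ => ⟨K, L, t, h, hP.1, e⟩

/-- The key step of the Bruhat decomposition. -/
theorem step {I J : Fin n × Bool} {w : G} {f : Perm (Fin n × Bool)} (S : Simple hn ι r I J w f)
    {g : G} (hg : g ∈ Cell hn ι r) : w * g ∈ Cell hn ι r := by
  obtain ⟨u, hu, m, hm, v, hv, rfl⟩ := hg
  obtain ⟨u', hu', t, rfl⟩ := D.split_upos S hu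
  set x := RX hn ι r I J t with hx
  suffices h : w * x * m * v ∈ Cell hn ι r by
    obtain ⟨a, ha, b, hb, c, hc, e⟩ := h
    refine ⟨w * u' * w⁻¹ * a, mul_mem (D.uexc_le I J (D.simple_conj_mem S hu').1) ha, b, hb, c, hc, ?_⟩
    calc w * (u' * x * m * v) = (w * u' * w⁻¹) * (w * x * m * v) := by group
      _ = _ := by rw [e]; group
  obtain ⟨fm, hfm⟩ := D.exists_moves (inv_mem hm)
  rcases pos_or (legit_map hfm.1 S.legit) with hp | hp
  · obtain ⟨t', e⟩ := hfm.2 I J S.legit t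
    rw [inv_inv, ← hx] at e
    refine ⟨1, one_mem _, w * m, mul_mem S.w_mem hm, RX hn ι r (fm I) (fm J) t' * v,
      mul_mem (RX_mem (legit_map hfm.1 S.legit) hp t') hv, ?_⟩
    rw [← e]
    group
  · obtain ⟨s, hs⟩ := S.moves.2 I J S.legit t
    rw [S.fI, S.fJ, ← hx] at hs
    by_cases hs0 : s = 0
    · have : x = 1 := by
        rw [hs0, D.RX_zero S.legit.symm] at hs
        simpa using hs
      exact ⟨1, one_mem _, w * m, mul_mem S.w_mem hm, v, hv, by rw [this]; group⟩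
    obtain ⟨b, k, hk, hb⟩ := S.sl2 s hs0
    obtain ⟨b', e'⟩ := S.moves_inv.2 I J S.legit b
    rw [S.fI, S.fJ, inv_inv] at e'
    obtain ⟨b'', e''⟩ := hfm.2 J I S.legit.symm b'
    rw [inv_inv] at e''
    refine ⟨RX hn ι r I J b, RX_mem S.legit S.pos b, k * w * m, mul_mem (mul_mem hk S.w_mem) hm,
      RX hn ι r (fm J) (fm I) b'' * v,
      mul_mem (RX_mem (legit_map hfm.1 S.legit.symm) hp b'') hv, ?_⟩
    rw [← e'', ← e']
    calc w * x * m * v = (w * x * w⁻¹) * w * m * v := by group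
      _ = _ := by rw [hs, hb]; group

theorem simple_adj {a b : Fin n} (hab : b.val = a.val + 1) :
    ∃ h : b ≠ a, Simple hn ι r (b, true) (a, true)
      (ι (tv h (1 : F) * tv h.symm (-(1 : F)⁻¹) * tv h 1)) (liftP (swap b a)) := by
  have h : b ≠ a := fun e => by rw [e] at hab; omega
  have hw := wEl_mon (F := F) h one_ne_zero
  refine ⟨h, ⟨h, by simp [Pos, wt]; omega, mon_mem_Nsub ι r hw.mem, D.moves_mon hw, ?_, ?_, ?_, ?_, ?_, ?_⟩⟩
  · rw [← map_inv]
    simpa using D.moves_mon hw.inv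
  · simp [liftP_apply]
  · simp [liftP_apply]
  · rintro ⟨k, s⟩ ⟨l, s'⟩ hkl hp hA
    simp only [liftP_apply, Pos, IsA, ng, Prod.ext_iff, wt, swap_apply_def, Fin.ext_iff] at hp hA hkl ⊢
    have hkl' : k.val ≠ l.val := fun e => hkl (by simpa [Fin.ext_iff] using e)
    cases s <;> cases s' <;> simp at hp hA ⊢ <;> split_ifs <;> omega
  · rintro c ⟨k, s⟩ ⟨l, s'⟩ t hkl hp hA
    have hX : RX hn ι r (b, true) (a, true) c = ι (tv h c) := dif_pos h
    have hmem : ∀ (p q : Fin n) (hpq : p ≠ q), q.val < p.val → ¬ (p = b ∧ q = a) → ∀ u : F,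
        ι (tv hpq u) ∈ Uexc hn ι r (b, true) (a, true) := fun p q hpq hlt hne u => by
      have := RX_mem (hn := hn) (ι := ι) (r := r)
        (P := fun K L => Pos K L ∧ ¬ IsA (b, true) (a, true) K L) (I := (p, true)) (J := (q, true)) hpq
        ⟨by simp [Pos, wt]; omega, by simp [IsA, ng]; exact fun e => fun e' => hne ⟨e, e'⟩⟩ u
      rwa [show RX hn ι r (p, true) (q, true) u = ι (tv hpq u) from dif_pos hpq] at this
    have hY : ∀ (p q : Fin n), p ≠ q → ∀ u : F,
        Yel hn ι r p q u ∈ Uexc hn ι r (b, true) (a, true) := fun p q hpq u =>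
      RX_mem (hn := hn) (ι := ι) (r := r)
        (P := fun K L => Pos K L ∧ ¬ IsA (b, true) (a, true) K L) (I := (p, true)) (J := (q, false)) hpq
        ⟨by simp [Pos, wt]; omega, by simp [IsA, ng]⟩ u
    have hXX : ∀ (p q : Fin n) (hpq : p ≠ q), q.val < p.val → ¬ (p = b ∧ q = a) → ∀ u : F,
        ι (tv h c) * ι (tv hpq u) * (ι (tv h c))⁻¹ ∈ Uexc hn ι r (b, true) (a, true) := by
      intro p q hpq hlt hne u
      rw [← map_inv, ← map_mul, ← map_mul]
      by_cases hpa : p = a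
      · subst hpa
        have hbq : b ≠ q := fun e => by rw [e] at hab; omega
        rw [tv_form h hpq hbq, mul_inv_cancel_right, map_mul]
        refine mul_mem (hmem b q hbq (by omega) (fun e => ?_) _) (hmem _ _ hpq hlt hne u)
        rw [e.2] at hlt; omega
      by_cases hqb : q = b
      · subst hqb
        have hpa' : p ≠ a := hpa
        have e : tv h c * tv hpq u * (tv h c)⁻¹ = tv hpa' (-(u * c)) * tv hpq u := by
          rw [mul_inv_eq_iff_eq_mul, mul_assoc, tv_form hpq h hpa', ← mul_assoc, ← mul_assoc,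
            ← Matrix.SpecialLinearGroup.transvection_add, neg_add_cancel,
            show tv hpa' (0 : F) = 1 from sl_ext (by simp [Matrix.SpecialLinearGroup.transvection_coe]),
            one_mul]
        rw [e, map_mul]
        refine mul_mem (hmem p a hpa' (by omega) (fun e => ?_) _) (hmem _ _ hpq hlt hne u)
        rw [e.1] at hlt; omega
      rw [(tv_commute h hpq (Ne.symm hpa) (Ne.symm hqb) c u).eq, mul_inv_cancel_right]
      exact hmem _ _ hpq hlt hne u
    have hXY : ∀ (p q : Fin n), p ≠ q → ∀ u : F,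
        ι (tv h c) * Yel hn ι r p q u * (ι (tv h c))⁻¹ ∈ Uexc hn ι r (b, true) (a, true) := by
      intro p q hpq u
      by_cases hc : (a ≠ p ∧ a ≠ q) ∨ ((b = p ∨ b = q) ∧ (a = p ∨ a = q))
      · rw [(D.X_Y_comm h hpq hc c u).eq, mul_inv_cancel_right]
        exact hY p q hpq u
      by_cases hap : a = p
      · subst hap
        have hbq : b ≠ q := fun e => hc (Or.inr ⟨Or.inr e, Or.inl rfl⟩)
        rw [D.X_Y' h hbq hpq]
        exact mul_mem (hY _ _ hbq _) (hY _ _ hpq _)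
      · have haq : a = q := by
          by_contra hq
          exact hc (Or.inl ⟨hap, hq⟩)
        subst haq
        have hbp : b ≠ p := fun e => hc (Or.inr ⟨Or.inl e, Or.inr rfl⟩)
        rw [D.X_Y h hbp (Ne.symm hpq)]
        exact mul_mem (hY _ _ hbp.symm _) (hY _ _ hpq _)
    rw [hX]
    cases s <;> cases s'
    · rw [show RX hn ι r (k, false) (l, false) t = ι (tv (Ne.symm hkl) t) from dif_pos (Ne.symm hkl)]
      refine hXX l k _ ?_ (fun e => hA (Or.inr ⟨by simp [ng, e.2], by simp [ng, e.1]⟩)) t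
      simp [Pos, wt] at hp; omega
    · simp [Pos, wt] at hp; omega
    · exact hXY k l hkl t
    · rw [show RX hn ι r (k, true) (l, true) t = ι (tv hkl t) from dif_pos hkl]
      refine hXX k l _ ?_ (fun e => hA (Or.inl ⟨by rw [e.1], by rw [e.2]⟩)) t
      simp [Pos, wt] at hp; omega
  · intro s hs
    refine ⟨s⁻¹, ι (tv h (-s⁻¹) * tv h.symm (-(-s⁻¹)⁻¹) * tv h (-s⁻¹)),
      mon_mem_Nsub ι r (wEl_mon h (neg_ne_zero.2 (inv_ne_zero hs))).mem, ?_⟩
    rw [show RX hn ι r (a, true) (b, true) s = ι (tv h.symm s) from dif_pos h.symm,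
      show RX hn ι r (b, true) (a, true) s⁻¹ = ι (tv h s⁻¹) from dif_pos h, ← map_mul, ← map_mul,
      inv_neg, neg_neg, inv_inv, ← tv_inv h s⁻¹]
    congr 1
    group

theorem simple_r : Simple hn ι r (𝟎, true) (𝟏, false) r (sigR hn) := by
  obtain ⟨s0, s1, sk⟩ := sigR_apply hn
  have h01 : (idx hn 0 : Fin n) ≠ idx hn 1 := idx_ne hn (by decide)
  have h20 : (idx hn 2 : Fin n) ≠ idx hn 0 := idx_ne hn (by decide)
  have h21 : (idx hn 2 : Fin n) ≠ idx hn 1 := idx_ne hn (by decide)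
  have v0 : (idx hn 0).val = 0 := rfl
  have v1 : (idx hn 1).val = 1 := rfl
  refine ⟨h01, ?_, r_mem_Nsub ι r, D.moves_r, ?_, ?_, ?_, ?_, ?_, ?_⟩
  · simp [Pos, wt, v0, v1]
  · rw [D.inv_r, ← map_inv]
    simpa [liftP_one] using
      D.moves_mul D.moves_r (D.moves_mon (dg_mon h01 (-1 : Fˣ)).inv)
  · rw [s0]; rfl
  · rw [s1]; rfl
  · rintro ⟨k, s⟩ ⟨l, s'⟩ hkl hp hA
    have hkl' : k.val ≠ l.val := fun e => hkl (Fin.ext e)
    have hcase : ∀ x : Fin n, x = 𝟎 ∨ x = 𝟏 ∨ (x ≠ 𝟎 ∧ x ≠ 𝟏 ∧ 2 ≤ x.val) := fun x => by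
      by_cases h0 : x = 𝟎
      · exact Or.inl h0
      by_cases h1 : x = 𝟏
      · exact Or.inr (Or.inl h1)
      refine Or.inr (Or.inr ⟨h0, h1, ?_⟩)
      rw [Fin.ext_iff, v0] at h0
      rw [Fin.ext_iff, v1] at h1
      omega
    rcases hcase k with rfl | rfl | ⟨k0, k1, k2⟩ <;> rcases hcase l with rfl | rfl | ⟨l0, l1, l2⟩ <;>
      cases s <;> cases s' <;>
      simp [Pos, IsA, ng, wt, s0, s1, v0, v1, h01, h01.symm, *] at hp hA hkl ⊢ <;> omega
  · rintro c ⟨k, s⟩ ⟨l, s'⟩ t hkl hp hA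
    have hX : RX hn ι r (𝟎, true) (𝟏, false) c = Yel hn ι r 𝟎 𝟏 c := rfl
    have hY : ∀ (p q : Fin n), p ≠ q → ¬ ((p = 𝟎 ∧ q = 𝟏) ∨ (p = 𝟏 ∧ q = 𝟎)) → ∀ u : F,
        Yel hn ι r p q u ∈ Uexc hn ι r (𝟎, true) (𝟏, false) := fun p q hpq hne u =>
      RX_mem (hn := hn) (ι := ι) (r := r)
        (P := fun K L => Pos K L ∧ ¬ IsA (𝟎, true) (𝟏, false) K L) (I := (p, true)) (J := (q, false)) hpq
        ⟨by simp [Pos, wt]; omega, by simp [IsA, ng]; tauto⟩ u
    have hmem : ∀ (p q : Fin n) (hpq : p ≠ q), q.val < p.val → ∀ u : F,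
        ι (tv hpq u) ∈ Uexc hn ι r (𝟎, true) (𝟏, false) := fun p q hpq hlt u => by
      have := RX_mem (hn := hn) (ι := ι) (r := r)
        (P := fun K L => Pos K L ∧ ¬ IsA (𝟎, true) (𝟏, false) K L) (I := (p, true)) (J := (q, true)) hpq
        ⟨by simp [Pos, wt]; omega, by simp [IsA, ng]⟩ u
      rwa [show RX hn ι r (p, true) (q, true) u = ι (tv hpq u) from dif_pos hpq] at this
    have hXX : ∀ (p q : Fin n) (hpq : p ≠ q), q.val < p.val → ∀ u : F,
        Yel hn ι r 𝟎 𝟏 c * ι (tv hpq u) * (Yel hn ι r 𝟎 𝟏 c)⁻¹ ∈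
          Uexc hn ι r (𝟎, true) (𝟏, false) := by
      intro p q hpq hlt u
      by_cases hq : (q ≠ 𝟎 ∧ q ≠ 𝟏) ∨ ((p = 𝟎 ∨ p = 𝟏) ∧ (q = 𝟎 ∨ q = 𝟏))
      · rw [(D.X_Y_comm hpq h01 hq u c).symm.eq, mul_inv_cancel_right]
        exact hmem p q hpq hlt u
      have hp0 : p ≠ 𝟎 := fun e => by rw [e, v0] at hlt; omega
      obtain ⟨y, hy, e⟩ : ∃ y ∈ Uexc hn ι r (𝟎, true) (𝟏, false),
          ι (tv hpq u) * Yel hn ι r 𝟎 𝟏 c * (ι (tv hpq u))⁻¹ = y * Yel hn ι r 𝟎 𝟏 c := by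
        by_cases hq0 : q = 𝟎
        · subst hq0
          have hp1 : p ≠ 𝟏 := fun e => hq (Or.inr ⟨Or.inr e, Or.inl rfl⟩)
          refine ⟨_, hY p 𝟏 hp1 ?_ _, D.X_Y' hpq hp1 h01 u c⟩
          rintro (⟨e, -⟩ | ⟨e, -⟩)
          · exact hp0 e
          · exact hp1 e
        · have hq1 : q = 𝟏 := by
            by_contra hq'
            exact hq (Or.inl ⟨hq0, hq'⟩)
          subst hq1
          refine ⟨_, hY 𝟎 p hp0.symm ?_ _, D.X_Y hpq hp0 h01.symm u c⟩
          rintro (⟨-, e⟩ | ⟨e, -⟩)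
          · exact hpq e
          · exact h01 e
      have e2 : Yel hn ι r 𝟎 𝟏 c * ι (tv hpq u) * (Yel hn ι r 𝟎 𝟏 c)⁻¹ = y⁻¹ * ι (tv hpq u) := by
        have e3 : ι (tv hpq u) * Yel hn ι r 𝟎 𝟏 c =
            y * Yel hn ι r 𝟎 𝟏 c * ι (tv hpq u) := mul_inv_eq_iff_eq_mul.1 e
        rw [mul_inv_eq_iff_eq_mul, mul_assoc, e3]
        group
      rw [e2]
      exact mul_mem (inv_mem hy) (hmem p q hpq hlt u)
    rw [hX]
    cases s <;> cases s'
    · rw [show RX hn ι r (k, false) (l, false) t = ι (tv (Ne.symm hkl) t) from dif_pos (Ne.symm hkl)]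
      refine hXX l k _ ?_ t
      simp [Pos, wt] at hp; omega
    · simp [Pos, wt] at hp; omega
    · show _ * Yel hn ι r k l t * _ ∈ _
      rw [(D.Y_commute h01 hkl c t).eq, mul_inv_cancel_right]
      refine hY k l hkl ?_ t
      rintro (⟨rfl, rfl⟩ | ⟨rfl, rfl⟩)
      · exact hA (Or.inl ⟨rfl, rfl⟩)
      · exact hA (Or.inr ⟨rfl, rfl⟩)
    · rw [show RX hn ι r (k, true) (l, true) t = ι (tv hkl t) from dif_pos hkl]
      refine hXX k l _ ?_ t
      simp [Pos, wt] at hp; omega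
  · intro s hs
    obtain ⟨g, c, hg, hc⟩ := exists_mon (F := F) (swap 𝟐 𝟎) (idx hn 3)
    have c1 : c 𝟏 = 1 := hc _ (idx_ne hn (by decide))
    have c2 : c 𝟐 = 1 := hc _ (idx_ne hn (by decide))
    have g1 : swap 𝟐 𝟎 𝟏 = 𝟏 := swap_apply_of_ne_of_ne h21.symm h01.symm
    set b : F := -s⁻¹ with hb
    set W : SL := tv h20 (-b) * tv h20.symm (-(-b)⁻¹) * tv h20 (-b) with hW
    have hWm := wEl_mon (F := F) h20 (neg_ne_zero.2 (show b ≠ 0 from neg_ne_zero.2 (inv_ne_zero hs)))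
    have hid : (tv h20.symm (-s) : SL) = tv h20 b * W * tv h20 b := by
      rw [hW, ← tv_inv h20 b]
      have : -(-b)⁻¹ = -s := by rw [hb, neg_neg, inv_inv]
      rw [this]
      group
    have hz : Yel hn (ι.comp theta) r 𝟏 𝟐 s =
        y12 hn ι r b * (r * ι W * r⁻¹) * y12 hn ι r b := by
      rw [← D.dual.r_X0 h20 h21, MonoidHom.comp_apply, theta_tv, hid, y12, map_mul, map_mul]
      group
    refine ⟨-b, ι g * (r * ι W * r⁻¹) * (ι g)⁻¹,
      mul_mem (mul_mem (mon_mem_Nsub ι r hg.mem)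
        (mul_mem (mul_mem (r_mem_Nsub ι r) (mon_mem_Nsub ι r hWm.mem)) (inv_mem (r_mem_Nsub ι r))))
        (inv_mem (mon_mem_Nsub ι r hg.mem)), ?_⟩
    show Yel hn (ι.comp theta) r 𝟏 𝟎 s =
      Yel hn ι r 𝟎 𝟏 (-b) * _ * Yel hn ι r 𝟎 𝟏 (-b)
    have e := D.Z_mon hg h21.symm s
    rw [g1, swap_apply_left, c1, c2, inv_one, one_mul, one_mul] at e
    have ey := D.Y_of hg b
    rw [g1, swap_apply_left, c1, c2, one_mul, one_mul, D.Y_swap h01] at ey
    rw [← e, hz, ← ey]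
    group

/-- The positive root groups and their conjugates exhaust the group. -/
theorem bruhat (hgen : Subgroup.closure (Set.range ι ∪ {r}) = ⊤) (x : G) : x ∈ Cell hn ι r := by
  let H : Subgroup G :=
    { carrier := {y | ∀ g ∈ Cell hn ι r, y * g ∈ Cell hn ι r ∧ y⁻¹ * g ∈ Cell hn ι r}
      mul_mem' := fun {a b} ha hb g hg => by
        refine ⟨?_, ?_⟩
        · rw [mul_assoc]; exact (ha _ (hb g hg).1).1
        · rw [_root_.mul_inv_rev, mul_assoc]; exact (hb _ (ha g hg).2).2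
      one_mem' := fun g hg => by simp [hg]
      inv_mem' := fun {a} ha g hg => by simpa using (ha g hg).symm }
  have hU : Upos hn ι r ≤ H := fun u hu g hg => by
    obtain ⟨a, ha, b, hb, c, hc, rfl⟩ := hg
    exact ⟨⟨u * a, mul_mem hu ha, b, hb, c, hc, by group⟩,
      ⟨u⁻¹ * a, mul_mem (inv_mem hu) ha, b, hb, c, hc, by group⟩⟩
  have hfin : ∀ {w : G} {I J : Fin n × Bool} {f : Perm (Fin n × Bool)}, Simple hn ι r I J w f →
      ∀ {d : G}, d ∈ Nsub ι r → w⁻¹ = w * d → Moves hn ι r d 1 → w ∈ H := by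
    intro w I J f S d hd e hdm g hg
    refine ⟨D.step S hg, ?_⟩
    rw [e, mul_assoc]
    refine D.step S ?_
    obtain ⟨a, ha, b, hb, c, hc, rfl⟩ := hg
    have hda : d * a * d⁻¹ ∈ Upos hn ι r := by
      have : Upos hn ι r ≤ (Upos hn ι r).comap (MulAut.conj d).toMonoidHom := by
        refine (Subgroup.closure_le _).2 ?_
        rintro _ ⟨K, L, t, h, hP, rfl⟩
        obtain ⟨t', e'⟩ := hdm.2 K L h t
        show d * RX hn ι r K L t * d⁻¹ ∈ Upos hn ι r
        rw [e']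
        exact RX_mem h hP t'
      exact this ha
    exact ⟨_, hda, d * b, mul_mem hd hb, c, hc, by group⟩
  have hr : r ∈ H := by
    have hd := (dg_mon (F := F) (idx_ne hn (show (0 : Fin 4) ≠ 1 by decide)) (-1 : Fˣ)).inv
    refine hfin D.simple_r (mon_mem_Nsub ι r hd.mem) (by rw [map_inv]; exact D.inv_r) ?_
    simpa [liftP_one] using D.moves_mon hd
  have hadj : ∀ a b : Fin n, b.val = a.val + 1 →
      ∃ (g : SL) (c : Fin n → F), IsMon g (swap b a) c ∧ ι g ∈ H := by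
    intro a b hab
    obtain ⟨h, S⟩ := D.simple_adj hab
    have hw := wEl_mon (F := F) h one_ne_zero
    refine ⟨_, _, hw, ?_⟩
    generalize (tv h (1 : F) * tv h.symm (-(1 : F)⁻¹) * tv h 1 : SL) = w at hw S ⊢
    have hd := (hw.mul hw).inv
    rw [Equiv.swap_mul_self, inv_one] at hd
    refine hfin S (mon_mem_Nsub ι r hd.mem) (by rw [map_inv, map_mul, _root_.mul_inv_rev, ← mul_assoc, mul_inv_cancel, one_mul]) ?_
    simpa [liftP_one] using D.moves_mon hd
  let P : Submonoid (Perm (Fin n)) :=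
    { carrier := {σ | ∃ (g : SL) (c : Fin n → F), IsMon g σ c ∧ ι g ∈ H}
      one_mem' := ⟨1, _, isMon_one, by rw [map_one]; exact one_mem H⟩
      mul_mem' := fun ⟨g, c, hg, hgH⟩ ⟨g', c', hg', hgH'⟩ =>
        ⟨_, _, hg.mul hg', by rw [map_mul]; exact mul_mem hgH hgH'⟩ }
  have hP : ∀ σ, σ ∈ P := by
    obtain ⟨m, rfl⟩ : ∃ m, n = m + 1 := ⟨n - 1, by omega⟩
    intro σ
    have htop : Submonoid.closure (Set.range fun i : Fin m ↦ Equiv.swap i.castSucc i.succ) = ⊤ :=
      Equiv.Perm.mclosure_swap_castSucc_succ m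
    refine (Submonoid.closure_le (S := P)).2 ?_ (htop.symm ▸ Submonoid.mem_top σ)
    rintro _ ⟨i, rfl⟩
    show ∃ (g : Matrix.SpecialLinearGroup (Fin (m + 1)) F) (c : Fin (m + 1) → F),
      IsMon g (swap i.castSucc i.succ) c ∧ ι g ∈ H
    rw [Equiv.swap_comm]
    exact hadj _ _ (by simp)
  have hι : ∀ g, ι g ∈ H := by
    have htop : H.comap ι = ⊤ := by
      refine Cfsg.Agent.Classical.sl_subgroup_eq_top_of_transvection_mem _ fun i j hij c => ?_
      show ι (tv hij c) ∈ H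
      have hlow : ∀ (p q : Fin n) (hpq : p ≠ q), q.val < p.val → ∀ u : F, ι (tv hpq u) ∈ H := by
        intro p q hpq hlt u
        refine hU ?_
        have := RX_mem (hn := hn) (ι := ι) (r := r) (P := Pos) (I := (p, true)) (J := (q, true)) hpq
          (by simp [Pos, wt]; omega) u
        rwa [show RX hn ι r (p, true) (q, true) u = ι (tv hpq u) from dif_pos hpq] at this
      rcases Nat.lt_or_ge j.val i.val with hlt | hge
      · exact hlow i j hij hlt c
      obtain ⟨g, d, hg, hgH⟩ := hP (swap i j)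
      have hlt : i.val < j.val := lt_of_le_of_ne hge fun e => hij (Fin.ext e)
      have e := hg.conj_tv hij.symm (d i / d j * c)
      simp only [swap_apply_left, swap_apply_right] at e
      rw [show d j / d i * (d i / d j * c) = c by
        have := hg.ne i
        have := hg.ne j
        field_simp] at e
      rw [← e, map_mul, map_mul, map_inv]
      exact mul_mem (mul_mem hgH (hlow j i hij.symm hlt _)) (inv_mem hgH)
    intro g
    exact (htop.symm ▸ Subgroup.mem_top g : g ∈ H.comap ι)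
  have hx : x ∈ H := by
    have : Subgroup.closure (Set.range ι ∪ {r}) ≤ H := by
      refine (Subgroup.closure_le _).2 ?_
      rintro y (⟨g, rfl⟩ | rfl)
      · exact hι g
      · exact hr
    exact this (hgen.symm ▸ Subgroup.mem_top x)
  have := (hx 1 ⟨1, one_mem _, 1, one_mem _, 1, one_mem _, by group⟩).1
  rwa [mul_one] at this

end Data

end CfsgLib.OmegaPresent
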