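import Cfsg.Agent.Lib.OmegaPresent.Mono

/-!
A special linear group and one element with a few relations: the second family of root elements.
-/

set_option autoImplicit false
set_option linter.unusedSectionVars false
set_option linter.unusedSimpArgs false

namespace CfsgLib.OmegaPresent

open Equiv Matrix CfsgLib.SLPresent

variable {F : Type*} [Field F] {n : ℕ} {G : Type*} [Group G]

local notation "SL" => Matrix.SpecialLinearGroup (Fin n) F
local notation "tv" => Matrix.SpecialLinearGroup.transvection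

/-- The exchanging element of the first and third indices. -/
def w02 (hn : 4 ≤ n) : SL :=
  tv (idx_ne hn (show (0 : Fin 4) ≠ 2 by decide)) (-1) *
    tv (idx_ne hn (show (2 : Fin 4) ≠ 0 by decide)) (-(-1 : F)⁻¹) *
    tv (idx_ne hn (show (0 : Fin 4) ≠ 2 by decide)) (-1)

/-- The relations beyond those of the special linear group. -/
structure Data (hn : 4 ≤ n) (ι : SL →* G) (r : G) : Prop where
  comm_r : ∀ g ∈ LevP (idx hn 0) (idx hn 1), Commute r (ι g)
  comm_y : ∀ g ∈ LevP (idx hn 1) (idx hn 2),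
    Commute (r * ι (tv (idx_ne hn (show (2 : Fin 4) ≠ 0 by decide)) 1) * r⁻¹) (ι g)
  braid : r * ι (w02 hn) * r⁻¹ = ι (pm (cyc hn)) * r * (ι (pm (cyc hn)))⁻¹
  sq : r * r = ι (dg _ _ (idx_ne hn (show (0 : Fin 4) ≠ 1 by decide)) (-1))

/-- The first elements of the second family. -/
def y12 (hn : 4 ≤ n) (ι : SL →* G) (r : G) (t : F) : G :=
  r * ι (tv (idx_ne hn (show (2 : Fin 4) ≠ 0 by decide)) t) * r⁻¹

theorem exists_carrier (hn : 4 ≤ n) {i j : Fin n} (h : i ≠ j) :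
    ∃ (g : SL) (σ : Perm (Fin n)) (c : Fin n → F), IsMon g σ c ∧ σ (idx hn 1) = i ∧
      σ (idx hn 2) = j ∧ c (idx hn 1) = 1 ∧ c (idx hn 2) = 1 := by
  obtain ⟨σ, hσ⟩ := exists_perm_extend (f := ![idx hn 1, idx hn 2]) (g := ![i, j])
    (fun x y e => by
      fin_cases x <;> fin_cases y <;>
        simp [idx_ne hn (show (1 : Fin 4) ≠ 2 by decide), idx_ne hn (show (2 : Fin 4) ≠ 1 by decide)] at e ⊢)
    (fun x y e => by fin_cases x <;> fin_cases y <;> simp [h, h.symm] at e ⊢)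
  obtain ⟨g, c, hg, hc⟩ := exists_mon (F := F) σ (idx hn 0)
  exact ⟨g, σ, c, hg, hσ 0, hσ 1, hc _ (idx_ne hn (by decide)), hc _ (idx_ne hn (by decide))⟩

/-- The second family of root elements. -/
noncomputable def Yel (hn : 4 ≤ n) (ι : SL →* G) (r : G) (i j : Fin n) (t : F) : G :=
  if h : i ≠ j then
    ι (exists_carrier (F := F) hn h).choose * y12 hn ι r t *
      (ι (exists_carrier (F := F) hn h).choose)⁻¹
  else 1

namespace Data

variable {hn : 4 ≤ n} {ι : Matrix.SpecialLinearGroup (Fin n) F →* G} {r : G} (D : Data hn ι r)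
include D

local notation "𝟎" => idx hn 0
local notation "𝟏" => idx hn 1
local notation "𝟐" => idx hn 2
local notation "𝟑" => idx hn 3
local notation "Y" => Yel hn ι r

theorem r_fix {g : SL} (hg : g ∈ LevP 𝟎 𝟏) : r * ι g * r⁻¹ = ι g := by
  rw [(D.comm_r g hg).eq, mul_inv_cancel_right]

theorem inv_r : r⁻¹ = r * (ι (dg _ _ (idx_ne hn (show (0 : Fin 4) ≠ 1 by decide)) (-1 : Fˣ)))⁻¹ := by
  rw [← D.sq]; group

theorem y_add (t u : F) : y12 hn ι r (t + u) = y12 hn ι r t * y12 hn ι r u := by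
  rw [y12, Matrix.SpecialLinearGroup.transvection_add, map_mul, y12, y12]; group

theorem y_zero : y12 hn ι r (0 : F) = 1 := by
  rw [y12, show tv (idx_ne hn (show (2 : Fin 4) ≠ 0 by decide)) (0 : F) = 1 from
    sl_ext (by simp [Matrix.SpecialLinearGroup.transvection_coe]), map_one, mul_one, mul_inv_cancel]

/-- A diagonal element on the last two of the first four indices scales the first family element. -/
theorem y_scale (u : Fˣ) (t : F) :
    ι (dg 𝟐 𝟑 (idx_ne hn (by decide)) u) * y12 hn ι r t *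
      (ι (dg 𝟐 𝟑 (idx_ne hn (by decide)) u))⁻¹ = y12 hn ι r ((u : F) * t) := by
  have hm : (dg 𝟐 𝟑 (idx_ne hn (by decide)) u : SL) ∈ LevP 𝟎 𝟏 := dg_mem_levP _
    (iff_of_false (by simp [idx_ne hn (show (2 : Fin 4) ≠ 0 by decide), idx_ne hn (show (2 : Fin 4) ≠ 1 by decide)])
      (by simp [idx_ne hn (show (3 : Fin 4) ≠ 0 by decide), idx_ne hn (show (3 : Fin 4) ≠ 1 by decide)])) _
  have e : r * ι (dg 𝟐 𝟑 (idx_ne hn (by decide)) u) =
      ι (dg 𝟐 𝟑 (idx_ne hn (by decide)) u) * r := (D.comm_r _ hm).eq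
  have h := (dg_mon (F := F) (idx_ne hn (show (2 : Fin 4) ≠ 3 by decide)) u).conj_tv
    (idx_ne hn (show (2 : Fin 4) ≠ 0 by decide)) t
  simp only [hVec, if_true, idx_ne hn (show (0 : Fin 4) ≠ 2 by decide),
    idx_ne hn (show (0 : Fin 4) ≠ 3 by decide), if_false, div_one] at h
  rw [y12, y12]
  calc ι (dg 𝟐 𝟑 (idx_ne hn (by decide)) u) *
        (r * ι (tv (idx_ne hn (show (2 : Fin 4) ≠ 0 by decide)) t) * r⁻¹) *
        (ι (dg 𝟐 𝟑 (idx_ne hn (by decide)) u))⁻¹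
      = (ι (dg 𝟐 𝟑 (idx_ne hn (by decide)) u) * r) *
        ι (tv (idx_ne hn (show (2 : Fin 4) ≠ 0 by decide)) t) *
        (ι (dg 𝟐 𝟑 (idx_ne hn (by decide)) u) * r)⁻¹ := by group
    _ = (r * ι (dg 𝟐 𝟑 (idx_ne hn (by decide)) u)) *
        ι (tv (idx_ne hn (show (2 : Fin 4) ≠ 0 by decide)) t) *
        (r * ι (dg 𝟐 𝟑 (idx_ne hn (by decide)) u))⁻¹ := by rw [e]
    _ = r * ι (dg 𝟐 𝟑 (idx_ne hn (by decide)) u *
        tv (idx_ne hn (show (2 : Fin 4) ≠ 0 by decide)) t *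
        (dg 𝟐 𝟑 (idx_ne hn (by decide)) u)⁻¹) * r⁻¹ := by
      simp only [map_mul, map_inv]; group
    _ = _ := by rw [h]; rfl

/-- Every element of the first family commutes with the block group of its two indices. -/
theorem y_comm {g : SL} (hg : g ∈ LevP 𝟏 𝟐) (t : F) : Commute (y12 hn ι r t) (ι g) := by
  rcases eq_or_ne t 0 with rfl | ht
  · rw [D.y_zero]; exact Commute.one_left _
  set u : Fˣ := Units.mk0 t ht
  set d : SL := dg 𝟐 𝟑 (idx_ne hn (by decide)) u with hd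
  have h1 := IsMon.conj_levP ((dg_mon (F := F) (idx_ne hn (show (2 : Fin 4) ≠ 3 by decide)) u).inv) hg
  simp only [inv_one, Perm.coe_one, id, inv_inv] at h1
  have h2 := (D.comm_y _ h1).map (MulAut.conj (ι d)).toMonoidHom
  have e := D.y_scale u 1
  rw [mul_one] at e
  change Commute (ι d * y12 hn ι r 1 * (ι d)⁻¹) (ι d * ι (d⁻¹ * g * d) * (ι d)⁻¹) at h2
  rw [← hd] at e
  rw [e, ← map_inv, ← map_mul, ← map_mul,
    show d * (d⁻¹ * g * d) * d⁻¹ = g by group] at h2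
  exact h2

/-- A monomial element keeping both indices scales the first family element. -/
theorem y_mon {g : SL} {σ : Perm (Fin n)} {c : Fin n → F} (hg : IsMon g σ c) (h1 : σ 𝟏 = 𝟏)
    (h2 : σ 𝟐 = 𝟐) (t : F) :
    ι g * y12 hn ι r t * (ι g)⁻¹ = y12 hn ι r (c 𝟏 * c 𝟐 * t) := by
  set u : Fˣ := Units.mk0 (c 𝟏 * c 𝟐) (mul_ne_zero (hg.ne _) (hg.ne _)) with hu
  set d : SL := dg 𝟐 𝟑 (idx_ne hn (by decide)) u with hd
  have hh := (dg_mon (F := F) (idx_ne hn (show (2 : Fin 4) ≠ 3 by decide)) u).inv.mul hg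
  rw [inv_one, one_mul] at hh
  have h12 : (idx hn 1 : Fin n) ≠ idx hn 2 := idx_ne hn (by decide)
  have hmem := mon_mem_levP (i := 𝟏) (j := 𝟐) (by omega) h12 σ _ _ hh h1 h2 (by
    simp [hVec, h1, h2, idx_ne hn (show (1 : Fin 4) ≠ 3 by decide), h12, hu]
    field_simp [hg.ne 𝟏, hg.ne 𝟐])
  calc ι g * y12 hn ι r t * (ι g)⁻¹
      = ι d * (ι (d⁻¹ * g) * y12 hn ι r t * (ι (d⁻¹ * g))⁻¹) * (ι d)⁻¹ := by
        simp only [map_mul, map_inv]; group
    _ = ι d * y12 hn ι r t * (ι d)⁻¹ := by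
        rw [(D.y_comm hmem t).symm.eq, mul_inv_cancel_right]
    _ = _ := D.y_scale u t

/-- The defining property of the second family. -/
theorem Y_of {g : SL} {σ : Perm (Fin n)} {c : Fin n → F} (hg : IsMon g σ c) (t : F) :
    ι g * y12 hn ι r t * (ι g)⁻¹ = Y (σ 𝟏) (σ 𝟐) (c 𝟏 * c 𝟐 * t) := by
  have hne : σ 𝟏 ≠ σ 𝟐 := σ.injective.ne (idx_ne hn (by decide))
  obtain ⟨τ, e, he, h1, h2, e1, e2⟩ := (exists_carrier (F := F) hn hne).choose_spec
  rw [Yel, dif_pos hne]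
  set k := (exists_carrier (F := F) hn hne).choose
  have hh := he.inv.mul hg
  have := D.y_mon hh
    (by rw [Perm.mul_apply, Perm.inv_def, Equiv.symm_apply_eq, h1])
    (by rw [Perm.mul_apply, Perm.inv_def, Equiv.symm_apply_eq, h2]) t
  have i1 : τ⁻¹ (σ 𝟏) = 𝟏 := by rw [Perm.inv_def, Equiv.symm_apply_eq, h1]
  have i2 : τ⁻¹ (σ 𝟐) = 𝟐 := by rw [Perm.inv_def, Equiv.symm_apply_eq, h2]
  simp only [i1, i2, e1, e2, inv_one, one_mul] at this
  rw [← this]
  simp only [map_mul, map_inv]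
  group

theorem Y_base (t : F) : Y 𝟏 𝟐 t = y12 hn ι r t := by
  have := D.Y_of isMon_one t
  simp only [map_one, one_mul, inv_one, mul_one, Perm.coe_one, id] at this
  exact this.symm

/-- Monomial elements permute the second family. -/
theorem Y_mon {g : SL} {σ : Perm (Fin n)} {c : Fin n → F} (hg : IsMon g σ c) {i j : Fin n}
    (hij : i ≠ j) (t : F) :
    ι g * Y i j t * (ι g)⁻¹ = Y (σ i) (σ j) (c i * c j * t) := by
  obtain ⟨τ, e, he, h1, h2, e1, e2⟩ := (exists_carrier (F := F) hn hij).choose_spec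
  have := D.Y_of (hg.mul he) t
  simp only [Perm.mul_apply, h1, h2, e1, e2, mul_one] at this
  rw [← this, Yel, dif_pos hij, map_mul]
  group

theorem Y_add {i j : Fin n} (hij : i ≠ j) (t u : F) : Y i j (t + u) = Y i j t * Y i j u := by
  rw [Yel, dif_pos hij, Yel, dif_pos hij, Yel, dif_pos hij, D.y_add]; group

theorem Y_zero {i j : Fin n} (hij : i ≠ j) : Y i j (0 : F) = 1 := by
  rw [Yel, dif_pos hij, D.y_zero]; group

theorem Y_neg {i j : Fin n} (hij : i ≠ j) (t : F) : Y i j (-t) = (Y i j t)⁻¹ := by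
  rw [eq_inv_iff_mul_eq_one, ← D.Y_add hij, neg_add_cancel, D.Y_zero hij]

theorem Y_swap {i j : Fin n} (hij : i ≠ j) (t : F) : Y j i t = Y i j (-t) := by
  have base : ∀ t, Y 𝟐 𝟏 t = Y 𝟏 𝟐 (-t) := fun t => by
    have h12 : (idx hn 1 : Fin n) ≠ idx hn 2 := idx_ne hn (by decide)
    have hw := wEl_mon (F := F) h12 one_ne_zero
    have hm := wEl_mem_levP (F := F) (i := 𝟏) (j := 𝟐) h12 (by simp [Same]) (1 : F)
    have h := D.Y_of hw (-t)
    rw [(D.y_comm hm (-t)).symm.eq, mul_inv_cancel_right] at h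
    rw [D.Y_base, h]
    simp [h12, h12.symm]
  obtain ⟨σ, hσ⟩ := exists_perm_extend (f := ![idx hn 1, idx hn 2]) (g := ![i, j])
    (fun x y e => by
      fin_cases x <;> fin_cases y <;>
        simp [idx_ne hn (show (1 : Fin 4) ≠ 2 by decide), idx_ne hn (show (2 : Fin 4) ≠ 1 by decide)] at e ⊢)
    (fun x y e => by fin_cases x <;> fin_cases y <;> simp [hij, hij.symm] at e ⊢)
  obtain ⟨g, c, hg, hc⟩ := exists_mon (F := F) σ 𝟎
  have hs1 : σ 𝟏 = i := hσ 0
  have hs2 : σ 𝟐 = j := hσ 1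
  have a := D.Y_mon hg (idx_ne hn (show (2 : Fin 4) ≠ 1 by decide)) t
  rw [base, D.Y_mon hg (idx_ne hn (show (1 : Fin 4) ≠ 2 by decide))] at a
  simp only [hs1, hs2, hc _ (idx_ne hn (show (1 : Fin 4) ≠ 0 by decide)),
    hc _ (idx_ne hn (show (2 : Fin 4) ≠ 0 by decide)), one_mul] at a
  exact a.symm

/-- `r` moves the roots ending at the first index. -/
theorem r_X0 {k : Fin n} (hk0 : k ≠ 𝟎) (hk1 : k ≠ 𝟏) (t : F) :
    r * ι (tv hk0 t) * r⁻¹ = Y 𝟏 k t := by
  obtain ⟨g, c, hg, hc⟩ := exists_mon (F := F) (swap 𝟐 k) (if k = 𝟑 then k else 𝟑)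
  have h20 : (idx hn 2 : Fin n) ≠ idx hn 0 := idx_ne hn (by decide)
  have h21 : (idx hn 2 : Fin n) ≠ idx hn 1 := idx_ne hn (by decide)
  have h30 : (idx hn 3 : Fin n) ≠ idx hn 0 := idx_ne hn (by decide)
  have h31 : (idx hn 3 : Fin n) ≠ idx hn 1 := idx_ne hn (by decide)
  have s0 : swap 𝟐 k 𝟎 = 𝟎 := swap_apply_of_ne_of_ne h20.symm hk0.symm
  have s1 : swap 𝟐 k 𝟏 = 𝟏 := swap_apply_of_ne_of_ne h21.symm hk1.symm
  have c0 : c 𝟎 = 1 := hc _ (by split_ifs <;> [exact hk0.symm; exact h30.symm])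
  have c1 : c 𝟏 = 1 := hc _ (by split_ifs <;> [exact hk1.symm; exact h31.symm])
  have c2 : c 𝟐 = 1 := hc _ (by
    split_ifs with h
    · rw [h]; exact idx_ne hn (by decide)
    · exact idx_ne hn (by decide))
  have hm := mon_mem_levP (F := F) (by omega) (idx_ne hn (show (0 : Fin 4) ≠ 1 by decide)) _ _ _ hg
    s0 s1 (by rw [c0, c1, one_mul])
  have e : ι g * r = r * ι g := (D.comm_r g hm).eq.symm
  have h := hg.conj_tv h20 t
  simp only [swap_apply_left, s0, c0, c2, div_one, one_mul] at h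
  calc r * ι (tv hk0 t) * r⁻¹ = r * ι (g * tv h20 t * g⁻¹) * r⁻¹ := by rw [h]
    _ = (r * ι g) * ι (tv h20 t) * (r * ι g)⁻¹ := by simp only [map_mul, map_inv]; group
    _ = ι g * y12 hn ι r t * (ι g)⁻¹ := by rw [← e, y12]; group
    _ = _ := by rw [D.Y_of hg t, s1, swap_apply_left, c1, c2, one_mul, one_mul]

/-- `r` moves the roots ending at the second index. -/
theorem r_X1 {k : Fin n} (hk0 : k ≠ 𝟎) (hk1 : k ≠ 𝟏) (t : F) :
    r * ι (tv hk1 t) * r⁻¹ = Y 𝟎 k (-t) := by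
  have h01 : (idx hn 0 : Fin n) ≠ idx hn 1 := idx_ne hn (by decide)
  have hw := wEl_mon (F := F) h01 (neg_ne_zero.2 one_ne_zero)
  have hm := wEl_mem_levP (F := F) (i := 𝟎) (j := 𝟏) h01 (by simp [Same]) (-1 : F)
  set w : SL := tv h01 (-1) * tv h01.symm (-(-1 : F)⁻¹) * tv h01 (-1) with hwd
  have sk : swap (idx hn 0) (idx hn 1) k = k := swap_apply_of_ne_of_ne hk0 hk1
  have h := hw.conj_tv hk0 t
  simp only [sk, swap_apply_left] at h
  simp [hk0, hk1, h01] at h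
  have e : ι w * r = r * ι w := (D.comm_r w hm).eq.symm
  calc r * ι (tv hk1 t) * r⁻¹ = r * ι (w * tv hk0 t * w⁻¹) * r⁻¹ := by rw [h]
    _ = (r * ι w) * ι (tv hk0 t) * (r * ι w)⁻¹ := by simp only [map_mul, map_inv]; group
    _ = ι w * (r * ι (tv hk0 t) * r⁻¹) * (ι w)⁻¹ := by rw [← e]; group
    _ = _ := by
      rw [D.r_X0 hk0 hk1, D.Y_mon hw hk1.symm, swap_apply_right, sk]
      simp [hk0, hk1, h01, h01.symm]

end Data

end CfsgLib.OmegaPresent
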