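import Cfsg.Agent.Lib.OmegaPresent.Mono
import Cfsg.Agent.Lib.SLTwoPresent.Target

/-!
The two factors of a block group, and short generating lists for block groups.
-/

set_option autoImplicit false
set_option linter.unusedSectionVars false
set_option linter.unusedSimpArgs false

namespace CfsgLib.OmegaPresent

open Equiv Matrix CfsgLib.SLPresent CfsgLib.SLTwoPresent

variable {F : Type*} [Field F] {n k m : ℕ}

local notation "tv" => Matrix.SpecialLinearGroup.transvection
local notation "SL2" => Matrix.SpecialLinearGroup (Fin 2) F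

/-- A block embedded at the left summand of a splitting of the indices. -/
def embL (e : Fin k ⊕ Fin m ≃ Fin n) :
    Matrix.SpecialLinearGroup (Fin k) F →* Matrix.SpecialLinearGroup (Fin n) F where
  toFun A := ⟨Matrix.reindex e e (Matrix.fromBlocks A.1 0 0 1), by
    rw [Matrix.det_reindex_self, Matrix.det_fromBlocks_zero₂₁, A.2, Matrix.det_one, one_mul]⟩
  map_one' := sl_ext (by simp [Matrix.submatrix_one_equiv])
  map_mul' A B := sl_ext (by
    show Matrix.reindex e e (Matrix.fromBlocks (A * B).1 0 0 1) =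
      Matrix.reindex e e (Matrix.fromBlocks A.1 0 0 1) * Matrix.reindex e e (Matrix.fromBlocks B.1 0 0 1)
    simp only [Matrix.SpecialLinearGroup.coe_mul, Matrix.reindex_apply, Matrix.submatrix_mul_equiv,
      Matrix.fromBlocks_multiply, Matrix.mul_zero, Matrix.zero_mul, add_zero, zero_add, mul_one])

theorem embL_tv (e : Fin k ⊕ Fin m ≃ Fin n) {a b : Fin k} (h : a ≠ b) (t : F) :
    embL e (tv h t) = tv (show e (Sum.inl a) ≠ e (Sum.inl b) from fun x => h (Sum.inl_injective (e.injective x))) t := by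
  refine sl_ext (Matrix.ext fun x y => ?_)
  show Matrix.reindex e e (Matrix.fromBlocks (tv h t : Matrix.SpecialLinearGroup (Fin k) F).1 0 0 1) x y = _
  obtain ⟨x, rfl⟩ := e.surjective x
  obtain ⟨y, rfl⟩ := e.surjective y
  rw [Matrix.SpecialLinearGroup.transvection_coe, Matrix.SpecialLinearGroup.transvection_coe,
    Matrix.reindex_apply, Matrix.submatrix_apply, Equiv.symm_apply_apply, Equiv.symm_apply_apply]
  rcases x with x | x <;> rcases y with y | y <;>
    simp [Matrix.one_apply, Matrix.single_apply, e.injective.eq_iff]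

theorem dg_hom_eq (f : Matrix.SpecialLinearGroup (Fin k) F →* Matrix.SpecialLinearGroup (Fin n) F)
    {a b : Fin k} (h : a ≠ b) {a' b' : Fin n} (h' : a' ≠ b')
    (hf : ∀ t, f (tv h t) = tv h' t) (hf' : ∀ t, f (tv h.symm t) = tv h'.symm t) (u : Fˣ) :
    f (dg a b h u) = dg a' b' h' u := by
  have e : ∀ {l : ℕ} {i j : Fin l} (h : i ≠ j), (dg i j h u : Matrix.SpecialLinearGroup (Fin l) F) =
      tv h (u : F) * tv h.symm (-(u : F)⁻¹) * tv h (u : F) *
        (tv h (-1) * tv h.symm (-(-1 : F)⁻¹) * tv h (-1)) := by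
    intro l i j h
    have hw := (wEl_mon h u.ne_zero).mul (wEl_mon h (neg_ne_zero.2 (one_ne_zero (α := F))))
    rw [Equiv.swap_mul_self] at hw
    refine ext_col fun x => ?_
    rw [hw x, dg_mon h u x]
    congr 1
    simp only [hVec]
    by_cases hxa : x = i
    · subst hxa; simp [h, h.symm]
    · by_cases hxb : x = j
      · subst hxb; simp [h, h.symm]
      · simp [swap_apply_of_ne_of_ne hxa hxb, hxa, hxb]
  rw [e, e]
  simp only [map_mul, hf, hf']

theorem closure_tv_eq_top {K : Subgroup (Matrix.SpecialLinearGroup (Fin k) F)}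
    (h : ∀ (a b : Fin k) (hab : a ≠ b) (t : F), tv hab t ∈ K) : K = ⊤ :=
  Cfsg.Agent.Classical.sl_subgroup_eq_top_of_transvection_mem K h

theorem embL_mem_levP (e : Fin 2 ⊕ Fin m ≃ Fin n) (A : SL2) :
    embL e A ∈ LevP (e (Sum.inl 0)) (e (Sum.inl 1)) := by
  have : (LevP (e (Sum.inl 0)) (e (Sum.inl 1))).comap (embL (F := F) e) = ⊤ :=
    closure_tv_eq_top fun a b hab t => by
      show embL e (tv hab t) ∈ LevP (F := F) (e (Sum.inl 0)) (e (Sum.inl 1))
      rw [embL_tv]
      refine tv_mem_levP _ (iff_of_true ?_ ?_) t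
      · fin_cases a <;> simp
      · fin_cases b <;> simp
  exact (this.symm ▸ Subgroup.mem_top A : A ∈ (LevP (e (Sum.inl 0)) (e (Sum.inl 1))).comap (embL e))

/-- The complementary splitting. -/
def flipSum (e : Fin k ⊕ Fin m ≃ Fin n) : Fin m ⊕ Fin k ≃ Fin n := (Equiv.sumComm _ _).trans e

theorem flipSum_inl (e : Fin k ⊕ Fin m ≃ Fin n) (a : Fin m) :
    flipSum e (Sum.inl a) = e (Sum.inr a) := rfl

theorem embR_mem_levP (e : Fin 2 ⊕ Fin m ≃ Fin n) (A : Matrix.SpecialLinearGroup (Fin m) F) :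
    embL (flipSum e) A ∈ LevP (e (Sum.inl 0)) (e (Sum.inl 1)) := by
  have : (LevP (e (Sum.inl 0)) (e (Sum.inl 1))).comap (embL (F := F) (flipSum e)) = ⊤ :=
    closure_tv_eq_top fun a b hab t => by
      show embL (flipSum e) (tv hab t) ∈ LevP (F := F) (e (Sum.inl 0)) (e (Sum.inl 1))
      rw [embL_tv]
      exact tv_mem_levP _ (iff_of_false (by simp [flipSum_inl]) (by simp [flipSum_inl])) t
  exact (this.symm ▸ Subgroup.mem_top A :
    A ∈ (LevP (e (Sum.inl 0)) (e (Sum.inl 1))).comap (embL (flipSum e)))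

theorem embL_commute (e : Fin k ⊕ Fin m ≃ Fin n) (A : Matrix.SpecialLinearGroup (Fin k) F)
    (B : Matrix.SpecialLinearGroup (Fin m) F) : Commute (embL e A) (embL (flipSum e) B) := by
  refine sl_ext ?_
  show Matrix.reindex e e (Matrix.fromBlocks A.1 0 0 1) *
      Matrix.reindex (flipSum e) (flipSum e) (Matrix.fromBlocks B.1 0 0 1) =
    Matrix.reindex (flipSum e) (flipSum e) (Matrix.fromBlocks B.1 0 0 1) *
      Matrix.reindex e e (Matrix.fromBlocks A.1 0 0 1)
  have hB : Matrix.reindex (flipSum e) (flipSum e) (Matrix.fromBlocks B.1 0 0 (1 : Matrix (Fin k) (Fin k) F)) =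
      Matrix.reindex e e (Matrix.fromBlocks 1 0 0 B.1) := by
    ext x y
    obtain ⟨x, rfl⟩ := e.surjective x
    obtain ⟨y, rfl⟩ := e.surjective y
    rcases x with x | x <;> rcases y with y | y <;> simp [flipSum]
  rw [hB]
  simp only [Matrix.reindex_apply, Matrix.submatrix_mul_equiv, Matrix.fromBlocks_multiply,
    Matrix.mul_zero, Matrix.zero_mul, add_zero, zero_add, mul_one, one_mul]

/-- A subgroup containing both factors contains the block group. -/
theorem levP_le (e : Fin 2 ⊕ Fin m ≃ Fin n) {K : Subgroup (Matrix.SpecialLinearGroup (Fin n) F)}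
    (hL : ∀ A : SL2, embL e A ∈ K)
    (hR : ∀ B : Matrix.SpecialLinearGroup (Fin m) F, embL (flipSum e) B ∈ K) :
    LevP (e (Sum.inl 0)) (e (Sum.inl 1)) ≤ K := by
  refine (Subgroup.closure_le _).2 ?_
  rintro _ ⟨a, b, h, t, hs, rfl⟩
  have inside : ∀ x : Fin n, (x = e (Sum.inl 0) ∨ x = e (Sum.inl 1)) ↔ ∃ a : Fin 2, e (Sum.inl a) = x := by
    intro x
    refine ⟨?_, ?_⟩
    · rintro (rfl | rfl)
      · exact ⟨0, rfl⟩
      · exact ⟨1, rfl⟩
    · rintro ⟨a, rfl⟩; fin_cases a <;> simp
  by_cases ha : a = e (Sum.inl 0) ∨ a = e (Sum.inl 1)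
  · obtain ⟨a', rfl⟩ := (inside a).1 ha
    obtain ⟨b', rfl⟩ := (inside b).1 (hs.1 ha)
    have hab : a' ≠ b' := fun x => h (by rw [x])
    rw [← embL_tv e hab]
    exact hL _
  · have hb := fun hb => ha (hs.2 hb)
    obtain ⟨a', rfl⟩ := e.surjective a
    obtain ⟨b', rfl⟩ := e.surjective b
    rcases a' with a' | a'
    · exact absurd ((inside _).2 ⟨a', rfl⟩) ha
    rcases b' with b' | b'
    · exact absurd ((inside _).2 ⟨b', rfl⟩) hb
    have hab : a' ≠ b' := fun x => h (by rw [x])
    have := hR (tv hab t)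
    rwa [embL_tv] at this

/-- The splitting with the first two indices on the left. -/
def spl (h : 2 + m = n) : Fin 2 ⊕ Fin m ≃ Fin n := finSumFinEquiv.trans (finCongr h)

theorem spl_inl (h : 2 + m = n) (a : Fin 2) : ((spl h (Sum.inl a) : Fin n) : ℕ) = a.val := by
  simp [spl]

theorem spl_inr (h : 2 + m = n) (a : Fin m) : ((spl h (Sum.inr a) : Fin n) : ℕ) = 2 + a.val := by
  simp [spl]

section Product

variable {A B G : Type*} [Group A] [Group B] [Group G]

/-- A power separates commuting factors of coprime orders. -/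
theorem mem_of_coprime {a u : G} {N M : ℕ} (hc : Commute a u) (ha : a ^ N = 1) (hu : u ^ M = 1)
    (hcop : N.Coprime M) {K : Subgroup G} (h : a * u ∈ K) : a ∈ K ∧ u ∈ K := by
  have key : a ∈ K := by
    rcases eq_or_ne N 1 with rfl | hN
    · rw [pow_one] at ha; rw [ha]; exact one_mem K
    · obtain ⟨j, hj⟩ : ∃ j : ℕ, a ^ (M * j) = a := by
        rcases Nat.eq_zero_or_pos N with rfl | hpos
        · rw [Nat.coprime_zero_left] at hcop
          exact ⟨1, by rw [hcop, mul_one, pow_one]⟩
        · obtain ⟨j, hj⟩ := Nat.exists_mul_mod_eq_one_of_coprime hcop.symm (by omega)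
          refine ⟨j, ?_⟩
          rw [← Nat.div_add_mod (M * j) N, pow_add, pow_mul, ha, one_pow, one_mul, hj.2, pow_one]
      have := pow_mem h (M * j)
      rwa [hc.mul_pow, pow_mul u, hu, one_pow, mul_one, hj] at this
  exact ⟨key, by have := mul_mem (inv_mem key) h; rwa [inv_mul_cancel_left] at this⟩

/-- One factor of a product is inside a subgroup that projects onto it and contains a normal generator. -/
theorem range_le_of_ncl (f : A →* G) (g : B →* G) (hc : ∀ x y, Commute (f x) (g y)) {K : Subgroup G}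
    {s : Set A} (hs : Subgroup.closure s = ⊤) (hlift : ∀ x ∈ s, ∃ y, f x * g y ∈ K) {a : A}
    (ha : f a ∈ K) (hncl : ∀ N : Subgroup A, N.Normal → a ∈ N → N = ⊤) (x : A) : f x ∈ K := by
  have hN : (K.comap f).Normal := by
    refine ⟨fun z hz w => ?_⟩
    have hw : w ∈ Subgroup.closure s := hs.symm ▸ Subgroup.mem_top w
    revert z
    refine Subgroup.closure_induction_left (p := fun w _ => ∀ z, z ∈ K.comap f → w * z * w⁻¹ ∈ K.comap f)
      (fun z hz => by simpa using hz) ?_ ?_ hw
    · intro c hc' v _ ih z hz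
      obtain ⟨y, hy⟩ := hlift c hc'
      have := mul_mem (mul_mem hy (ih z hz)) (inv_mem hy)
      show f (c * v * z * (c * v)⁻¹) ∈ K
      convert this using 1
      show f (c * v * z * (c * v)⁻¹) = f c * g y * f (v * z * v⁻¹) * (f c * g y)⁻¹
      rw [mul_assoc (f c) (g y), ← (hc (v * z * v⁻¹) y).eq]
      simp only [map_mul, map_inv]
      group
    · intro c hc' v _ ih z hz
      obtain ⟨y, hy⟩ := hlift c hc'
      have := mul_mem (mul_mem (inv_mem hy) (ih z hz)) hy
      show f (c⁻¹ * v * z * (c⁻¹ * v)⁻¹) ∈ K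
      convert this using 1
      show f (c⁻¹ * v * z * (c⁻¹ * v)⁻¹) = (f c * g y)⁻¹ * f (v * z * v⁻¹) * (f c * g y)
      calc f (c⁻¹ * v * z * (c⁻¹ * v)⁻¹)
          = (g y)⁻¹ * (g y * f (c⁻¹ * (v * z * v⁻¹) * c)) := by
            rw [inv_mul_cancel_left]; congr 1; group
        _ = (g y)⁻¹ * (f (c⁻¹ * (v * z * v⁻¹) * c) * g y) := by rw [(hc _ y).eq]
        _ = _ := by simp only [map_mul, map_inv]; group
  have := hncl _ hN ha
  exact (this.symm ▸ Subgroup.mem_top x : x ∈ K.comap f)

/-- A pair of coprime orders generates the product. -/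
theorem pair_product (f : A →* G) (g : B →* G) (hc : ∀ x y, Commute (f x) (g y)) {K : Subgroup G}
    {a b : A} {u v : B} {N M : ℕ} (ha : a ^ N = 1) (hu : u ^ M = 1) (hcop : N.Coprime M)
    (hab : Subgroup.closure ({a, b} : Set A) = ⊤) (huv : Subgroup.closure ({u, v} : Set B) = ⊤)
    (hncl : ∀ N : Subgroup B, N.Normal → u ∈ N → N = ⊤)
    (h1 : f a * g u ∈ K) (h2 : f b * g v ∈ K) :
    (∀ x, f x ∈ K) ∧ ∀ y, g y ∈ K := by
  obtain ⟨hfa, hgu⟩ := mem_of_coprime (hc a u) (by rw [← map_pow, ha, map_one])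
    (by rw [← map_pow, hu, map_one]) hcop h1
  have hg : ∀ y, g y ∈ K := by
    refine range_le_of_ncl g f (fun y x => (hc x y).symm) huv (fun y hy => ?_) hgu hncl
    rcases hy with rfl | rfl
    · exact ⟨a, by rw [(hc a y).symm.eq]; exact h1⟩
    · exact ⟨b, by rw [(hc b y).symm.eq]; exact h2⟩
  have hfb : f b ∈ K := by
    have := mul_mem h2 (inv_mem (hg v))
    rwa [mul_inv_cancel_right] at this
  refine ⟨fun x => ?_, hg⟩
  have : Subgroup.closure ({a, b} : Set A) ≤ K.comap f :=
    (Subgroup.closure_le _).2 (by rintro z (rfl | rfl) <;> assumption)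
  exact this (hab.symm ▸ Subgroup.mem_top x)

end Product

end CfsgLib.OmegaPresent
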