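import Cfsg.Agent.Lib.SLPresent.Spread

/-!
An involution commuting with the stabiliser of a pair of indices in a copy of the symmetric group and
satisfying a braid relation gives a commuting family of flips normalised by the copy.
-/

set_option autoImplicit false
set_option linter.unusedSectionVars false
set_option linter.unusedSimpArgs false

namespace CfsgLib.OmegaPresent

open Equiv CfsgLib.SLPresent

variable {n : ℕ} {Q : Type*} [Group Q]

/-- The hypotheses on the copy of the symmetric group and the involution. -/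
structure FlipData (hn : 4 ≤ n) (p : Perm (Fin n) →* Q) (R : Q) : Prop where
  sq : R * R = 1
  stab : ∀ σ, σ (idx hn 0) = idx hn 0 → σ (idx hn 1) = idx hn 1 → Commute (p σ) R
  swap01 : Commute (p (swap (idx hn 0) (idx hn 1))) R
  braid : R * p (swap (idx hn 0) (idx hn 2)) * R =
    p (cyc hn : Perm (Fin n)) * R * (p (cyc hn : Perm (Fin n)))⁻¹

/-- The conjugate of the involution belonging to a pair. -/
noncomputable def pairR (hn : 4 ≤ n) (p : Perm (Fin n) →* Q) (R : Q) (i j : Fin n) : Q :=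
  if h : ∃ σ : Perm (Fin n), σ (idx hn 0) = i ∧ σ (idx hn 1) = j then
    p h.choose * R * (p h.choose)⁻¹
  else 1

/-- The flip of a pair. -/
noncomputable def flipEl (hn : 4 ≤ n) (p : Perm (Fin n) →* Q) (R : Q) (i j : Fin n) : Q :=
  p (swap i j) * pairR hn p R i j

/-- The flips at the first index generate this subgroup. -/
noncomputable def flipGroup (hn : 4 ≤ n) (p : Perm (Fin n) →* Q) (R : Q) (m : ℕ) : Subgroup Q :=
  Subgroup.closure {x | ∃ k : Fin n, k ≠ idx hn 0 ∧ k.val < m ∧ x = flipEl hn p R (idx hn 0) k}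

namespace FlipData

variable {hn : 4 ≤ n} {p : Perm (Fin n) →* Q} {R : Q} (D : FlipData hn p R)
include D

local notation "𝟎" => idx hn 0
local notation "𝟏" => idx hn 1
local notation "𝟐" => idx hn 2
local notation "P" => pairR hn p R
local notation "E" => flipEl hn p R

theorem P_eq (σ : Perm (Fin n)) : P (σ 𝟎) (σ 𝟏) = p σ * R * (p σ)⁻¹ := by
  have h : ∃ τ : Perm (Fin n), τ 𝟎 = σ 𝟎 ∧ τ 𝟏 = σ 𝟏 := ⟨σ, rfl, rfl⟩
  rw [pairR, dif_pos h]
  set τ := h.choose
  have h0 : (τ⁻¹ * σ) 𝟎 = 𝟎 := by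
    rw [Perm.mul_apply, Perm.inv_def, Equiv.symm_apply_eq, h.choose_spec.1]
  have h1 : (τ⁻¹ * σ) 𝟏 = 𝟏 := by
    rw [Perm.mul_apply, Perm.inv_def, Equiv.symm_apply_eq, h.choose_spec.2]
  have e : p σ = p τ * p (τ⁻¹ * σ) := by rw [← map_mul, mul_inv_cancel_left]
  rw [e]
  calc p τ * R * (p τ)⁻¹ = p τ * (R * p (τ⁻¹ * σ)) * (p (τ⁻¹ * σ))⁻¹ * (p τ)⁻¹ := by group
    _ = _ := by rw [← (D.stab _ h0 h1).eq]; group

theorem P_base : P 𝟎 𝟏 = R := by simpa using D.P_eq 1

theorem P_conj (τ : Perm (Fin n)) {i j : Fin n} (hij : i ≠ j) :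
    p τ * P i j * (p τ)⁻¹ = P (τ i) (τ j) := by
  obtain ⟨σ, hσ⟩ := exists_perm_extend (f := ![idx hn 0, idx hn 1]) (g := ![i, j])
    (fun x y e => by
      fin_cases x <;> fin_cases y <;>
        simp [idx_ne hn (show (1 : Fin 4) ≠ 0 by decide), idx_ne hn (show (0 : Fin 4) ≠ 1 by decide)] at e ⊢)
    (fun x y e => by fin_cases x <;> fin_cases y <;> simp [hij, hij.symm] at e ⊢)
  have h0 : σ 𝟎 = i := hσ 0
  have h1 : σ 𝟏 = j := hσ 1
  rw [← h0, ← h1, D.P_eq, show τ (σ 𝟎) = (τ * σ) 𝟎 from rfl, show τ (σ 𝟏) = (τ * σ) 𝟏 from rfl,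
    D.P_eq, map_mul]
  group

theorem P_symm {i j : Fin n} (hij : i ≠ j) : P j i = P i j := by
  have h01 : (idx hn 0 : Fin n) ≠ idx hn 1 := idx_ne hn (by decide)
  have b : P 𝟏 𝟎 = P 𝟎 𝟏 := by
    have := D.P_conj (swap 𝟎 𝟏) h01
    rw [swap_apply_left, swap_apply_right, D.P_base, D.swap01.eq, mul_inv_cancel_right] at this
    rw [D.P_base, ← this]
  obtain ⟨σ, hσ⟩ := exists_perm_extend (f := ![idx hn 0, idx hn 1]) (g := ![i, j])
    (fun x y e => by
      fin_cases x <;> fin_cases y <;>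
        simp [idx_ne hn (show (1 : Fin 4) ≠ 0 by decide), idx_ne hn (show (0 : Fin 4) ≠ 1 by decide)] at e ⊢)
    (fun x y e => by fin_cases x <;> fin_cases y <;> simp [hij, hij.symm] at e ⊢)
  have h := congrArg (fun z => p σ * z * (p σ)⁻¹) b
  simp only [D.P_conj σ h01.symm, D.P_conj σ h01] at h
  rwa [show σ 𝟎 = i from hσ 0, show σ 𝟏 = j from hσ 1] at h

theorem P_sq {i j : Fin n} (hij : i ≠ j) : P i j * P i j = 1 := by
  obtain ⟨σ, hσ⟩ := exists_perm_extend (f := ![idx hn 0, idx hn 1]) (g := ![i, j])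
    (fun x y e => by
      fin_cases x <;> fin_cases y <;>
        simp [idx_ne hn (show (1 : Fin 4) ≠ 0 by decide), idx_ne hn (show (0 : Fin 4) ≠ 1 by decide)] at e ⊢)
    (fun x y e => by fin_cases x <;> fin_cases y <;> simp [hij, hij.symm] at e ⊢)
  rw [← show σ 𝟎 = i from hσ 0, ← show σ 𝟏 = j from hσ 1, D.P_eq, conj_mul, D.sq, mul_one,
    mul_inv_cancel]

theorem swap_inv (i j : Fin n) : (p (swap i j))⁻¹ = p (swap i j) := by
  rw [← map_inv, Equiv.swap_inv]

theorem swap_P {i j : Fin n} (hij : i ≠ j) : Commute (p (swap i j)) (P i j) := by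
  have := D.P_conj (swap i j) hij
  rw [swap_apply_left, swap_apply_right, D.P_symm hij] at this
  exact mul_inv_eq_iff_eq_mul.1 this

theorem E_conj (τ : Perm (Fin n)) {i j : Fin n} (hij : i ≠ j) :
    p τ * E i j * (p τ)⁻¹ = E (τ i) (τ j) := by
  rw [flipEl, flipEl, ← D.P_conj τ hij]
  have e : p (swap (τ i) (τ j)) = p τ * p (swap i j) * (p τ)⁻¹ := by
    rw [← map_inv, ← map_mul, ← map_mul, Equiv.mul_swap_eq_swap_mul, mul_inv_cancel_right]
  rw [e]
  group

theorem E_symm {i j : Fin n} (hij : i ≠ j) : E j i = E i j := by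
  rw [flipEl, flipEl, D.P_symm hij, Equiv.swap_comm]

theorem E_sq {i j : Fin n} (hij : i ≠ j) : E i j * E i j = 1 := by
  rw [flipEl]
  calc p (swap i j) * P i j * (p (swap i j) * P i j)
      = p (swap i j) * (P i j * p (swap i j)) * P i j := by group
    _ = (p (swap i j) * p (swap i j)) * (P i j * P i j) := by
      rw [← (D.swap_P hij).eq]; group
    _ = 1 := by rw [D.P_sq hij, ← map_mul, Equiv.swap_mul_self, map_one, one_mul]

theorem P_braid {a b c : Fin n} (hab : a ≠ b) (hac : a ≠ c) (hbc : b ≠ c) :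
    P a b * p (swap a c) * P a b = P b c := by
  have h01 : (idx hn 0 : Fin n) ≠ idx hn 1 := idx_ne hn (by decide)
  have h12 : (idx hn 1 : Fin n) ≠ idx hn 2 := idx_ne hn (by decide)
  obtain ⟨σ, hσ⟩ := exists_perm_extend (f := ![idx hn 0, idx hn 1, idx hn 2]) (g := ![a, b, c])
    (fun x y e => by
      have h1 := idx_ne hn (show (0 : Fin 4) ≠ 1 by decide)
      have h2 := idx_ne hn (show (0 : Fin 4) ≠ 2 by decide)
      have h3 := idx_ne hn (show (1 : Fin 4) ≠ 2 by decide)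
      fin_cases x <;> fin_cases y <;> simp [h1, h2, h3, h1.symm, h2.symm, h3.symm] at e ⊢)
    (fun x y e => by
      fin_cases x <;> fin_cases y <;> simp [hab, hac, hbc, hab.symm, hac.symm, hbc.symm] at e ⊢)
  have s0 : σ 𝟎 = a := hσ 0
  have s1 : σ 𝟏 = b := hσ 1
  have s2 : σ 𝟐 = c := hσ 2
  obtain ⟨c0, c1, -⟩ := cyc_apply hn
  have hb := D.braid
  rw [← D.P_eq (cyc hn : Perm (Fin n)), c0, c1] at hb
  nth_rewrite 1 [← D.P_base] at hb
  nth_rewrite 2 [← D.P_base] at hb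
  rw [← s0, ← s1, ← s2, ← D.P_conj σ h01, ← D.P_conj σ h12]
  have e : p (swap (σ 𝟎) (σ 𝟐)) = p σ * p (swap 𝟎 𝟐) * (p σ)⁻¹ := by
    rw [← map_inv, ← map_mul, ← map_mul, Equiv.mul_swap_eq_swap_mul, mul_inv_cancel_right]
  rw [e, conj_mul, conj_mul, hb]

/-- The flips multiply like edges of a triangle. -/
theorem triangle {a b c : Fin n} (hab : a ≠ b) (hac : a ≠ c) (hbc : b ≠ c) :
    E a b * E b c = E a c := by
  have hP : P a b * P b c = p (swap a c) * P a b := by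
    rw [← D.P_braid hab hac hbc, ← mul_assoc, ← mul_assoc, D.P_sq hab, one_mul]
  have hs : P a b * p (swap b c) = p (swap b c) * P a c := by
    have := D.P_conj (swap b c) hab
    rw [swap_apply_of_ne_of_ne hab hac, swap_apply_left] at this
    rw [← this, D.swap_inv, ← mul_assoc, ← mul_assoc, ← map_mul, Equiv.swap_mul_self, map_one, one_mul]
  have hperm : swap a b * swap a c * swap b c = swap a c := by
    ext x
    simp only [Perm.mul_apply, swap_apply_def]
    split_ifs <;> simp_all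
  rw [flipEl, flipEl, flipEl]
  calc p (swap a b) * P a b * (p (swap b c) * P b c)
      = p (swap a b) * P a b * (P b c * p (swap b c)) := by rw [(D.swap_P hbc).eq]
    _ = p (swap a b) * (P a b * P b c) * p (swap b c) := by group
    _ = p (swap a b) * p (swap a c) * (P a b * p (swap b c)) := by rw [hP]; group
    _ = p (swap a b * swap a c * swap b c) * P a c := by rw [hs, map_mul, map_mul]; group
    _ = _ := by rw [hperm]

theorem E_base_comm {j k : Fin n} (hj : j ≠ 𝟎) (hk : k ≠ 𝟎) : Commute (E 𝟎 j) (E 𝟎 k) := by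
  by_cases h : j = k
  · subst h; exact Commute.refl _
  have e1 : E 𝟎 j * E 𝟎 k = E j k := by rw [← D.E_symm hj.symm, D.triangle hj h hk.symm]
  have e2 : E 𝟎 k * E 𝟎 j = E k j := by
    rw [← D.E_symm hk.symm, D.triangle hk (Ne.symm h) hj.symm]
  rw [Commute, SemiconjBy, e1, e2, D.E_symm h]

theorem E_mem {a b : Fin n} (hab : a ≠ b) : E a b ∈ flipGroup hn p R n := by
  have hbase : ∀ k : Fin n, k ≠ 𝟎 → E 𝟎 k ∈ flipGroup hn p R n := fun k hk =>
    Subgroup.subset_closure ⟨k, hk, k.isLt, rfl⟩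
  by_cases ha : a = 𝟎
  · subst ha; exact hbase b hab.symm
  by_cases hb : b = 𝟎
  · subst hb; rw [← D.E_symm hab]; exact hbase a ha
  rw [← D.triangle ha hab (Ne.symm hb), D.E_symm (Ne.symm ha)]
  exact mul_mem (hbase a ha) (hbase b hb)

theorem conj_mem (τ : Perm (Fin n)) {e : Q} (he : e ∈ flipGroup hn p R n) :
    p τ * e * (p τ)⁻¹ ∈ flipGroup hn p R n := by
  have : flipGroup hn p R n ≤ (flipGroup hn p R n).comap (MulAut.conj (p τ)).toMonoidHom := by
    refine (Subgroup.closure_le _).2 ?_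
    rintro _ ⟨k, hk, -, rfl⟩
    show p τ * E 𝟎 k * (p τ)⁻¹ ∈ flipGroup hn p R n
    rw [D.E_conj τ hk.symm]
    exact D.E_mem (τ.injective.ne hk.symm)
  exact this he

/-- Every element is a product of flips and a permutation. -/
theorem normal_form {x : Q} (hx : x ∈ Subgroup.closure (Set.range p ∪ {R})) :
    ∃ e ∈ flipGroup hn p R n, ∃ σ, x = e * p σ := by
  have hR : R = E 𝟎 𝟏 * p (swap 𝟎 𝟏) := by
    rw [flipEl, D.P_base, D.swap01.eq, mul_assoc, ← map_mul, Equiv.swap_mul_self, map_one, mul_one]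
  have stepP : ∀ τ : Perm (Fin n), ∀ y : Q, (∃ e ∈ flipGroup hn p R n, ∃ σ, y = e * p σ) →
      ∃ e ∈ flipGroup hn p R n, ∃ σ, p τ * y = e * p σ := by
    rintro τ y ⟨e, he, σ, rfl⟩
    exact ⟨_, D.conj_mem τ he, τ * σ, by rw [map_mul]; group⟩
  have stepR : ∀ y : Q, (∃ e ∈ flipGroup hn p R n, ∃ σ, y = e * p σ) →
      ∃ e ∈ flipGroup hn p R n, ∃ σ, R * y = e * p σ := by
    intro y hy
    obtain ⟨e, he, σ, h⟩ := stepP (swap 𝟎 𝟏) y hy
    exact ⟨E 𝟎 𝟏 * e, mul_mem (D.E_mem (idx_ne hn (by decide))) he, σ, by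
      conv_lhs => rw [hR, mul_assoc, h]
      rw [mul_assoc]⟩
  refine Subgroup.closure_induction_left (p := fun x _ => ∃ e ∈ flipGroup hn p R n, ∃ σ, x = e * p σ)
    ⟨1, one_mem _, 1, by rw [map_one, mul_one]⟩ ?_ ?_ hx
  · rintro s (⟨τ, rfl⟩ | rfl) y - hy
    · exact stepP τ y hy
    · exact stepR y hy
  · rintro s (⟨τ, rfl⟩ | rfl) y - hy
    · rw [← map_inv]; exact stepP τ⁻¹ y hy
    · rw [inv_eq_of_mul_eq_one_right D.sq]; exact stepR y hy

/-- Removing the last flip. -/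
theorem flipGroup_succ {m : ℕ} {y : Q} (hy : y ∈ flipGroup hn p R (m + 1)) :
    y ∈ flipGroup hn p R m ∨ ∃ k : Fin n, k ≠ 𝟎 ∧ k.val = m ∧ ∃ z ∈ flipGroup hn p R m,
      y = E 𝟎 k * z := by
  have step : ∀ j : Fin n, j ≠ 𝟎 → j.val < m + 1 → ∀ z : Q,
      (z ∈ flipGroup hn p R m ∨ ∃ k : Fin n, k ≠ 𝟎 ∧ k.val = m ∧ ∃ w ∈ flipGroup hn p R m,
        z = E 𝟎 k * w) →
      (E 𝟎 j * z ∈ flipGroup hn p R m ∨ ∃ k : Fin n, k ≠ 𝟎 ∧ k.val = m ∧ ∃ w ∈ flipGroup hn p R m,
        E 𝟎 j * z = E 𝟎 k * w) := by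
    intro j hj hjm z hz
    rcases (Nat.lt_succ_iff.1 hjm).lt_or_eq with h | h
    · have hmem : E 𝟎 j ∈ flipGroup hn p R m := Subgroup.subset_closure ⟨j, hj, h, rfl⟩
      rcases hz with hz | ⟨k, hk, hkm, w, hw, rfl⟩
      · exact Or.inl (mul_mem hmem hz)
      · exact Or.inr ⟨k, hk, hkm, E 𝟎 j * w, mul_mem hmem hw, by
          rw [← mul_assoc, ← mul_assoc, (D.E_base_comm hj hk).eq]⟩
    · rcases hz with hz | ⟨k, hk, hkm, w, hw, rfl⟩
      · exact Or.inr ⟨j, hj, h, z, hz, rfl⟩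
      · obtain rfl : k = j := Fin.ext (hkm.trans h.symm)
        refine Or.inl ?_
        rw [← mul_assoc, D.E_sq hk.symm, one_mul]
        exact hw
  refine Subgroup.closure_induction_left (p := fun y _ => y ∈ flipGroup hn p R m ∨ ∃ k : Fin n,
    k ≠ 𝟎 ∧ k.val = m ∧ ∃ z ∈ flipGroup hn p R m, y = E 𝟎 k * z) (Or.inl (one_mem _)) ?_ ?_ hy
  · rintro _ ⟨j, hj, hjm, rfl⟩ z - hz
    exact step j hj hjm z hz
  · rintro _ ⟨j, hj, hjm, rfl⟩ z - hz
    rw [inv_eq_of_mul_eq_one_right (D.E_sq hj.symm)]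
    exact step j hj hjm z hz

end FlipData

end CfsgLib.OmegaPresent
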