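import Cfsg.Agent.Lib.OmegaPresent.Embed
import Cfsg.Agent.Lib.SLPresent.Present
import Cfsg.Agent.Lib.RegUnip.TwoGenCases
import Cfsg.Agent.S2278

/-!
Few elements generating a block group, alone or together with elements known to commute.
-/

set_option autoImplicit false
set_option linter.unusedSectionVars false
set_option linter.unusedSimpArgs false

namespace CfsgLib.OmegaPresent

open Equiv Matrix CfsgLib.SLPresent CfsgLib.SLTwoPresent

variable {F : Type*} [Field F] [Fintype F] {n : ℕ}

local notation "tv" => Matrix.SpecialLinearGroup.transvection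
local notation "SL2" => Matrix.SpecialLinearGroup (Fin 2) F
local notation "SL" => Matrix.SpecialLinearGroup (Fin n) F

theorem uu_eq_tv (t : F) : (uu t : SL2) = tv (show (0 : Fin 2) ≠ 1 by decide) t := by
  refine sl_ext (Matrix.ext fun i j => ?_)
  fin_cases i <;> fin_cases j <;> simp [uu, Matrix.SpecialLinearGroup.transvection_coe]

theorem dd_eq_dg (a : Fˣ) : (dd a : SL2) = dg 0 1 (by decide) a := by
  refine sl_ext (Matrix.ext fun i j => ?_)
  rw [dg_coe]
  fin_cases i <;> fin_cases j <;> simp [dd, hVec]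

theorem ncl_uu (N : Subgroup SL2) (hN : N.Normal) {c : F} (hc : c ≠ 0) (h : uu c ∈ N) : N = ⊤ := by
  have hsq : ∀ x : F, uu (x ^ 2 * c) ∈ N := by
    intro x
    rcases eq_or_ne x 0 with rfl | hx
    · simp [uu_zero]
    · have h' := hN.conj_mem _ h (dd (Units.mk0 x hx))
      rwa [dd_conj] at h'
  have hall : ∀ t : F, uu t ∈ N := by
    intro t
    by_cases h2 : (2 : F) = 0
    · have hr2 : ringChar F = 2 := CharP.ringChar_of_prime_eq_zero Nat.prime_two (by exact_mod_cast h2)
      obtain ⟨x, hx⟩ : IsSquare (t / c) := FiniteField.isSquare_of_char_two hr2 _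
      have := hsq x
      rwa [sq, ← hx, div_mul_cancel₀ _ hc] at this
    · have key : uu t = uu (((t / c + 1) / 2) ^ 2 * c) * (uu (((t / c - 1) / 2) ^ 2 * c))⁻¹ := by
        rw [eq_mul_inv_iff_mul_eq, ← uu_add]
        congr 1
        field_simp
        ring
      rw [key]
      exact mul_mem (hsq _) (inv_mem (hsq _))
  refine eq_top_of_uu hall ?_
  have hll : ∀ t : F, ww * uu t * (ww : SL2)⁻¹ ∈ N := fun t => hN.conj_mem _ (hall t) _
  have e : (ww : SL2) = uu 1 * (ww * uu 1 * (ww : SL2)⁻¹) * uu 1 := by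
    refine sl_ext ?_
    rw [Matrix.SpecialLinearGroup.coe_mul, Matrix.SpecialLinearGroup.coe_mul,
      Matrix.SpecialLinearGroup.coe_mul, Matrix.SpecialLinearGroup.coe_mul,
      Matrix.SpecialLinearGroup.coe_inv]
    simp [uu, ww, Matrix.adjugate_fin_two]
  rw [e]
  exact mul_mem (mul_mem (hall 1) (hll 1)) (hall 1)

/-- For more than three elements of the field: a diagonal element and a second element generating. -/
theorem pair_large (hq : 4 ≤ Fintype.card F) :
    ∃ w : Fˣ, Subgroup.closure ({dd w, uu 1 * ww} : Set SL2) = ⊤ ∧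
      (∀ N : Subgroup SL2, N.Normal → dd w ∈ N → N = ⊤) ∧
      (∀ N : Subgroup SL2, N.Normal → uu 1 * ww ∈ N → N = ⊤) := by
  classical
  obtain ⟨p, hp⟩ := CharP.exists F
  haveI : Fact p.Prime := ⟨CharP.char_is_prime F p⟩
  letI : Algebra (ZMod p) F := ZMod.algebra F p
  obtain ⟨π⟩ := CfsgLib.SLPresent.exists_params (F := F) p
  have hne : (π.ω : F) ^ 2 - 1 ≠ 0 := by
    intro h0
    have h2 : ∀ t : F, t = 0 ∨ t = 1 ∨ t = (π.ω : F) := fun t => by
      rcases eq_or_ne t 0 with ht | ht
      · exact Or.inl ht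
      obtain ⟨l, rfl⟩ := π.generate t ht
      rw [← Nat.mod_add_div l 2, pow_add, pow_mul, sub_eq_zero.1 h0, one_pow, mul_one]
      rcases Nat.mod_two_eq_zero_or_one l with e | e <;> simp [e]
    have hsub : (Finset.univ : Finset F) ⊆ {0, 1, (π.ω : F)} := fun t _ => by simpa using h2 t
    have := (Finset.card_le_card hsub).trans Finset.card_le_three
    rw [Finset.card_univ] at this
    omega
  refine ⟨π.ω, ?_, fun N hN h => ?_, fun N hN h => ?_⟩
  · set a : SL2 := dd π.ω with ha
    set b : SL2 := uu 1 * ww with hb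
    set K := Subgroup.closure ({a, b} : Set SL2)
    have haK : a ∈ K := Subgroup.subset_closure (Or.inl rfl)
    have hbK : b ∈ K := Subgroup.subset_closure (Or.inr rfl)
    set c : F := (π.ω : F) ^ 2 - 1 with hc
    have huc : uu c ∈ K := by
      have h1 : a * (b * a * b⁻¹) = uu c := by
        have e : b * a * b⁻¹ = uu 1 * (dd π.ω)⁻¹ * (uu 1)⁻¹ := by
          rw [ha, hb, ← ww_conj π.ω]; group
        rw [e, show a * (uu 1 * (dd π.ω)⁻¹ * (uu 1)⁻¹) = (a * uu 1 * a⁻¹) * (uu 1)⁻¹ by rw [ha]; group,
          ha, dd_conj, mul_inv_eq_iff_eq_mul, ← uu_add, hc]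
        congr 1
        ring
      exact h1 ▸ mul_mem haK (mul_mem (mul_mem hbK haK) (inv_mem hbK))
    have hall : ∀ s : F, uu (c * s) ∈ K := by
      intro s
      obtain ⟨Q, rfl⟩ := π.surj_sq s
      induction Q using Polynomial.induction_on' with
      | add A B hA hB => rw [map_add, mul_add, uu_add]; exact mul_mem hA hB
      | monomial l z =>
        have hl : uu (c * ((π.ω : F) ^ 2) ^ l) ∈ K := by
          induction l with
          | zero => simpa using huc
          | succ l ih =>
            have h2 := mul_mem (mul_mem haK ih) (inv_mem haK)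
            rw [ha, dd_conj] at h2
            convert h2 using 2
            ring
        rw [Polynomial.aeval_monomial, ← ZMod.natCast_zmod_val z, map_natCast]
        induction z.val with
        | zero => simp [uu_zero]
        | succ m ih => rw [Nat.cast_succ, add_mul, one_mul, mul_add, uu_add]; exact mul_mem ih hl
    have huK : ∀ t, uu t ∈ K := fun t => by
      have := hall (c⁻¹ * t)
      rwa [mul_inv_cancel_left₀ hne] at this
    refine eq_top_of_uu huK ?_
    have h2 := mul_mem (inv_mem (huK 1)) hbK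
    rwa [hb, inv_mul_cancel_left] at h2
  · refine ncl_uu N hN hne ?_
    have h1 := mul_mem h (hN.conj_mem _ (inv_mem h) (uu 1))
    have e : dd π.ω * (uu 1 * (dd π.ω)⁻¹ * (uu 1)⁻¹) = uu ((π.ω : F) ^ 2 - 1) := by
      rw [show dd π.ω * (uu 1 * (dd π.ω)⁻¹ * (uu 1)⁻¹) = (dd π.ω * uu 1 * (dd π.ω)⁻¹) * (uu 1)⁻¹ by
        group, dd_conj, mul_inv_eq_iff_eq_mul, ← uu_add]
      congr 1
      ring
    rwa [e] at h1
  · haveI := hN
    set q := QuotientGroup.mk' N
    have hw : q ww = q (uu (-1)) := by
      have h1 : q (uu 1 * ww) = 1 := (QuotientGroup.eq_one_iff _).2 h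
      rw [map_mul] at h1
      rw [eq_inv_of_mul_eq_one_right h1, ← map_inv]
      congr 1
      exact inv_eq_of_mul_eq_one_right (by rw [← uu_add, add_neg_cancel, uu_zero])
    let A : Subgroup (SL2 ⧸ N) := Subgroup.closure (Set.range fun t => q (uu t))
    have htop : ∀ g : SL2, q g ∈ A := by
      have : A.comap q = ⊤ := eq_top_of_uu (fun t => Subgroup.subset_closure ⟨t, rfl⟩)
        (show q ww ∈ A from hw ▸ Subgroup.subset_closure ⟨_, rfl⟩)
      exact fun g => (this.symm ▸ Subgroup.mem_top g : g ∈ A.comap q)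
    haveI : IsMulCommutative A := Subgroup.isMulCommutative_closure (by
      rintro _ ⟨s, rfl⟩ _ ⟨t, rfl⟩
      simp only
      rw [← map_mul, ← map_mul, ← uu_add, ← uu_add, add_comm])
    refine ncl_uu N hN hne ?_
    have hcm : q (dd π.ω) * q (uu 1) = q (uu 1) * q (dd π.ω) :=
      congrArg Subtype.val (IsMulCommutative.is_comm.comm (⟨_, htop (dd π.ω)⟩ : A) ⟨_, htop (uu 1)⟩)
    refine (QuotientGroup.eq_one_iff _).1 ?_
    show q (uu ((π.ω : F) ^ 2 - 1)) = 1
    have e : uu ((π.ω : F) ^ 2 - 1) = (dd π.ω * uu 1 * (dd π.ω)⁻¹) * (uu 1)⁻¹ := by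
      rw [dd_conj, eq_mul_inv_iff_mul_eq, ← uu_add]
      congr 1
      ring
    rw [e, map_mul, map_mul, map_mul, hcm, map_inv, map_inv]
    group

/-- For at most three elements of the field: an element of order three and the monomial element. -/
theorem pair_small (hq : ¬ 4 ≤ Fintype.card F) :
    ∃ a : SL2, a ^ 3 = 1 ∧ Subgroup.closure ({a, ww} : Set SL2) = ⊤ := by
  classical
  obtain ⟨p, hp⟩ := CharP.exists F
  haveI : Fact p.Prime := ⟨CharP.char_is_prime F p⟩
  obtain ⟨f, hpf, hf⟩ := FiniteField.card F p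
  have h1 : 1 < Fintype.card F := Fintype.one_lt_card
  have hp2 : 2 ≤ p := hpf.two_le
  have hle : p ^ (f : ℕ) ≤ 3 := by omega
  have hf1 : (f : ℕ) = 1 := by
    by_contra hne
    have h2 : 2 ≤ (f : ℕ) := by have := f.pos; omega
    have : 4 ≤ p ^ (f : ℕ) := le_trans (by norm_num) ((Nat.pow_le_pow_left hp2 2).trans (Nat.pow_le_pow_right (by omega) h2))
    omega
  rw [hf1, pow_one] at hle hf
  letI : Algebra (ZMod p) F := ZMod.algebra F p
  have hsurj : Function.Surjective (algebraMap (ZMod p) F) :=
    ((Fintype.bijective_iff_injective_and_card _).2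
      ⟨(algebraMap (ZMod p) F).injective, by rw [ZMod.card, hf]⟩).2
  have hgen : ∀ K : Subgroup SL2, uu 1 ∈ K → ww ∈ K → K = ⊤ := fun K hu hw => by
    refine eq_top_of_uu (fun t => ?_) hw
    obtain ⟨z, rfl⟩ := hsurj t
    rw [← ZMod.natCast_zmod_val z, map_natCast]
    induction z.val with
    | zero => simp [uu_zero]
    | succ m ih => rw [Nat.cast_succ, uu_add]; exact mul_mem ih hu
  rcases (show p = 2 ∨ p = 3 by omega) with rfl | rfl
  · haveI : CharP F 2 := hp
    refine ⟨uu 1 * ww, ?_, hgen _ ?_ (Subgroup.subset_closure (Or.inr rfl))⟩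
    · refine sl_ext ?_
      rw [pow_succ, pow_succ, pow_one, Matrix.SpecialLinearGroup.coe_mul,
        Matrix.SpecialLinearGroup.coe_mul, Matrix.SpecialLinearGroup.coe_mul]
      simp [uu, ww, Matrix.one_fin_two, CharTwo.neg_eq, CharTwo.add_self_eq_zero]
    · have h1 : uu 1 * ww ∈ Subgroup.closure ({uu 1 * ww, ww} : Set SL2) :=
        Subgroup.subset_closure (Or.inl rfl)
      have h2 : ww ∈ Subgroup.closure ({uu 1 * ww, ww} : Set SL2) :=
        Subgroup.subset_closure (Or.inr rfl)
      have := mul_mem h1 (inv_mem h2)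
      rwa [mul_inv_cancel_right] at this
  · haveI : CharP F 3 := hp
    refine ⟨uu 1, ?_, hgen _ (Subgroup.subset_closure (Or.inl rfl)) (Subgroup.subset_closure (Or.inr rfl))⟩
    rw [uu_pow, show ((3 : ℕ) : F) = 0 from CharP.cast_eq_zero F 3, zero_mul, uu_zero]

theorem ww_pow_four : (ww : SL2) ^ 4 = 1 := by
  rw [show (4 : ℕ) = 2 * 2 from rfl, pow_mul, sq ww, ww_sq, ← dd_pow, neg_one_sq, dd_one]

/-- An element of order prime to the characteristic in a generating pair. -/
theorem pair_prime_to_char (p : ℕ) [CharP F p] :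
    ∃ (a b : SL2) (N : ℕ), a ^ N = 1 ∧ N.Coprime p ∧ Subgroup.closure ({a, b} : Set SL2) = ⊤ := by
  classical
  haveI : Fact p.Prime := ⟨CharP.char_is_prime F p⟩
  obtain ⟨f, hp, hf⟩ := FiniteField.card F p
  by_cases hq : 4 ≤ Fintype.card F
  · obtain ⟨w, hw, -, -⟩ := pair_large (F := F) hq
    refine ⟨dd w, uu 1 * ww, Fintype.card F - 1, ?_, ?_, hw⟩
    · rw [← dd_pow, show w ^ (Fintype.card F - 1) = 1 from Units.ext (by
        rw [Units.val_pow_eq_pow_val, FiniteField.pow_card_sub_one_eq_one _ w.ne_zero, Units.val_one]),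
        dd_one]
    · refine (hp.coprime_iff_not_dvd.2 fun hdvd => ?_).symm
      have h1 : p ∣ Fintype.card F := hf ▸ dvd_pow_self p f.pos.ne'
      have h2 := Nat.dvd_sub h1 hdvd
      rw [show Fintype.card F - (Fintype.card F - 1) = 1 by omega] at h2
      exact hp.one_lt.ne' (Nat.dvd_one.1 h2)
  · obtain ⟨a, ha, hab⟩ := pair_small (F := F) hq
    have h1 : 1 < Fintype.card F := Fintype.one_lt_card
    have hdvd : p ∣ Fintype.card F := hf ▸ dvd_pow_self p f.pos.ne'
    rcases (show Fintype.card F = 2 ∨ Fintype.card F = 3 by omega) with h | h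
    · rw [h] at hdvd
      obtain rfl : p = 2 := (Nat.prime_dvd_prime_iff_eq hp Nat.prime_two).1 hdvd
      exact ⟨a, ww, 3, ha, by norm_num, hab⟩
    · rw [h] at hdvd
      obtain rfl : p = 3 := (Nat.prime_dvd_prime_iff_eq hp Nat.prime_three).1 hdvd
      exact ⟨ww, a, 4, ww_pow_four, by norm_num, by rw [Set.pair_comm]; exact hab⟩

/-- A generating pair of conjugate unipotents. -/
theorem pair_unipotent (p : ℕ) [CharP F p] {m : ℕ} (hm : 3 ≤ m) :
    ∃ (u v : Matrix.SpecialLinearGroup (Fin m) F) (e : ℕ), u ^ p ^ e = 1 ∧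
      Subgroup.closure ({u, v} : Set (Matrix.SpecialLinearGroup (Fin m) F)) = ⊤ ∧
      ∀ N : Subgroup (Matrix.SpecialLinearGroup (Fin m) F), N.Normal → u ∈ N → N = ⊤ := by
  haveI : Fact p.Prime := ⟨CharP.char_is_prime F p⟩
  have main : ∀ u g : Matrix.SpecialLinearGroup (Fin m) F,
      IsNilpotent ((u : Matrix (Fin m) (Fin m) F) - 1) →
      Subgroup.closure ({u, g * u * g⁻¹} : Set (Matrix.SpecialLinearGroup (Fin m) F)) = ⊤ →
      ∃ (u v : Matrix.SpecialLinearGroup (Fin m) F) (e : ℕ), u ^ p ^ e = 1 ∧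
      Subgroup.closure ({u, v} : Set (Matrix.SpecialLinearGroup (Fin m) F)) = ⊤ ∧
      ∀ N : Subgroup (Matrix.SpecialLinearGroup (Fin m) F), N.Normal → u ∈ N → N = ⊤ := by
    intro u g hu hg
    obtain ⟨k, hk⟩ := hu
    haveI : Nonempty (Fin m) := ⟨⟨0, by omega⟩⟩
    refine ⟨u, g * u * g⁻¹, k, ?_, hg, fun N hN h => top_le_iff.1 ?_⟩
    · refine sl_ext ?_
      rw [Matrix.SpecialLinearGroup.coe_pow, Matrix.SpecialLinearGroup.coe_one, ← sub_eq_zero]
      have hkp : k ≤ p ^ k := (Nat.lt_pow_self (Fact.out : p.Prime).one_lt).le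
      have e := sub_pow_char_pow_of_commute (p := p) k
        (Commute.one_right (u : Matrix (Fin m) (Fin m) F))
      rw [one_pow] at e
      rw [← e, pow_eq_zero_of_le hkp hk]
    · rw [← hg, Subgroup.closure_le]
      rintro x (rfl | rfl)
      · exact h
      · exact hN.conj_mem _ h g
  rcases Nat.lt_or_ge m 4 with h | h
  · obtain rfl : m = 3 := by omega
    obtain ⟨u, g, hu, -, hg⟩ := Cfsg.Agent.S2278.result (F := F)
    exact main u g hu hg
  · haveI : NeZero m := ⟨by omega⟩
    obtain ⟨t, ht⟩ := CfsgLib.RegUnip.TwoGen.exists_two_generators (F := F) h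
    refine main _ t ?_ ht
    rw [CfsgLib.RegUnip.regUnip_val (F := F) m, add_sub_cancel_left]
    exact CfsgLib.RegUnip.shiftMat_isNilpotent (F := F) m

/-- Few elements generating the block group of the first two indices. -/
theorem exists_block_gens (hn : 4 ≤ n) :
    ∃ l : List SL, l.length ≤ (if n = 4 then 3 else 2) ∧ (∀ g ∈ l, g ∈ LevP (idx hn 0) (idx hn 1)) ∧
      LevP (idx hn 0) (idx hn 1) ≤ Subgroup.closure {g | g ∈ l} := by
  classical
  obtain ⟨p, hp⟩ := CharP.exists F
  obtain ⟨m, hm⟩ : ∃ m, 2 + m = n := ⟨n - 2, by omega⟩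
  set e := spl hm
  have e0 : e (Sum.inl 0) = idx hn 0 := Fin.ext (by rw [spl_inl]; rfl)
  have e1 : e (Sum.inl 1) = idx hn 1 := Fin.ext (by rw [spl_inl]; rfl)
  have hmemL : ∀ A, embL e A ∈ LevP (F := F) (idx hn 0) (idx hn 1) := fun A => e0 ▸ e1 ▸ embL_mem_levP e A
  have hmemR : ∀ B, embL (flipSum e) B ∈ LevP (F := F) (idx hn 0) (idx hn 1) :=
    fun B => e0 ▸ e1 ▸ embR_mem_levP e B
  by_cases h4 : n = 4
  · obtain rfl : m = 2 := by omega
    rw [if_pos h4]
    by_cases hq : 4 ≤ Fintype.card F
    · obtain ⟨w, hw, hnd, hnb⟩ := pair_large (F := F) hq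
      set a : SL2 := dd w
      set b : SL2 := uu 1 * ww
      refine ⟨[embL e a, embL e b * embL (flipSum e) a, embL (flipSum e) b], le_rfl, ?_, ?_⟩
      · simp [hmemL, hmemR, mul_mem]
      · set K := Subgroup.closure {g : SL | g ∈ [embL e a, embL e b * embL (flipSum e) a, embL (flipSum e) b]}
        have k1 : embL e a ∈ K := Subgroup.subset_closure (by simp)
        have k2 : embL e b * embL (flipSum e) a ∈ K := Subgroup.subset_closure (by simp)
        have k3 : embL (flipSum e) b ∈ K := Subgroup.subset_closure (by simp)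
        have hL : ∀ A, embL e A ∈ K := fun A => by
          refine range_le_of_ncl _ _ (embL_commute e) hw (fun x hx => ?_) k1 hnd A
          rcases hx with rfl | rfl
          · exact ⟨1, by simpa using k1⟩
          · exact ⟨a, k2⟩
        rw [← e0, ← e1]
        refine levP_le e hL fun B => ?_
        have hga : embL (flipSum e) a ∈ K := by
          have := mul_mem (inv_mem (hL b)) k2
          rwa [inv_mul_cancel_left] at this
        have : Subgroup.closure ({a, b} : Set SL2) ≤ K.comap (embL (flipSum e)) :=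
          (Subgroup.closure_le _).2 (by rintro x (rfl | rfl) <;> assumption)
        exact this (hw.symm ▸ Subgroup.mem_top B)
    · obtain ⟨a, ha, hab⟩ := pair_small (F := F) hq
      refine ⟨[embL e a * embL (flipSum e) ww, embL e ww * embL (flipSum e) a], by simp, ?_, ?_⟩
      · simp [hmemL, hmemR, mul_mem]
      · set K := Subgroup.closure
          {g : SL | g ∈ [embL e a * embL (flipSum e) ww, embL e ww * embL (flipSum e) a]}
        have k1 : embL e a * embL (flipSum e) ww ∈ K := Subgroup.subset_closure (by simp)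
        have k2 : embL e ww * embL (flipSum e) a ∈ K := Subgroup.subset_closure (by simp)
        obtain ⟨l1, r1⟩ := mem_of_coprime (embL_commute e a ww) (N := 3) (M := 4)
          (by rw [← map_pow, ha, map_one]) (by rw [← map_pow, ww_pow_four, map_one]) (by norm_num) k1
        obtain ⟨l2, r2⟩ := mem_of_coprime (embL_commute e ww a) (N := 4) (M := 3)
          (by rw [← map_pow, ww_pow_four, map_one]) (by rw [← map_pow, ha, map_one]) (by norm_num) k2
        rw [← e0, ← e1]
        refine levP_le e (fun A => ?_) fun B => ?_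
        · have : Subgroup.closure ({a, ww} : Set SL2) ≤ K.comap (embL e) :=
            (Subgroup.closure_le _).2 (by rintro x (rfl | rfl) <;> assumption)
          exact this (hab.symm ▸ Subgroup.mem_top A)
        · have : Subgroup.closure ({a, ww} : Set SL2) ≤ K.comap (embL (flipSum e)) :=
            (Subgroup.closure_le _).2 (by rintro x (rfl | rfl) <;> assumption)
          exact this (hab.symm ▸ Subgroup.mem_top B)
  · rw [if_neg h4]
    obtain ⟨a, b, N, ha, hN, hab⟩ := pair_prime_to_char (F := F) p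
    obtain ⟨u, v, k, hu, huv, hncl⟩ := pair_unipotent (F := F) p (show 3 ≤ m by omega)
    refine ⟨[embL e a * embL (flipSum e) u, embL e b * embL (flipSum e) v], le_rfl, ?_, ?_⟩
    · simp [hmemL, hmemR, mul_mem]
    · obtain ⟨hL, hR⟩ := pair_product _ _ (embL_commute e) ha hu (hN.pow_right k) hab huv hncl
        (show embL e a * embL (flipSum e) u ∈ Subgroup.closure {g : SL | g ∈ [embL e a * embL (flipSum e) u,
          embL e b * embL (flipSum e) v]} from Subgroup.subset_closure (List.mem_cons_self ..))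
        (Subgroup.subset_closure (List.mem_cons_of_mem _ (List.mem_cons_self ..)))
      rw [← e0, ← e1]
      exact levP_le e hL hR

/-- Elements of the block group needing no relation. -/
def FreeSet (hn : 4 ≤ n) : Set SL :=
  {g | ∃ u : Fˣ, g = dg _ _ (idx_ne hn (show (1 : Fin 4) ≠ 0 by decide)) u *
      dg _ _ (idx_ne hn (show (2 : Fin 4) ≠ 3 by decide)) u} ∪
  {g | ∃ a b, ∃ h : a ≠ b, ∃ t, 3 ≤ a.val ∧ 3 ≤ b.val ∧ g = tv h t}

/-- Two elements completing the free ones to generators of the block group. -/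
theorem exists_block_complement (hn : 4 ≤ n) :
    ∃ l : List SL, l.length ≤ 2 ∧ (∀ g ∈ l, g ∈ LevP (idx hn 0) (idx hn 1)) ∧
      LevP (idx hn 0) (idx hn 1) ≤ Subgroup.closure ({g | g ∈ l} ∪ FreeSet hn) := by
  classical
  obtain ⟨m, hm⟩ : ∃ m, 2 + m = n := ⟨n - 2, by omega⟩
  set e := spl hm
  have e0 : e (Sum.inl 0) = idx hn 0 := Fin.ext (by rw [spl_inl]; rfl)
  have e1 : e (Sum.inl 1) = idx hn 1 := Fin.ext (by rw [spl_inl]; rfl)
  have h01 : (0 : Fin 2) ≠ 1 := by decide
  have hmemL : ∀ A, embL e A ∈ LevP (F := F) (idx hn 0) (idx hn 1) := fun A => e0 ▸ e1 ▸ embL_mem_levP e A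
  have hmemR : ∀ B, embL (flipSum e) B ∈ LevP (F := F) (idx hn 0) (idx hn 1) :=
    fun B => e0 ▸ e1 ▸ embR_mem_levP e B
  have hm2 : 2 ≤ m := by omega
  let j2 : Fin m := ⟨0, by omega⟩
  let j3 : Fin m := ⟨1, by omega⟩
  have hj : j2 ≠ j3 := by simp [j2, j3]
  have f2 : flipSum e (Sum.inl j2) = idx hn 2 := Fin.ext (by rw [flipSum_inl, spl_inr]; rfl)
  have f3 : flipSum e (Sum.inl j3) = idx hn 3 := Fin.ext (by rw [flipSum_inl, spl_inr]; rfl)
  -- the free diagonal element
  have hfree : ∀ (K : Subgroup SL), (∀ x ∈ FreeSet hn, x ∈ K) → ∀ u : Fˣ,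
      embL e (dd u⁻¹) * embL (flipSum e) (dg j2 j3 hj u) ∈ K := by
    intro K hK u
    have a1 : embL e (dd u⁻¹) = dg _ _ (idx_ne hn (show (1 : Fin 4) ≠ 0 by decide)) u := by
      rw [dd_eq_dg, dg_hom_eq (embL e) h01 (idx_ne hn (show (0 : Fin 4) ≠ 1 by decide))
        (fun t => by rw [embL_tv]; congr 1) (fun t => by rw [embL_tv]; congr 1)]
      refine ext_col fun x => ?_
      rw [dg_mon _ u⁻¹ x, dg_mon (idx_ne hn (show (1 : Fin 4) ≠ 0 by decide)) u x]
      congr 1
      simp only [hVec]
      by_cases x0 : x = idx hn 0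
      · subst x0; simp [idx_ne hn (show (0 : Fin 4) ≠ 1 by decide)]
      by_cases x1 : x = idx hn 1
      · subst x1; simp [idx_ne hn (show (1 : Fin 4) ≠ 0 by decide)]
      simp [x0, x1]
    have a2 : embL (flipSum e) (dg j2 j3 hj u) =
        dg _ _ (idx_ne hn (show (2 : Fin 4) ≠ 3 by decide)) u :=
      dg_hom_eq _ hj _ (fun t => by rw [embL_tv]; congr 1) (fun t => by rw [embL_tv]; congr 1) u
    rw [a1, a2]
    exact hK _ (Or.inl ⟨u, rfl⟩)
  by_cases h4 : n = 4
  · obtain rfl : m = 2 := by omega
    by_cases hq : 4 ≤ Fintype.card F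
    · obtain ⟨w, hw, hnd, hnb⟩ := pair_large (F := F) hq
      set b : SL2 := uu 1 * ww
      refine ⟨[embL e b, embL (flipSum e) b], le_rfl, by simp [hmemL, hmemR], ?_⟩
      set K := Subgroup.closure ({g : SL | g ∈ [embL e b, embL (flipSum e) b]} ∪ FreeSet hn)
      have k1 : embL e b ∈ K := Subgroup.subset_closure (Or.inl (by simp))
      have k2 : embL (flipSum e) b ∈ K := Subgroup.subset_closure (Or.inl (by simp))
      have kd : ∀ u : Fˣ, embL e (dd u⁻¹) * embL (flipSum e) (dd u) ∈ K := fun u => by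
        have := hfree K (fun x hx => Subgroup.subset_closure (Or.inr hx)) u
        rwa [show (dg j2 j3 hj u : SL2) = dd u from (dd_eq_dg u).symm] at this
      have hL : ∀ A, embL e A ∈ K := fun A => by
        refine range_le_of_ncl _ _ (embL_commute e) hw (fun x hx => ?_) k1 hnb A
        rcases hx with rfl | rfl
        · exact ⟨dd w⁻¹, by simpa using kd w⁻¹⟩
        · exact ⟨1, by simpa using k1⟩
      rw [← e0, ← e1]
      refine levP_le e hL fun B => ?_
      have hga : embL (flipSum e) (dd w) ∈ K := by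
        have := mul_mem (inv_mem (hL (dd w⁻¹))) (kd w)
        rwa [inv_mul_cancel_left] at this
      have : Subgroup.closure ({dd w, b} : Set SL2) ≤ K.comap (embL (flipSum e)) :=
        (Subgroup.closure_le _).2 (by rintro x (rfl | rfl) <;> assumption)
      exact this (hw.symm ▸ Subgroup.mem_top B)
    · obtain ⟨l, hl, hmem, hle⟩ := exists_block_gens (F := F) hn
      obtain ⟨a, ha, hab⟩ := pair_small (F := F) hq
      refine ⟨[embL e a * embL (flipSum e) ww, embL e ww * embL (flipSum e) a], le_rfl,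
        by simp [hmemL, hmemR, mul_mem], ?_⟩
      set K := Subgroup.closure ({g : SL | g ∈ [embL e a * embL (flipSum e) ww,
          embL e ww * embL (flipSum e) a]} ∪ FreeSet hn)
      have k1 : embL e a * embL (flipSum e) ww ∈ K := Subgroup.subset_closure (Or.inl (by simp))
      have k2 : embL e ww * embL (flipSum e) a ∈ K := Subgroup.subset_closure (Or.inl (by simp))
      obtain ⟨l1, r1⟩ := mem_of_coprime (embL_commute e a ww) (N := 3) (M := 4)
        (by rw [← map_pow, ha, map_one]) (by rw [← map_pow, ww_pow_four, map_one]) (by norm_num) k1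
      obtain ⟨l2, r2⟩ := mem_of_coprime (embL_commute e ww a) (N := 4) (M := 3)
        (by rw [← map_pow, ww_pow_four, map_one]) (by rw [← map_pow, ha, map_one]) (by norm_num) k2
      rw [← e0, ← e1]
      refine levP_le e (fun A => ?_) fun B => ?_
      · have : Subgroup.closure ({a, ww} : Set SL2) ≤ K.comap (embL e) :=
          (Subgroup.closure_le _).2 (by rintro x (rfl | rfl) <;> assumption)
        exact this (hab.symm ▸ Subgroup.mem_top A)
      · have : Subgroup.closure ({a, ww} : Set SL2) ≤ K.comap (embL (flipSum e)) :=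
          (Subgroup.closure_le _).2 (by rintro x (rfl | rfl) <;> assumption)
        exact this (hab.symm ▸ Subgroup.mem_top B)
  · have hm3 : 3 ≤ m := by omega
    set w : Matrix.SpecialLinearGroup (Fin m) F := tv hj 1 * tv hj.symm (-(1 : F)⁻¹) * tv hj 1 with hw'
    have hwm : IsMon w _ _ := wEl_mon hj one_ne_zero
    have hw4 : w ^ 4 = 1 := by
      rw [show (4 : ℕ) = 2 * 2 from rfl, pow_mul, sq w]
      have h2 := hwm.mul hwm
      rw [Equiv.swap_mul_self] at h2
      have h4' := h2.mul h2
      rw [one_mul] at h4'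
      rw [sq]
      refine (ext_col fun x => ?_)
      rw [h4' x, isMon_one x]
      congr 1
      simp only [Perm.coe_one, id]
      by_cases x2 : x = j2
      · subst x2; simp [hj, hj.symm]
      by_cases x3 : x = j3
      · subst x3; simp [hj, hj.symm]
      simp [swap_apply_of_ne_of_ne x2 x3, x2, x3]
    have finish : ∀ (l : List SL) (sep : ∀ K : Subgroup SL, (∀ g ∈ l, g ∈ K) → embL (flipSum e) w ∈ K)
        (gen : ∀ K : Subgroup SL, (∀ g ∈ l, g ∈ K) →
          (∀ u : Fˣ, embL e (dd u) ∈ K) → ∀ A, embL e A ∈ K),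
        LevP (idx hn 0) (idx hn 1) ≤ Subgroup.closure ({g : SL | g ∈ l} ∪ FreeSet hn) := by
      intro l sep gen
      set K := Subgroup.closure ({g : SL | g ∈ l} ∪ FreeSet hn)
      have hl : ∀ g ∈ l, g ∈ K := fun g hg => Subgroup.subset_closure (Or.inl hg)
      have hfar : ∀ a b : Fin m, ∀ h : a ≠ b, 1 ≤ a.val → 1 ≤ b.val → ∀ t : F,
          embL (flipSum e) (tv h t) ∈ K := fun a b h ha hb t => by
        rw [embL_tv]
        exact Subgroup.subset_closure (Or.inr (Or.inr ⟨_, _, _, t,
          by rw [flipSum_inl, spl_inr]; omega, by rw [flipSum_inl, spl_inr]; omega, rfl⟩))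
      set Kr := K.comap (embL (flipSum e))
      have hwK : w ∈ Kr := sep K hl
      have hstar : ∀ c : Fin m, ∀ h2 : j2 ≠ c, c ≠ j3 → ∀ t : F, tv h2 t ∈ Kr ∧ tv h2.symm t ∈ Kr := by
        intro c h2 h3 t
        have hc1 : 1 ≤ c.val := by
          by_contra hc
          exact h2 (Fin.ext (by simp [j2]; omega))
        have hs : swap j2 j3 j3 = j2 := swap_apply_right _ _
        have hsc : swap j2 j3 c = c := swap_apply_of_ne_of_ne (Ne.symm h2) h3
        refine ⟨?_, ?_⟩
        · have := hwm.conj_tv (Ne.symm h3) t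
          simp only [hs, hsc, if_neg (Ne.symm h2), if_neg h3, div_one, if_neg hj.symm, if_true,
            one_mul] at this
          rw [← this]
          exact mul_mem (mul_mem hwK (hfar j3 c _ le_rfl hc1 t)) (inv_mem hwK)
        · have := hwm.conj_tv h3 t
          simp only [hs, hsc, if_neg (Ne.symm h2), if_neg h3, if_neg hj.symm, if_true, div_one,
            one_mul] at this
          rw [← this]
          exact mul_mem (mul_mem hwK (hfar c j3 _ hc1 le_rfl t)) (inv_mem hwK)
      obtain ⟨c, hc2, hc3⟩ : ∃ c : Fin m, j2 ≠ c ∧ c ≠ j3 :=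
        ⟨⟨2, by omega⟩, by simp [j2], by simp [j3]⟩
      have hR : ∀ B, embL (flipSum e) B ∈ K := by
        have htop : Kr = ⊤ := closure_tv_eq_top fun a b hab t => by
          have hone : ∀ x : Fin m, x ≠ j2 → 1 ≤ x.val := fun x hx => by
            by_contra hc
            exact hx (Fin.ext (by simp [j2]; omega))
          have h23 : ∀ t : F, tv hj t ∈ Kr ∧ tv hj.symm t ∈ Kr := fun t => by
            refine ⟨?_, ?_⟩
            · rw [show (tv hj t : Matrix.SpecialLinearGroup (Fin m) F) = tv hj (t * 1) by rw [mul_one],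
                ← Cfsg.Agent.Classical.commutator_transvection_transvection hj hc2 hc3 t 1]
              exact Subgroup.commutator_mem_commutator (hstar c hc2 hc3 t).1
                (hfar c j3 hc3 (hone c hc2.symm) (le_refl _) 1) |> fun h => Subgroup.commutator_le_self Kr h
            · rw [show (tv hj.symm t : Matrix.SpecialLinearGroup (Fin m) F) = tv hj.symm (t * 1) by rw [mul_one],
                ← Cfsg.Agent.Classical.commutator_transvection_transvection hj.symm hc3.symm hc2.symm t 1]
              exact Subgroup.commutator_mem_commutator (hfar j3 c hc3.symm (le_refl _) (hone c hc2.symm) t)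
                (hstar c hc2 hc3 1).2 |> fun h => Subgroup.commutator_le_self Kr h
          by_cases ha : a = j2
          · subst ha
            by_cases hb : b = j3
            · subst hb; exact (h23 t).1
            · exact (hstar b hab hb t).1
          by_cases hb : b = j2
          · subst hb
            by_cases ha3 : a = j3
            · subst ha3; exact (h23 t).2
            · exact (hstar a hab.symm ha3 t).2
          exact hfar a b hab (hone a ha) (hone b hb) t
        exact fun B => (htop.symm ▸ Subgroup.mem_top B : B ∈ Kr)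
      rw [← e0, ← e1]
      refine levP_le e (gen K hl fun u => ?_) hR
      have := mul_mem (hfree K (fun x hx => Subgroup.subset_closure (Or.inr hx)) u⁻¹)
        (inv_mem (hR (dg j2 j3 hj u⁻¹)))
      rwa [mul_inv_cancel_right, inv_inv] at this
    by_cases hq : 4 ≤ Fintype.card F
    · obtain ⟨w0, hw0, -, -⟩ := pair_large (F := F) hq
      refine ⟨[embL e (uu 1 * ww), embL (flipSum e) w], le_rfl, by simp [hmemL, hmemR, mul_mem], finish _ ?_ ?_⟩
      · intro K hK; exact hK _ (by simp)
      · intro K hK hd A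
        have : Subgroup.closure ({dd w0, uu 1 * ww} : Set SL2) ≤ K.comap (embL e) :=
          (Subgroup.closure_le _).2 (by
            rintro x (rfl | rfl)
            · exact hd w0
            · exact hK _ (by simp))
        exact this (hw0.symm ▸ Subgroup.mem_top A)
    · obtain ⟨a, ha, hab⟩ := pair_small (F := F) hq
      have sep : ∀ K : Subgroup SL, (∀ g ∈ [embL e a * embL (flipSum e) w, embL e ww], g ∈ K) →
          embL e a ∈ K ∧ embL (flipSum e) w ∈ K := fun K hK =>
        mem_of_coprime (embL_commute e a w) (N := 3) (M := 4) (by rw [← map_pow, ha, map_one])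
          (by rw [← map_pow, hw4, map_one]) (by norm_num) (hK _ (by simp))
      refine ⟨[embL e a * embL (flipSum e) w, embL e ww], le_rfl, by simp [hmemL, hmemR, mul_mem],
        finish _ (fun K hK => (sep K hK).2) fun K hK _ A => ?_⟩
      have : Subgroup.closure ({a, ww} : Set SL2) ≤ K.comap (embL e) :=
        (Subgroup.closure_le _).2 (by
          rintro x (rfl | rfl)
          · exact (sep K hK).1
          · exact hK _ (by simp))
      exact this (hab.symm ▸ Subgroup.mem_top A)

end CfsgLib.OmegaPresent
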