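import Cfsg.Agent.Lib.OmegaPresent.Roots

/-!
The torus, normalised by the monomial elements and `r`.
-/

set_option autoImplicit false
set_option linter.unusedSectionVars false
set_option linter.unusedSimpArgs false

namespace CfsgLib.OmegaPresent

open Equiv Matrix CfsgLib.SLPresent

variable {F : Type*} [Field F] {n : ℕ} {G : Type*} [Group G]

local notation "SL" => Matrix.SpecialLinearGroup (Fin n) F
local notation "tv" => Matrix.SpecialLinearGroup.transvection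

theorem IsMon.ext {g h : SL} {σ : Perm (Fin n)} {c d : Fin n → F} (hg : IsMon g σ c) (hh : IsMon h σ d)
    (e : ∀ x, c x = d x) : g = h :=
  ext_col fun x => by rw [hg x, hh x, e x]

theorem dg_eq {a b : Fin n} (h : a ≠ b) (u : Fˣ) :
    (dg a b h u : SL) = (tv h (u : F) * tv h.symm (-(u : F)⁻¹) * tv h (u : F)) *
      (tv h (-1) * tv h.symm (-(-1 : F)⁻¹) * tv h (-1)) := by
  have hw := (wEl_mon h u.ne_zero).mul (wEl_mon h (neg_ne_zero.2 (one_ne_zero (α := F))))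
  rw [Equiv.swap_mul_self] at hw
  refine (dg_mon h u).ext hw fun x => ?_
  simp only [hVec]
  by_cases hxa : x = a
  · subst hxa; simp [h, h.symm]
  · by_cases hxb : x = b
    · subst hxb; simp [h, h.symm]
    · simp [swap_apply_of_ne_of_ne hxa hxb, hxa, hxb]

theorem dg_mul {a b : Fin n} (h : a ≠ b) (u v : Fˣ) :
    (dg a b h u : SL) * dg a b h v = dg a b h (u * v) := by
  have hm := (dg_mon (F := F) h u).mul (dg_mon h v)
  rw [one_mul] at hm
  refine hm.ext (dg_mon h _) fun x => ?_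
  simp only [hVec, Perm.coe_one, id]
  by_cases hxa : x = a
  · simp [hxa, mul_comm]
  · by_cases hxb : x = b
    · subst hxb; simp [hxa, mul_comm]
    · simp [hxa, hxb]

/-- The torus element of the second family. -/
noncomputable def Hel (hn : 4 ≤ n) (ι : SL →* G) (r : G) (a : Fˣ) : G :=
  r * ι (dg _ _ (idx_ne hn (show (2 : Fin 4) ≠ 0 by decide)) a) * r⁻¹

namespace Data

variable {hn : 4 ≤ n} {ι : Matrix.SpecialLinearGroup (Fin n) F →* G} {r : G} (D : Data hn ι r)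
include D

local notation "𝟎" => idx hn 0
local notation "𝟏" => idx hn 1
local notation "𝟐" => idx hn 2
local notation "𝟑" => idx hn 3

theorem H_mul (a b : Fˣ) : Hel hn ι r a * Hel hn ι r b = Hel hn ι r (a * b) := by
  rw [Hel, Hel, Hel, conj_mul, ← map_mul, dg_mul]

theorem H_one : Hel hn ι r (1 : Fˣ) = 1 := by
  rw [Hel, dg_one, map_one, mul_one, mul_inv_cancel]

theorem H_comm_levP {g : SL} (hg : g ∈ LevP 𝟏 𝟐) (a : Fˣ) : Commute (Hel hn ι r a) (ι g) := by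
  have h20 : (idx hn 2 : Fin n) ≠ idx hn 0 := idx_ne hn (by decide)
  have hx : ∀ t : F, Commute (r * ι (tv h20 t) * r⁻¹) (ι g) := fun t => D.y_comm hg t
  have hy : ∀ t : F, Commute (r * ι (tv h20.symm t) * r⁻¹) (ι g) := fun t => by
    have h := D.dual.y_comm (theta_mem_levP hg) (-t)
    rw [y12, MonoidHom.comp_apply, MonoidHom.comp_apply, theta_tv, theta_theta, neg_neg] at h
    exact h
  have e : ∀ x y : SL, r * ι (x * y) * r⁻¹ = (r * ι x * r⁻¹) * (r * ι y * r⁻¹) := fun x y => by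
    rw [conj_mul, map_mul]
  rw [Hel, dg_eq h20, e, e, e, e, e]
  exact (((hx _).mul_left (hy _)).mul_left (hx _)).mul_left (((hx _).mul_left (hy _)).mul_left (hx _))

/-- Diagonal elements commute with the torus element of the second family. -/
theorem H_comm_diag {d : SL} {c : Fin n → F} (hd : IsMon d 1 c) (a : Fˣ) :
    Commute (Hel hn ι r a) (ι d) := by
  set u : Fˣ := Units.mk0 (c 𝟏 * c 𝟐) (mul_ne_zero (hd.ne _) (hd.ne _)) with hu
  have h23 : (idx hn 2 : Fin n) ≠ idx hn 3 := idx_ne hn (by decide)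
  have h12 : (idx hn 1 : Fin n) ≠ idx hn 2 := idx_ne hn (by decide)
  have h20 : (idx hn 2 : Fin n) ≠ idx hn 0 := idx_ne hn (by decide)
  have hm : (dg 𝟐 𝟑 h23 u : SL) ∈ LevP 𝟎 𝟏 := dg_mem_levP _
    (iff_of_false (by simp [idx_ne hn (show (2 : Fin 4) ≠ 0 by decide), idx_ne hn (show (2 : Fin 4) ≠ 1 by decide)])
      (by simp [idx_ne hn (show (3 : Fin 4) ≠ 0 by decide), idx_ne hn (show (3 : Fin 4) ≠ 1 by decide)])) _
  have h1 : Commute (Hel hn ι r a) (ι (dg 𝟐 𝟑 h23 u)) := by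
    have h := ((dg_commute h20 h23 a u).map ι).map (MulAut.conj r).toMonoidHom
    change Commute (Hel hn ι r a) (r * ι (dg 𝟐 𝟑 h23 u) * r⁻¹) at h
    rwa [D.r_fix hm] at h
  have hh := (dg_mon (F := F) h23 u).inv.mul hd
  rw [inv_one, one_mul] at hh
  have hmem := mon_mem_levP (i := 𝟏) (j := 𝟐) (by omega) h12 _ _ _ hh rfl rfl (by
    simp [hVec, h12, idx_ne hn (show (1 : Fin 4) ≠ 3 by decide), hu]
    field_simp [hd.ne 𝟏, hd.ne 𝟐])
  have := h1.mul_right (D.H_comm_levP hmem a)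
  rwa [← map_mul, mul_inv_cancel_left] at this

/-- The torus. -/
noncomputable def Tor : Subgroup G where
  carrier := {x | ∃ (d : SL) (c : Fin n → F) (a : Fˣ), IsMon d 1 c ∧ x = ι d * Hel hn ι r a}
  mul_mem' := by
    rintro _ _ ⟨d, c, a, hd, rfl⟩ ⟨e, c', b, he, rfl⟩
    have hde := hd.mul he
    rw [one_mul] at hde
    refine ⟨d * e, _, a * b, hde, ?_⟩
    rw [map_mul, ← D.H_mul, mul_assoc, mul_assoc, ← mul_assoc (Hel hn ι r a),
      (D.H_comm_diag he a).eq, mul_assoc]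
  one_mem' := ⟨1, _, 1, isMon_one, by rw [map_one, D.H_one, one_mul]⟩
  inv_mem' := by
    rintro _ ⟨d, c, a, hd, rfl⟩
    have hdi := hd.inv
    rw [inv_one] at hdi
    refine ⟨d⁻¹, _, a⁻¹, hdi, ?_⟩
    have hH : (Hel hn ι r a)⁻¹ = Hel hn ι r a⁻¹ :=
      inv_eq_of_mul_eq_one_right (by rw [D.H_mul, mul_inv_cancel, D.H_one])
    rw [_root_.mul_inv_rev, hH, map_inv, ← map_inv, (D.H_comm_diag hdi a⁻¹).eq]

theorem diag_mem_tor {d : SL} {c : Fin n → F} (hd : IsMon d 1 c) : ι d ∈ D.Tor :=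
  ⟨d, c, 1, hd, by rw [D.H_one, mul_one]⟩

theorem H_mem_tor (a : Fˣ) : Hel hn ι r a ∈ D.Tor :=
  ⟨1, _, a, isMon_one, by rw [map_one, one_mul]⟩

theorem tor_comm {x : G} (hx : x ∈ D.Tor) {d : SL} {c : Fin n → F} (hd : IsMon d 1 c) :
    Commute (ι d) x := by
  obtain ⟨e, c', a, he, rfl⟩ := hx
  refine Commute.mul_right ?_ (D.H_comm_diag hd a).symm
  have h1 := hd.mul he
  have h2 := he.mul hd
  rw [one_mul] at h1 h2
  rw [Commute, SemiconjBy, ← map_mul, ← map_mul,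
    IsMon.ext h1 h2 fun x => by simp only [Perm.coe_one, id]; exact mul_comm _ _]

theorem conj_tor {x : G} (hH : ∀ a, x * Hel hn ι r a * x⁻¹ ∈ D.Tor)
    (hd : ∀ (d : SL) (c : Fin n → F), IsMon d 1 c → x * ι d * x⁻¹ ∈ D.Tor) {y : G} (hy : y ∈ D.Tor) :
    x * y * x⁻¹ ∈ D.Tor := by
  obtain ⟨d, c, a, hdm, rfl⟩ := hy
  rw [← conj_mul]
  exact mul_mem (hd d c hdm) (hH a)

theorem mon_conj_diag {g : SL} {σ : Perm (Fin n)} {c : Fin n → F} (hg : IsMon g σ c) {d : SL}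
    {e : Fin n → F} (hd : IsMon d 1 e) : ι g * ι d * (ι g)⁻¹ ∈ D.Tor := by
  rw [← map_inv, ← map_mul, ← map_mul]
  have h := (hg.mul hd).mul hg.inv
  rw [mul_one, mul_inv_cancel] at h
  exact D.diag_mem_tor h

theorem mon_norm {g : SL} (hg : g ∈ monSub) {y : G} (hy : y ∈ D.Tor) :
    ι g * y * (ι g)⁻¹ ∈ D.Tor := by
  let P : Submonoid (Perm (Fin n)) :=
    { carrier := {σ | ∀ (g : SL) (c : Fin n → F), IsMon g σ c → ∀ a, ι g * Hel hn ι r a * (ι g)⁻¹ ∈ D.Tor}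
      one_mem' := fun g c hg a => by
        rw [(D.tor_comm (D.H_mem_tor a) hg).eq, mul_inv_cancel_right]
        exact D.H_mem_tor a
      mul_mem' := fun {σ τ} hσ hτ g c hg a => by
        have hne : 0 < n := by omega
        obtain ⟨g', c', hg', -⟩ := exists_mon (F := F) τ ⟨0, hne⟩
        have h1 := hg.mul hg'.inv
        rw [mul_inv_cancel_right] at h1
        have h2 := hτ g' c' hg' a
        have h3 := D.conj_tor (x := ι (g * g'⁻¹)) (fun b => hσ _ _ h1 b)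
          (fun d e hd => D.mon_conj_diag h1 hd) h2
        have e : ι (g * g'⁻¹) * (ι g' * Hel hn ι r a * (ι g')⁻¹) * (ι (g * g'⁻¹))⁻¹ =
            ι g * Hel hn ι r a * (ι g)⁻¹ := by
          rw [map_mul, map_inv]; group
        rwa [e] at h3 }
  have h20 : (idx hn 2 : Fin n) ≠ idx hn 0 := idx_ne hn (by decide)
  have h21 : (idx hn 2 : Fin n) ≠ idx hn 1 := idx_ne hn (by decide)
  have h01 : (idx hn 0 : Fin n) ≠ idx hn 1 := idx_ne hn (by decide)
  have one_witness : ∀ (σ : Perm (Fin n)) (w : SL) (cw : Fin n → F), IsMon w σ cw →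
      (∀ a, ι w * Hel hn ι r a * (ι w)⁻¹ ∈ D.Tor) → σ ∈ P := by
    intro σ w cw hw hH g c hg a
    have hd := hw.inv.mul hg
    rw [inv_mul_cancel] at hd
    have e : ι g = ι w * ι (w⁻¹ * g) := by rw [← map_mul, mul_inv_cancel_left]
    rw [e]
    have e2 : ι w * ι (w⁻¹ * g) * Hel hn ι r a * (ι w * ι (w⁻¹ * g))⁻¹ =
        ι w * Hel hn ι r a * (ι w)⁻¹ := by
      calc ι w * ι (w⁻¹ * g) * Hel hn ι r a * (ι w * ι (w⁻¹ * g))⁻¹
          = ι w * (ι (w⁻¹ * g) * Hel hn ι r a * (ι (w⁻¹ * g))⁻¹) * (ι w)⁻¹ := by group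
        _ = _ := by rw [(D.tor_comm (D.H_mem_tor a) hd).eq, mul_inv_cancel_right]
    rw [e2]
    exact hH a
  have g01 : swap 𝟎 𝟏 ∈ P := by
    refine one_witness _ _ _ (wEl_mon h01 one_ne_zero) fun a => ?_
    set w : SL := tv h01 1 * tv h01.symm (-(1 : F)⁻¹) * tv h01 1
    have hw : IsMon w _ _ := wEl_mon h01 one_ne_zero
    have hm : w ∈ LevP 𝟎 𝟏 := wEl_mem_levP h01 (by simp [Same]) 1
    have e : w * dg 𝟐 𝟎 h20 a * w⁻¹ = dg 𝟐 𝟎 h20 a * dg 𝟎 𝟏 h01 a := by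
      have hl := (hw.mul (dg_mon h20 a)).mul hw.inv
      rw [mul_one, mul_inv_cancel] at hl
      have hr := (dg_mon (F := F) h20 a).mul (dg_mon h01 a)
      rw [one_mul] at hr
      refine hl.ext hr fun x => ?_
      simp only [hVec, Equiv.swap_inv, Perm.coe_one, id]
      have h0 : swap 𝟎 𝟏 𝟐 = 𝟐 := swap_apply_of_ne_of_ne h20 h21
      by_cases x0 : x = 𝟎
      · subst x0; simp [h20, h20.symm, h21, h21.symm, h01, h01.symm, mul_comm]
      by_cases x1 : x = 𝟏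
      · subst x1; simp [h20, h20.symm, h21, h21.symm, h01, h01.symm]
      simp [swap_apply_of_ne_of_ne x0 x1, x0, x1]
    have hm2 : (dg 𝟎 𝟏 h01 a : SL) ∈ LevP 𝟎 𝟏 := dg_mem_levP h01 (by simp [Same]) a
    have c1 : r * ι w = ι w * r := (D.comm_r _ hm).eq
    have : ι w * Hel hn ι r a * (ι w)⁻¹ = Hel hn ι r a * ι (dg 𝟎 𝟏 h01 a) := by
      calc ι w * Hel hn ι r a * (ι w)⁻¹
          = (ι w * r) * ι (dg 𝟐 𝟎 h20 a) * (ι w * r)⁻¹ := by rw [Hel]; group
        _ = r * ι (w * dg 𝟐 𝟎 h20 a * w⁻¹) * r⁻¹ := by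
          rw [← c1]; simp only [map_mul, map_inv]; group
        _ = _ := by rw [e, map_mul, ← conj_mul, D.r_fix hm2, Hel]
    rw [this]
    exact mul_mem (D.H_mem_tor a) (D.diag_mem_tor (dg_mon h01 a))
  have g12 : swap 𝟐 𝟏 ∈ P := by
    refine one_witness _ _ _ (wEl_mon h21 one_ne_zero) fun a => ?_
    have hm := wEl_mem_levP (F := F) (i := 𝟏) (j := 𝟐) h21 (by simp [Same]) (1 : F)
    rw [← (D.H_comm_levP hm a).eq, mul_inv_cancel_right]
    exact D.H_mem_tor a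
  have gk : ∀ k : Fin n, k ≠ 𝟎 → k ≠ 𝟏 → k ≠ 𝟐 → swap 𝟐 k ∈ P := by
    intro k k0 k1 k2
    refine one_witness _ _ _ (wEl_mon (Ne.symm k2) one_ne_zero) fun a => ?_
    have hs : Same 𝟎 𝟏 𝟐 k := iff_of_false (by simp [h20, h21]) (by simp [k0, k1])
    set w : SL := tv (Ne.symm k2) 1 * tv (Ne.symm k2).symm (-(1 : F)⁻¹) * tv (Ne.symm k2) 1
    have hw : IsMon w _ _ := wEl_mon (Ne.symm k2) one_ne_zero
    have hm : w ∈ LevP 𝟎 𝟏 := wEl_mem_levP (Ne.symm k2) hs 1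
    have e : w * dg 𝟐 𝟎 h20 a * w⁻¹ = dg 𝟐 𝟎 h20 a * dg k 𝟐 k2 a := by
      have hl := (hw.mul (dg_mon h20 a)).mul hw.inv
      rw [mul_one, mul_inv_cancel] at hl
      have hr := (dg_mon (F := F) h20 a).mul (dg_mon k2 a)
      rw [one_mul] at hr
      refine hl.ext hr fun x => ?_
      simp only [hVec, Equiv.swap_inv, Perm.coe_one, id]
      by_cases x2 : x = 𝟐
      · subst x2; simp [h20, h20.symm, k0, k0.symm, k2, Ne.symm k2]
      by_cases xk : x = k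
      · subst xk; simp [h20, h20.symm, k0, k0.symm, k2, Ne.symm k2]
      simp [swap_apply_of_ne_of_ne x2 xk, x2, xk] <;> split_ifs <;> simp_all
    have hm2 : (dg k 𝟐 k2 a : SL) ∈ LevP 𝟎 𝟏 := dg_mem_levP k2 hs.symm a
    have c1 : r * ι w = ι w * r := (D.comm_r _ hm).eq
    have : ι w * Hel hn ι r a * (ι w)⁻¹ = Hel hn ι r a * ι (dg k 𝟐 k2 a) := by
      calc ι w * Hel hn ι r a * (ι w)⁻¹
          = (ι w * r) * ι (dg 𝟐 𝟎 h20 a) * (ι w * r)⁻¹ := by rw [Hel]; group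
        _ = r * ι (w * dg 𝟐 𝟎 h20 a * w⁻¹) * r⁻¹ := by
          rw [← c1]; simp only [map_mul, map_inv]; group
        _ = _ := by rw [e, map_mul, ← conj_mul, D.r_fix hm2, Hel]
    rw [this]
    exact mul_mem (D.H_mem_tor a) (D.diag_mem_tor (dg_mon k2 a))
  have g20 : swap 𝟐 𝟎 ∈ P := by
    have : swap 𝟐 𝟎 = swap 𝟐 𝟏 * swap 𝟎 𝟏 * swap 𝟐 𝟏 := by
      ext x
      simp only [Perm.mul_apply, swap_apply_def]
      split_ifs <;> simp_all
    rw [this]
    exact mul_mem (mul_mem g12 g01) g12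
  have star : ∀ k : Fin n, swap 𝟐 k ∈ P := by
    intro k
    by_cases k2 : k = 𝟐
    · subst k2; rw [Equiv.swap_self]; exact one_mem P
    by_cases k0 : k = 𝟎
    · subst k0; exact g20
    by_cases k1 : k = 𝟏
    · subst k1; exact g12
    exact gk k k0 k1 k2
  have hsw : ∀ a b : Fin n, a ≠ b → swap a b ∈ P := by
    intro a b hab
    by_cases ha : a = 𝟐
    · subst ha; exact star b
    by_cases hb : b = 𝟐
    · subst hb; rw [Equiv.swap_comm]; exact star a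
    have : swap a b = swap 𝟐 a * swap 𝟐 b * swap 𝟐 a := by
      ext x
      simp only [Perm.mul_apply, swap_apply_def]
      split_ifs <;> simp_all
    rw [this]
    exact mul_mem (mul_mem (star a) (star b)) (star a)
  have hP : ∀ σ, σ ∈ P := fun σ => by
    refine Perm.swap_induction_on σ (one_mem P) fun f a b hab hf => ?_
    exact mul_mem (hsw a b hab) hf
  obtain ⟨σ, c, hg⟩ := hg
  exact D.conj_tor (fun a => hP σ g c hg a) (fun d e hd => D.mon_conj_diag hg hd) hy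

theorem r_norm {y : G} (hy : y ∈ D.Tor) : r * y * r⁻¹ ∈ D.Tor := by
  have h20 : (idx hn 2 : Fin n) ≠ idx hn 0 := idx_ne hn (by decide)
  have h01 : (idx hn 0 : Fin n) ≠ idx hn 1 := idx_ne hn (by decide)
  have h21 : (idx hn 2 : Fin n) ≠ idx hn 1 := idx_ne hn (by decide)
  refine D.conj_tor (fun a => ?_) (fun d c hd => ?_) hy
  · have e : r * Hel hn ι r a * r⁻¹ = (r * r) * ι (dg 𝟐 𝟎 h20 a) * (r * r)⁻¹ := by
      rw [Hel]; group
    rw [e, D.sq]
    exact D.mon_conj_diag (dg_mon h01 (-1 : Fˣ)) (dg_mon h20 a)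
  · set a : Fˣ := (Units.mk0 (c 𝟎 * c 𝟏) (mul_ne_zero (hd.ne _) (hd.ne _)))⁻¹ with ha
    have hh := (dg_mon (F := F) h20 a).inv.mul hd
    rw [inv_one, one_mul] at hh
    have hmem := mon_mem_levP (i := 𝟎) (j := 𝟏) (by omega) h01 _ _ _ hh rfl rfl (by
      simp [hVec, h20.symm, h21.symm, h01.symm, ha]
      field_simp [hd.ne 𝟎, hd.ne 𝟏])
    have e : r * ι d * r⁻¹ = Hel hn ι r a * ι ((dg 𝟐 𝟎 h20 a)⁻¹ * d) := by
      conv_lhs => rw [← mul_inv_cancel_left (dg 𝟐 𝟎 h20 a) d, map_mul, ← conj_mul, D.r_fix hmem]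
      rfl
    rw [e]
    exact mul_mem (D.H_mem_tor a) (D.diag_mem_tor hh)

theorem tor_le : D.Tor ≤ Nsub ι r := by
  rintro _ ⟨d, c, a, hd, rfl⟩
  exact mul_mem (mon_mem_Nsub ι r hd.mem)
    (mul_mem (mul_mem (r_mem_Nsub ι r) (mon_mem_Nsub ι r (dg_mon _ _).mem)) (inv_mem (r_mem_Nsub ι r)))

theorem tor_norm {x : G} (hx : x ∈ Nsub ι r) {y : G} (hy : y ∈ D.Tor) : x * y * x⁻¹ ∈ D.Tor := by
  revert y
  refine Subgroup.closure_induction_left (p := fun x _ => ∀ {y : G}, y ∈ D.Tor → x * y * x⁻¹ ∈ D.Tor)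
    (fun {y} hy => by simpa using hy) ?_ ?_ hx
  · rintro s hs z - ih y hy
    rw [show s * z * y * (s * z)⁻¹ = s * (z * y * z⁻¹) * s⁻¹ by group]
    rcases hs with ⟨g, hg, rfl⟩ | rfl
    · exact D.mon_norm hg (ih hy)
    · exact D.r_norm (ih hy)
  · rintro s hs z - ih y hy
    rw [show s⁻¹ * z * y * (s⁻¹ * z)⁻¹ = s⁻¹ * (z * y * z⁻¹) * s⁻¹⁻¹ by group]
    rcases hs with ⟨g, hg, rfl⟩ | rfl
    · rw [← map_inv]
      exact D.mon_norm (inv_mem hg) (ih hy)
    · rw [D.inv_r, ← map_inv]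
      have h2 := D.mon_norm (dg_mon (F := F) (idx_ne hn (show (0 : Fin 4) ≠ 1 by decide)) (-1 : Fˣ)).inv.mem
        (ih hy)
      have := D.r_norm h2
      convert this using 1
      group

end Data

end CfsgLib.OmegaPresent
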