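import Cfsg.Agent.Lib.OmegaPresent.Roots

/-!
The matrices of the model: how they move the coordinate vectors.
-/

set_option autoImplicit false
set_option linter.unusedSectionVars false
set_option linter.unusedSimpArgs false

namespace CfsgLib.OmegaPresent

open Equiv Matrix CfsgLib.SLPresent

variable {F : Type*} [Field F] {n : ℕ} {G : Type*} [Group G]

local notation "SL" => Matrix.SpecialLinearGroup (Fin n) F
local notation "tv" => Matrix.SpecialLinearGroup.transvection
local notation "M2" => Matrix (Fin n ⊕ Fin n) (Fin n ⊕ Fin n) F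

/-- The coordinate of a signed index. -/
def sIdx : Fin n × Bool → Fin n ⊕ Fin n
  | (a, true) => Sum.inl a
  | (a, false) => Sum.inr a

theorem sIdx_injective : Function.Injective (sIdx (n := n)) := by
  rintro ⟨a, s⟩ ⟨b, s'⟩ h
  cases s <;> cases s' <;> simp [sIdx] at h <;> simp [h]

theorem sIdx_surjective : Function.Surjective (sIdx (n := n)) := by
  rintro (a | a)
  · exact ⟨(a, true), rfl⟩
  · exact ⟨(a, false), rfl⟩

/-- The matrix of the element `r`. -/
def r0 (hn : 4 ≤ n) : M2 := Matrix.of fun x y =>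
  match y with
  | Sum.inl a => if a = idx hn 0 then (if x = Sum.inr (idx hn 1) then 1 else 0)
      else if a = idx hn 1 then (if x = Sum.inr (idx hn 0) then -1 else 0)
      else (if x = Sum.inl a then 1 else 0)
  | Sum.inr a => if a = idx hn 0 then (if x = Sum.inl (idx hn 1) then 1 else 0)
      else if a = idx hn 1 then (if x = Sum.inl (idx hn 0) then -1 else 0)
      else (if x = Sum.inr a then 1 else 0)

/-- The scalars of `r`. -/
def rVec (hn : 4 ≤ n) (I : Fin n × Bool) : F := if I.1 = idx hn 1 then -1 else 1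

/-- A homomorphism to matrices realising the model. -/
structure Model (hn : 4 ≤ n) (ι : SL →* G) (r : G) (ρ : G →* M2) : Prop where
  hι : ∀ g, ρ (ι g) = Matrix.fromBlocks (g : Matrix (Fin n) (Fin n) F) 0 0
    ((theta g : SL) : Matrix (Fin n) (Fin n) F)
  hr : ρ r = r0 hn

/-- `x` maps coordinate vectors to multiples of coordinate vectors. -/
def SendsC (A : M2) (f : Perm (Fin n × Bool)) (c : Fin n × Bool → F) : Prop :=
  ∀ I, A *ᵥ Pi.single (sIdx I) 1 = Pi.single (sIdx (f I)) (c I)

theorem mulVec_single2 (A : M2) (x : Fin n ⊕ Fin n) (a : F) :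
    A *ᵥ Pi.single x a = a • (A *ᵥ Pi.single x 1) := by
  rw [show (Pi.single x a : Fin n ⊕ Fin n → F) = a • (Pi.single x 1 : Fin n ⊕ Fin n → F) by
    ext i; simp [Pi.single_apply], Matrix.mulVec_smul]

theorem ext_basis {A B : M2} (h : ∀ I, A *ᵥ Pi.single (sIdx I) 1 = B *ᵥ Pi.single (sIdx I) 1) :
    A = B := by
  refine Matrix.ext fun x y => ?_
  obtain ⟨I, rfl⟩ := sIdx_surjective y
  simpa using congrFun (h I) x

theorem SendsC.mul {A B : M2} {f g : Perm (Fin n × Bool)} {c d : Fin n × Bool → F}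
    (hA : SendsC A f c) (hB : SendsC B g d) : SendsC (A * B) (f * g) (fun I => c (g I) * d I) :=
  fun I => by
    rw [← Matrix.mulVec_mulVec, hB I, mulVec_single2, hA, ← Pi.single_smul, smul_eq_mul,
      Perm.mul_apply, mul_comm]

theorem sendsC_one : SendsC (1 : M2) 1 (fun _ => 1) := fun I => by
  rw [Matrix.one_mulVec, Perm.coe_one, id]

theorem SendsC.eq_one {A : M2} (h : SendsC A 1 (fun _ => 1)) : A = 1 :=
  ext_basis fun I => (h I).trans (sendsC_one I).symm

theorem SendsC.diag {A : M2} {f : Perm (Fin n × Bool)} {c : Fin n × Bool → F} (h : SendsC A f c)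
    (I : Fin n × Bool) (hd : A (sIdx I) (sIdx I) = 1) : f I = I ∧ c I = 1 := by
  have e := congrFun (h I) (sIdx I)
  simp only [Matrix.mulVec_single_one, Matrix.col_apply, hd] at e
  by_cases hI : sIdx I = sIdx (f I)
  · refine ⟨(sIdx_injective hI).symm, ?_⟩
    rw [← hI, Pi.single_eq_same] at e
    exact e.symm
  · rw [Pi.single_eq_of_ne hI] at e
    exact absurd e one_ne_zero

theorem r0_sends (hn : 4 ≤ n) : SendsC (r0 (F := F) hn) (sigR hn) (rVec hn) := by
  obtain ⟨s0, s1, sk⟩ := sigR_apply hn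
  have h01 : (idx hn 0 : Fin n) ≠ idx hn 1 := idx_ne hn (by decide)
  rintro ⟨a, s⟩
  funext x
  simp only [Matrix.mulVec_single_one, Matrix.col_apply, Pi.single_apply, rVec]
  by_cases h0 : a = idx hn 0
  · subst h0
    rw [s0]
    cases s <;> simp [r0, sIdx, h01]
  by_cases h1 : a = idx hn 1
  · subst h1
    rw [s1]
    cases s <;> simp [r0, sIdx, h01.symm]
  rw [sk a s h0 h1]
  cases s <;> simp [r0, sIdx, h0, h1]

/-- The scalars of a monomial element on the signed indices. -/
def monVec (c : Fin n → F) (I : Fin n × Bool) : F := if I.2 then c I.1 else (c I.1)⁻¹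

theorem blocks_sends (g h : Matrix (Fin n) (Fin n) F) (σ : Perm (Fin n)) (c : Fin n → F)
    (hg : ∀ x, g *ᵥ Pi.single x 1 = Pi.single (σ x) (c x))
    (hh : ∀ x, h *ᵥ Pi.single x 1 = Pi.single (σ x) (c x)⁻¹) :
    SendsC (Matrix.fromBlocks g 0 0 h) (liftP σ) (monVec c) := by
  rintro ⟨a, s⟩
  funext x
  cases s <;> cases x with
  | inl b =>
    have e := congrFun (hg a) b
    simp only [Matrix.mulVec_single_one, Matrix.col_apply, Pi.single_apply] at e ⊢
    simp [sIdx, liftP_apply, monVec, e]
  | inr b =>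
    have e := congrFun (hh a) b
    simp only [Matrix.mulVec_single_one, Matrix.col_apply, Pi.single_apply] at e ⊢
    simp [sIdx, liftP_apply, monVec, e]

namespace Model

variable {hn : 4 ≤ n} {ι : Matrix.SpecialLinearGroup (Fin n) F →* G} {r : G}
  {ρ : G →* Matrix (Fin n ⊕ Fin n) (Fin n ⊕ Fin n) F} (M : Model hn ι r ρ)
include M

theorem sends_mon {g : SL} {σ : Perm (Fin n)} {c : Fin n → F} (hg : IsMon g σ c) :
    SendsC (ρ (ι g)) (liftP σ) (monVec c) := by
  rw [M.hι]
  exact blocks_sends _ _ σ c hg hg.theta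

theorem sends_r : SendsC (ρ r) (sigR hn) (rVec hn) := by rw [M.hr]; exact r0_sends hn

end Model

end CfsgLib.OmegaPresent
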