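import Cfsg.Agent.Lib.OmegaPresent.Bruhat
import Cfsg.Agent.Lib.OmegaPresent.Model

/-!
The positive part is mapped injectively to matrices, with ones on the diagonal.
-/

set_option autoImplicit false
set_option linter.unusedSectionVars false
set_option linter.unusedSimpArgs false

namespace CfsgLib.OmegaPresent

open Equiv Matrix CfsgLib.SLPresent

variable {F : Type*} [Field F] {n : ℕ} {G : Type*} [Group G]

local notation "SL" => Matrix.SpecialLinearGroup (Fin n) F
local notation "tv" => Matrix.SpecialLinearGroup.transvection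
local notation "M1" => Matrix (Fin n) (Fin n) F
local notation "M2" => Matrix (Fin n ⊕ Fin n) (Fin n ⊕ Fin n) F

/-- The upper right block of a member of the second family. -/
def yBlock (i j : Fin n) (t : F) : M1 := Matrix.single j i t - Matrix.single i j t

/-- An upper unipotent block matrix. -/
def upM (M : M1) : M2 := Matrix.fromBlocks 1 M 0 1

theorem upM_mul (M N : M1) : upM M * upM N = upM (M + N) := by
  rw [upM, upM, upM, Matrix.fromBlocks_multiply]
  simp [add_comm]

theorem IsMon.mul_single {g : SL} {σ : Perm (Fin n)} {c : Fin n → F} (hg : IsMon g σ c) (a b : Fin n)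
    (t : F) : (g : M1) * Matrix.single a b t = Matrix.single (σ a) b (c a * t) := by
  ext x y
  have e := congrFun (hg a) x
  simp only [Matrix.mulVec_single_one, Matrix.col_apply, Pi.single_apply] at e
  by_cases hy : y = b
  · subst hy
    rw [Matrix.mul_single_apply_same, e, Matrix.single_apply]
    by_cases hx : x = σ a
    · subst hx; simp
    · simp [hx, Ne.symm hx]
  · rw [Matrix.mul_single_apply_of_ne _ _ _ _ _ hy, Matrix.single_apply, if_neg (fun h => hy h.2.symm)]

theorem IsMon.single_mul {g : SL} {σ : Perm (Fin n)} {c : Fin n → F} (hg : IsMon g σ c) (a b : Fin n)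
    (t : F) : Matrix.single a (σ b) t * (g : M1) = Matrix.single a b (t * c b) := by
  ext x y
  have e := congrFun (hg y) (σ b)
  simp only [Matrix.mulVec_single_one, Matrix.col_apply, Pi.single_apply] at e
  by_cases hx : x = a
  · subst hx
    rw [Matrix.single_mul_apply_same, e, Matrix.single_apply]
    by_cases hy : y = b
    · subst hy; simp
    · rw [if_neg (fun h => hy (σ.injective h).symm), if_neg (fun h => hy h.2.symm), mul_zero]
  · rw [Matrix.single_mul_apply_of_ne _ _ _ _ _ hx, Matrix.single_apply, if_neg (fun h => hx h.1.symm)]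

theorem mulVec_blocks_inl (A B C E : M1) (a : Fin n) :
    Matrix.fromBlocks A B C E *ᵥ Pi.single (Sum.inl a) 1 = Sum.elim (A.col a) (C.col a) := by
  funext x; cases x <;> simp

theorem mulVec_blocks_inr (A B C E : M1) (a : Fin n) :
    Matrix.fromBlocks A B C E *ᵥ Pi.single (Sum.inr a) 1 = Sum.elim (B.col a) (E.col a) := by
  funext x; cases x <;> simp

namespace Model

variable {hn : 4 ≤ n} {ι : Matrix.SpecialLinearGroup (Fin n) F →* G} {r : G}
  {ρ : G →* Matrix (Fin n ⊕ Fin n) (Fin n ⊕ Fin n) F} (M : Model hn ι r ρ)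
include M

local notation "𝟎" => idx hn 0
local notation "𝟏" => idx hn 1
local notation "𝟐" => idx hn 2

theorem rho_y12 (t : F) : ρ (y12 hn ι r t) = upM (yBlock 𝟏 𝟐 t) := by
  have h20 : (idx hn 2 : Fin n) ≠ idx hn 0 := idx_ne hn (by decide)
  have h21 : (idx hn 2 : Fin n) ≠ idx hn 1 := idx_ne hn (by decide)
  have h10 : (idx hn 1 : Fin n) ≠ idx hn 0 := idx_ne hn (by decide)
  have key : upM (yBlock 𝟏 𝟐 t) * ρ r = ρ r * ρ (ι (tv h20 t)) := by
    rw [M.hι, theta_tv, M.hr]
    have hup : ∀ b, upM (yBlock 𝟏 𝟐 t) *ᵥ Pi.single (sIdx (b, true)) 1 =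
          Pi.single (sIdx (b, true)) (1 : F) ∧
        upM (yBlock 𝟏 𝟐 t) *ᵥ Pi.single (sIdx (b, false)) 1 = Pi.single (sIdx (b, false)) (1 : F) +
          (if b = 𝟏 then t else 0) • Pi.single (sIdx (𝟐, true)) 1 -
          (if b = 𝟐 then t else 0) • Pi.single (sIdx (𝟏, true)) 1 := by
      intro b
      refine ⟨?_, ?_⟩ <;> funext x <;>
        simp only [upM, sIdx, mulVec_blocks_inl, mulVec_blocks_inr, Pi.sub_apply, Pi.add_apply,
          Pi.smul_apply, smul_eq_mul, Pi.single_apply] <;>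
        cases x <;>
        simp only [Sum.elim_inl, Sum.elim_inr, Matrix.col_apply, Matrix.one_apply, Matrix.zero_apply,
          yBlock, Matrix.sub_apply, Matrix.single_apply, Sum.inl.injEq, Sum.inr.injEq, reduceCtorEq,
          if_false, mul_zero, sub_zero, add_zero, zero_add] <;>
        (try simp only [eq_comm]) <;>
        (split_ifs <;> simp_all)
    have hlev : ∀ b, Matrix.fromBlocks (tv h20 t : SL).1 0 0 (tv h20.symm (-t) : SL).1 *ᵥ
          Pi.single (sIdx (b, true)) 1 = Pi.single (sIdx (b, true)) (1 : F) +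
            (if b = 𝟎 then t else 0) • Pi.single (sIdx (𝟐, true)) 1 ∧
        Matrix.fromBlocks (tv h20 t : SL).1 0 0 (tv h20.symm (-t) : SL).1 *ᵥ
          Pi.single (sIdx (b, false)) 1 = Pi.single (sIdx (b, false)) (1 : F) +
            (if b = 𝟐 then -t else 0) • Pi.single (sIdx (𝟎, false)) 1 := by
      intro b
      refine ⟨?_, ?_⟩ <;> funext x <;>
        simp only [sIdx, mulVec_blocks_inl, mulVec_blocks_inr, Pi.add_apply,
          Pi.smul_apply, smul_eq_mul, Pi.single_apply] <;>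
        cases x <;>
        simp only [Sum.elim_inl, Sum.elim_inr, Matrix.col_apply, Matrix.zero_apply,
          Matrix.SpecialLinearGroup.transvection_coe, Matrix.add_apply, Matrix.one_apply,
          Matrix.single_apply, Sum.inl.injEq, Sum.inr.injEq, reduceCtorEq,
          if_false, mul_zero, add_zero, zero_add] <;>
        (try simp only [eq_comm]) <;>
        (split_ifs <;> simp_all)
    obtain ⟨s0, s1, sk⟩ := sigR_apply hn
    refine ext_basis fun I => ?_
    obtain ⟨a, s⟩ := I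
    rw [← Matrix.mulVec_mulVec, r0_sends hn, mulVec_single2, ← Matrix.mulVec_mulVec]
    have hr : ∀ J, r0 (F := F) hn *ᵥ Pi.single (sIdx J) 1 =
        (rVec (F := F) hn J) • (Pi.single (sIdx (sigR hn J)) 1 : Fin n ⊕ Fin n → F) := fun J => by
      rw [r0_sends hn J]; funext x
      simp [Pi.single_apply]
    cases s
    · rw [(hlev a).2, Matrix.mulVec_add, Matrix.mulVec_smul, hr, hr]
      by_cases h0 : a = 𝟎
      · subst h0
        simp [s0, rVec, (hup 𝟏).1, h20.symm, h10.symm]
      by_cases h1 : a = 𝟏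
      · subst h1
        simp [s1, rVec, (hup 𝟎).1, h21.symm]
      rw [sk a _ h0 h1, (hup a).2, s0]
      by_cases h2 : a = 𝟐
      · subst h2
        simp [rVec, h21, h20, h10.symm, sub_eq_add_neg]
      · simp [rVec, h0, h1, h2]
    · rw [(hlev a).1, Matrix.mulVec_add, Matrix.mulVec_smul, hr, hr]
      by_cases h0 : a = 𝟎
      · subst h0
        simp [s0, sk _ _ h20 h21, rVec, (hup 𝟏).2, h10.symm, h21, h21.symm]
      by_cases h1 : a = 𝟏
      · subst h1
        simp [s1, rVec, (hup 𝟎).2, h10, h10.symm, h20.symm]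
      simp [sk a _ h0 h1, rVec, (hup a).1, h0, h1]
  rw [y12, map_mul, map_mul, ← key, mul_assoc, ← map_mul, mul_inv_cancel, map_one, mul_one]

theorem rho_Y (i j : Fin n) (hij : i ≠ j) (t : F) :
    ρ (Yel hn ι r i j t) = upM (yBlock i j t) := by
  obtain ⟨σ, c, hg, h1, h2, c1, c2⟩ := (exists_carrier (F := F) hn hij).choose_spec
  set g := (exists_carrier (F := F) hn hij).choose with hgdef
  have key : ρ (ι g) * upM (yBlock 𝟏 𝟐 t) = upM (yBlock i j t) * ρ (ι g) := by
    rw [M.hι, upM, upM, Matrix.fromBlocks_multiply, Matrix.fromBlocks_multiply]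
    simp only [Matrix.mul_zero, Matrix.zero_mul, add_zero, zero_add, Matrix.mul_one, Matrix.one_mul]
    congr 1
    rw [yBlock, yBlock, mul_sub, sub_mul, hg.mul_single, hg.mul_single]
    nth_rewrite 1 [← h2]
    rw [← h1]
    conv_rhs => rw [← h2]
    rw [hg.theta.single_mul, hg.theta.single_mul, c1, c2]
    simp [h1, h2]
  rw [Yel, dif_pos hij, map_mul, map_mul, M.rho_y12, key, mul_assoc, ← map_mul, mul_inv_cancel,
    map_one, mul_one]

end Model

/-- The second family generates this subgroup. -/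
def Ysub (hn : 4 ≤ n) (ι : SL →* G) (r : G) (S : Set (Fin n × Fin n)) : Subgroup G :=
  Subgroup.closure {x | ∃ i j t, i ≠ j ∧ (i, j) ∈ S ∧ x = Yel hn ι r i j t}

/-- The lower unitriangular elements. -/
def LTsub : Subgroup SL :=
  Subgroup.closure {g | ∃ i j, ∃ h : i ≠ j, ∃ t, j.val < i.val ∧ g = tv h t}

theorem ltsub_tri {g : SL} (hg : g ∈ LTsub) :
    (∀ x y : Fin n, x ≤ y → (g : M1) x y = if x = y then 1 else 0) ∧
      (∀ x y : Fin n, y ≤ x → ((theta g : SL) : M1) x y = if x = y then 1 else 0) := by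
  have hmul : ∀ (A B : M1) (R : Fin n → Fin n → Prop), (∀ x y, R x y → R y x → x = y) →
      (∀ x, R x x) → (∀ x y z, R x y → R y z → R x z) → (∀ x y, R x y ∨ R y x) →
      (∀ x y, R x y → A x y = if x = y then 1 else 0) →
      (∀ x y, R x y → B x y = if x = y then 1 else 0) →
      ∀ x y, R x y → (A * B) x y = if x = y then 1 else 0 := by
    intro A B R hanti hrefl htrans htot hA hB x y hxy
    rw [Matrix.mul_apply, Finset.sum_eq_single x]
    · rw [hA x x (hrefl x), if_pos rfl, one_mul, hB x y hxy]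
    · intro k _ hk
      rcases htot x k with h | h
      · rw [hA x k h, if_neg (Ne.symm hk), zero_mul]
      · have hky : R k y := htrans k x y h hxy
        rw [hB k y hky]
        by_cases e : k = y
        · subst e
          exact absurd (hanti k x h hxy) hk
        · rw [if_neg e, mul_zero]
    · simp
  have htv : ∀ (i j : Fin n) (h : i ≠ j), j.val < i.val → ∀ t : F,
      (∀ x y : Fin n, x ≤ y → (tv h t : SL).1 x y = if x = y then 1 else 0) ∧
      (∀ x y : Fin n, y ≤ x → ((theta (tv h t) : SL) : M1) x y = if x = y then 1 else 0) := by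
    intro i j h hlt t
    refine ⟨fun x y hxy => ?_, fun x y hxy => ?_⟩
    · rw [Matrix.SpecialLinearGroup.transvection_coe, Matrix.add_apply, Matrix.one_apply,
        Matrix.single_apply, if_neg (fun e : i = x ∧ j = y => ?_), add_zero]
      obtain ⟨rfl, rfl⟩ := e
      exact absurd hlt (not_lt.2 hxy)
    · rw [theta_tv, Matrix.SpecialLinearGroup.transvection_coe, Matrix.add_apply, Matrix.one_apply,
        Matrix.single_apply, if_neg (fun e : j = x ∧ i = y => ?_), add_zero]
      obtain ⟨rfl, rfl⟩ := e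
      exact absurd hlt (not_lt.2 hxy)
  refine Subgroup.closure_induction_left (p := fun (g : SL) _ =>
    (∀ x y : Fin n, x ≤ y → (g : M1) x y = if x = y then 1 else 0) ∧
      (∀ x y : Fin n, y ≤ x → ((theta g : SL) : M1) x y = if x = y then 1 else 0)) ?_ ?_ ?_ hg
  · simp [Matrix.one_apply]
  all_goals rintro _ ⟨i, j, h, t, hlt, rfl⟩ z - ⟨h1, h2⟩
  all_goals try rw [tv_inv]
  all_goals refine ⟨fun x y hxy => ?_, fun x y hxy => ?_⟩
  all_goals try rw [map_mul]
  all_goals rw [Matrix.SpecialLinearGroup.coe_mul]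
  · exact hmul _ _ (· ≤ ·) (fun _ _ => le_antisymm) le_refl (fun _ _ _ => le_trans) le_total
      (htv i j h hlt t).1 h1 x y hxy
  · exact hmul _ _ (fun a b => b ≤ a) (fun _ _ a b => le_antisymm b a) le_refl
      (fun _ _ _ a b => le_trans b a) (fun a b => le_total b a) (htv i j h hlt t).2 h2 x y hxy
  · exact hmul _ _ (· ≤ ·) (fun _ _ => le_antisymm) le_refl (fun _ _ _ => le_trans) le_total
      (htv i j h hlt (-t)).1 h1 x y hxy
  · exact hmul _ _ (fun a b => b ≤ a) (fun _ _ a b => le_antisymm b a) le_refl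
      (fun _ _ _ a b => le_trans b a) (fun a b => le_total b a) (htv i j h hlt (-t)).2 h2 x y hxy

namespace Data

variable {hn : 4 ≤ n} {ι : Matrix.SpecialLinearGroup (Fin n) F →* G} {r : G} (D : Data hn ι r)
include D

theorem ysub_conj {i j : Fin n} (h : i ≠ j) (s : F) {a : G} (ha : a ∈ Ysub hn ι r Set.univ) :
    ι (tv h s) * a * (ι (tv h s))⁻¹ ∈ Ysub hn ι r Set.univ := by
  have hY : ∀ p q : Fin n, p ≠ q → ∀ u : F, Yel hn ι r p q u ∈ Ysub hn ι r Set.univ :=
    fun p q hpq u => Subgroup.subset_closure ⟨p, q, u, hpq, Set.mem_univ _, rfl⟩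
  have : Ysub hn ι r Set.univ ≤ (Ysub hn ι r Set.univ).comap (MulAut.conj (ι (tv h s))).toMonoidHom := by
    refine (Subgroup.closure_le _).2 ?_
    rintro _ ⟨p, q, u, hpq, -, rfl⟩
    show ι (tv h s) * Yel hn ι r p q u * (ι (tv h s))⁻¹ ∈ Ysub hn ι r Set.univ
    by_cases hc : (j ≠ p ∧ j ≠ q) ∨ ((i = p ∨ i = q) ∧ (j = p ∨ j = q))
    · rw [(D.X_Y_comm h hpq hc s u).eq, mul_inv_cancel_right]
      exact hY p q hpq u
    by_cases hjp : j = p
    · subst hjp
      have hiq : i ≠ q := fun e => hc (Or.inr ⟨Or.inr e, Or.inl rfl⟩)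
      rw [D.X_Y' h hiq hpq]
      exact mul_mem (hY _ _ hiq _) (hY _ _ hpq _)
    · have hjq : j = q := by
        by_contra hq
        exact hc (Or.inl ⟨hjp, hq⟩)
      subst hjq
      have hip : i ≠ p := fun e => hc (Or.inr ⟨Or.inl e, Or.inr rfl⟩)
      rw [D.X_Y h hip (Ne.symm hpq)]
      exact mul_mem (hY _ _ hip.symm _) (hY _ _ hpq _)
  exact this ha

theorem upos_split {u : G} (hu : u ∈ Upos hn ι r) :
    ∃ a ∈ Ysub hn ι r Set.univ, ∃ g ∈ LTsub, u = a * ι g := by
  have step : ∀ K L : Fin n × Bool, K.1 ≠ L.1 → Pos K L → ∀ (s : F) (y : G),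
      (∃ a ∈ Ysub hn ι r Set.univ, ∃ g ∈ LTsub, y = a * ι g) →
      ∃ a ∈ Ysub hn ι r Set.univ, ∃ g ∈ LTsub, RX hn ι r K L s * y = a * ι g := by
    have hX : ∀ (p q : Fin n) (h : p ≠ q), q.val < p.val → ∀ (s : F) (y : G),
        (∃ a ∈ Ysub hn ι r Set.univ, ∃ g ∈ LTsub, y = a * ι g) →
        ∃ a ∈ Ysub hn ι r Set.univ, ∃ g ∈ LTsub, ι (tv h s) * y = a * ι g := by
      rintro p q h hlt s y ⟨a, ha, g, hg, rfl⟩
      exact ⟨_, D.ysub_conj h s ha, tv h s * g,
        mul_mem (Subgroup.subset_closure ⟨p, q, h, s, hlt, rfl⟩) hg, by rw [map_mul]; group⟩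
    rintro ⟨k, b⟩ ⟨l, b'⟩ h hP s y hy
    cases b <;> cases b'
    · rw [show RX hn ι r (k, false) (l, false) s = ι (tv (Ne.symm h) s) from dif_pos (Ne.symm h)]
      exact hX l k _ (by simp [Pos, wt] at hP; omega) s y hy
    · simp [Pos, wt] at hP; omega
    · obtain ⟨a, ha, g, hg, rfl⟩ := hy
      exact ⟨_, mul_mem (Subgroup.subset_closure ⟨k, l, s, h, Set.mem_univ _, rfl⟩) ha, g, hg,
        (mul_assoc _ _ _).symm⟩
    · rw [show RX hn ι r (k, true) (l, true) s = ι (tv h s) from dif_pos h]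
      exact hX k l _ (by simp [Pos, wt] at hP; omega) s y hy
  refine Subgroup.closure_induction_left
    (p := fun u _ => ∃ a ∈ Ysub hn ι r Set.univ, ∃ g ∈ LTsub, u = a * ι g)
    ⟨1, one_mem _, 1, one_mem _, by rw [map_one, mul_one]⟩ ?_ ?_ hu
  · rintro _ ⟨K, L, s, h, hP, rfl⟩ y - hy
    exact step K L h hP s y hy
  · rintro _ ⟨K, L, s, h, hP, rfl⟩ y - hy
    rw [← D.RX_neg h]
    exact step K L h hP (-s) y hy

variable {ρ : G →* Matrix (Fin n ⊕ Fin n) (Fin n ⊕ Fin n) F} (M : Model hn ι r ρ)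
include M

theorem ysub_upM (S : Set (Fin n × Fin n)) {y : G} (hy : y ∈ Ysub hn ι r S) :
    ∃ A : M1, ρ y = upM A ∧ ∀ a b, (a, b) ∉ S → (b, a) ∉ S → A a b = 0 := by
  have step : ∀ i j : Fin n, i ≠ j → (i, j) ∈ S → ∀ (t : F) (z : G),
      (∃ A : M1, ρ z = upM A ∧ ∀ a b, (a, b) ∉ S → (b, a) ∉ S → A a b = 0) →
      ∃ A : M1, ρ (Yel hn ι r i j t * z) = upM A ∧ ∀ a b, (a, b) ∉ S → (b, a) ∉ S → A a b = 0 := by
    rintro i j hij hS t z ⟨A, hA, hA0⟩
    refine ⟨yBlock i j t + A, by rw [map_mul, M.rho_Y i j hij, hA, upM_mul], fun a b h1 h2 => ?_⟩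
    rw [Matrix.add_apply, hA0 a b h1 h2, add_zero, yBlock, Matrix.sub_apply, Matrix.single_apply,
      Matrix.single_apply, if_neg (by rintro ⟨rfl, rfl⟩; exact h2 hS),
      if_neg (by rintro ⟨rfl, rfl⟩; exact h1 hS), sub_zero]
  refine Subgroup.closure_induction_left
    (p := fun y _ => ∃ A : M1, ρ y = upM A ∧ ∀ a b, (a, b) ∉ S → (b, a) ∉ S → A a b = 0)
    ⟨0, by rw [map_one, upM, Matrix.fromBlocks_one], fun _ _ _ _ => rfl⟩ ?_ ?_ hy
  · rintro _ ⟨i, j, t, hij, hS, rfl⟩ z - hz
    exact step i j hij hS t z hz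
  · rintro _ ⟨i, j, t, hij, hS, rfl⟩ z - hz
    rw [← D.Y_neg hij]
    exact step i j hij hS (-t) z hz

theorem ysub_injective {y : G} (hy : y ∈ Ysub hn ι r Set.univ) (h : ρ y = 1) : y = 1 := by
  classical
  suffices ∀ S : Finset (Fin n × Fin n), (∀ p ∈ S, p.1 < p.2) →
      ∀ y ∈ Ysub hn ι r (↑S : Set (Fin n × Fin n)), ρ y = 1 → y = 1 by
    refine this (Finset.univ.filter fun p => p.1 < p.2) (fun p hp => (Finset.mem_filter.1 hp).2) y ?_ h
    refine (Subgroup.closure_le (K := Ysub hn ι r _)).2 ?_ hy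
    rintro _ ⟨i, j, t, hij, -, rfl⟩
    rcases lt_or_gt_of_ne hij with hlt | hgt
    · exact Subgroup.subset_closure ⟨i, j, t, hij, by simpa using hlt, rfl⟩
    · rw [D.Y_swap hij.symm t]
      exact Subgroup.subset_closure ⟨j, i, -t, hij.symm, by simpa using hgt, rfl⟩
  intro S
  induction S using Finset.induction_on with
  | empty =>
    intro _ y hy _
    have : Ysub hn ι r (↑(∅ : Finset (Fin n × Fin n)) : Set (Fin n × Fin n)) ≤ ⊥ :=
      (Subgroup.closure_le _).2 (by rintro _ ⟨i, j, t, -, hS, -⟩; simp at hS)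
    simpa using this hy
  | insert p S hpS ih =>
    intro hord y hy hρ
    obtain ⟨i, j⟩ := p
    have hlt : i < j := hord (i, j) (Finset.mem_insert_self _ _)
    have hij : i ≠ j := hlt.ne
    have step : ∀ a b : Fin n, a ≠ b → (a, b) ∈ insert (i, j) S → ∀ (u : F) (z : G),
        (∃ t, ∃ w ∈ Ysub hn ι r (↑S : Set (Fin n × Fin n)), z = Yel hn ι r i j t * w) →
        ∃ t, ∃ w ∈ Ysub hn ι r (↑S : Set (Fin n × Fin n)),
          Yel hn ι r a b u * z = Yel hn ι r i j t * w := by
      rintro a b hab hS u z ⟨t, w, hw, rfl⟩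
      rcases Finset.mem_insert.1 hS with e | hS
      · obtain ⟨rfl, rfl⟩ := Prod.ext_iff.1 e
        exact ⟨u + t, w, hw, by rw [D.Y_add hab, mul_assoc]⟩
      · refine ⟨t, Yel hn ι r a b u * w,
          mul_mem (Subgroup.subset_closure ⟨a, b, u, hab, hS, rfl⟩) hw, ?_⟩
        rw [← mul_assoc, ← mul_assoc, (D.Y_commute hab hij u t).eq]
    obtain ⟨t, w, hw, rfl⟩ : ∃ t, ∃ w ∈ Ysub hn ι r (↑S : Set (Fin n × Fin n)),
        y = Yel hn ι r i j t * w := by
      refine Subgroup.closure_induction_left (p := fun y _ => ∃ t, ∃ w ∈ Ysub hn ι r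
        (↑S : Set (Fin n × Fin n)), y = Yel hn ι r i j t * w)
        ⟨0, 1, one_mem _, by rw [D.Y_zero hij, one_mul]⟩ ?_ ?_ hy
      · rintro _ ⟨a, b, u, hab, hS, rfl⟩ z - hz
        exact step a b hab hS u z hz
      · rintro _ ⟨a, b, u, hab, hS, rfl⟩ z - hz
        rw [← D.Y_neg hab]
        exact step a b hab hS (-u) z hz
    obtain ⟨A, hA, hA0⟩ := D.ysub_upM M _ hw
    have h1 : A i j = 0 := hA0 i j hpS (fun e => absurd (hord _ (Finset.mem_insert_of_mem e))
      (not_lt.2 hlt.le))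
    have h2 := hρ
    rw [map_mul, M.rho_Y i j hij, hA, upM_mul, upM, ← Matrix.fromBlocks_one,
      Matrix.fromBlocks_inj] at h2
    have h3 := congrFun (congrFun h2.2.1 i) j
    rw [Matrix.add_apply, h1, add_zero, yBlock, Matrix.sub_apply, Matrix.single_apply,
      Matrix.single_apply, if_neg (fun e => hij e.1.symm), if_pos ⟨rfl, rfl⟩] at h3
    have ht : t = 0 := by simpa using h3
    subst ht
    rw [D.Y_zero hij, one_mul] at hρ ⊢
    exact ih (fun q hq => hord q (Finset.mem_insert_of_mem hq)) w hw hρ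

/-- The positive part is mapped injectively. -/
theorem upos_injective {u : G} (hu : u ∈ Upos hn ι r) (h : ρ u = 1) : u = 1 := by
  obtain ⟨a, ha, g, -, rfl⟩ := D.upos_split hu
  obtain ⟨A, hA, -⟩ := D.ysub_upM M _ ha
  rw [map_mul, hA, M.hι, upM, Matrix.fromBlocks_multiply, ← Matrix.fromBlocks_one,
    Matrix.fromBlocks_inj] at h
  have hg1 : g = 1 := sl_ext (by simpa using h.1)
  subst hg1
  rw [map_one, mul_one]
  refine D.ysub_injective M ha ?_
  have h2 := h.2.1
  simp only [map_one, Matrix.SpecialLinearGroup.coe_one, Matrix.mul_one, Matrix.one_mul,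
    Matrix.mul_zero, zero_add] at h2
  rw [hA, h2, upM, Matrix.fromBlocks_one]

/-- The positive part has ones on the diagonal. -/
theorem upos_diag {u : G} (hu : u ∈ Upos hn ι r) (x : Fin n ⊕ Fin n) : ρ u x x = 1 := by
  obtain ⟨a, ha, g, hg, rfl⟩ := D.upos_split hu
  obtain ⟨A, hA, -⟩ := D.ysub_upM M _ ha
  rw [map_mul, hA, M.hι, upM, Matrix.fromBlocks_multiply]
  cases x with
  | inl a => simpa using (ltsub_tri hg).1 a a le_rfl
  | inr a => simpa using (ltsub_tri hg).2 a a le_rfl

end Data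

end CfsgLib.OmegaPresent
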