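import Cfsg.Agent.Lib.OmegaPresent.Flip
import Cfsg.Agent.Lib.OmegaPresent.Torus
import Cfsg.Agent.Lib.OmegaPresent.Unipotent

/-!
The homomorphism to matrices is injective.
-/

set_option autoImplicit false
set_option linter.unusedSectionVars false
set_option linter.unusedSimpArgs false

namespace CfsgLib.OmegaPresent

open Equiv Matrix CfsgLib.SLPresent

variable {F : Type*} [Field F] {n : ℕ} {G : Type*} [Group G]

local notation "SL" => Matrix.SpecialLinearGroup (Fin n) F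
local notation "tv" => Matrix.SpecialLinearGroup.transvection
local notation "M2" => Matrix (Fin n ⊕ Fin n) (Fin n ⊕ Fin n) F

theorem SendsC.of_one {f : Perm (Fin n × Bool)} {c : Fin n × Bool → F}
    (h : SendsC (1 : M2) f c) : f = 1 ∧ ∀ I, c I = 1 :=
  ⟨Equiv.ext fun I => (h.diag I (Matrix.one_apply_eq _)).1, fun I => (h.diag I (Matrix.one_apply_eq _)).2⟩

theorem sigR_sq (hn : 4 ≤ n) : sigR hn * sigR hn = 1 := by
  obtain ⟨s0, s1, sk⟩ := sigR_apply hn
  refine Equiv.ext fun I => ?_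
  obtain ⟨a, s⟩ := I
  rw [Perm.mul_apply, Perm.one_apply]
  by_cases h0 : a = idx hn 0
  · subst h0; rw [s0, s1, Bool.not_not]
  by_cases h1 : a = idx hn 1
  · subst h1; rw [s1, s0, Bool.not_not]
  rw [sk a s h0 h1, sk a s h0 h1]

namespace Data

variable {hn : 4 ≤ n} {ι : Matrix.SpecialLinearGroup (Fin n) F →* G} {r : G} (D : Data hn ι r)
variable {ρ : G →* Matrix (Fin n ⊕ Fin n) (Fin n ⊕ Fin n) F} (M : Model hn ι r ρ)

local notation "𝟎" => idx hn 0
local notation "𝟏" => idx hn 1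
local notation "𝟐" => idx hn 2

include D

theorem tor_subgroupOf_normal : (D.Tor.subgroupOf (Nsub ι r)).Normal :=
  ⟨fun y hy x => by
    rw [Subgroup.mem_subgroupOf] at hy ⊢
    exact D.tor_norm x.2 hy⟩

include M

theorem H_sends (a : Fˣ) :
    ∃ c, SendsC (ρ (Hel hn ι r a)) 1 c ∧
      (∀ k, k ≠ 𝟏 → k ≠ 𝟐 → c (k, true) = 1) ∧ c (𝟏, true) = a ∧ c (𝟐, true) = a := by
  have h20 : (idx hn 2 : Fin n) ≠ idx hn 0 := idx_ne hn (by decide)
  have h21 : (idx hn 2 : Fin n) ≠ idx hn 1 := idx_ne hn (by decide)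
  have h01 : (idx hn 0 : Fin n) ≠ idx hn 1 := idx_ne hn (by decide)
  have hd := M.sends_mon (dg_mon (F := F) h20 a)
  have hi := M.sends_mon (dg_mon (F := F) h01 (-1 : Fˣ)).inv
  have h := (M.sends_r.mul hd).mul (M.sends_r.mul hi)
  have e : Hel hn ι r a = r * ι (dg 𝟐 𝟎 h20 a) * (r * ι (dg 𝟎 𝟏 h01 (-1 : Fˣ))⁻¹) := by
    rw [Hel, map_inv, ← D.inv_r]
  rw [← map_mul, ← map_mul, ← map_mul, ← e] at h
  rw [inv_one, liftP_one, mul_one, sigR_sq] at h
  obtain ⟨s0, s1, sk⟩ := sigR_apply hn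
  refine ⟨_, h, fun k k1 k2 => ?_, ?_, ?_⟩
  · simp only [Perm.mul_apply, Perm.coe_one, id]
    by_cases k0 : k = 𝟎
    · subst k0; simp [s0, rVec, monVec, hVec, h01, h01.symm, h21, h21.symm]
    · simp [sk k _ k0 k1, rVec, monVec, hVec, k0, k1, k2]
  · simp [s1, rVec, monVec, hVec, h01, h01.symm, h20, h20.symm]
  · simp [sk _ _ h20 h21, rVec, monVec, hVec, h20, h20.symm, h21, h21.symm]

theorem tor_sends {x : G} (hx : x ∈ D.Tor) : ∃ c, SendsC (ρ x) 1 c := by
  obtain ⟨d, c, a, hd, rfl⟩ := hx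
  obtain ⟨c', h, -⟩ := D.H_sends M a
  have := (M.sends_mon hd).mul h
  rw [← map_mul, liftP_one, mul_one] at this
  exact ⟨_, this⟩

theorem tor_injective {x : G} (hx : x ∈ D.Tor) (h : ρ x = 1) : x = 1 := by
  have h20 : (idx hn 2 : Fin n) ≠ idx hn 0 := idx_ne hn (by decide)
  have h21 : (idx hn 2 : Fin n) ≠ idx hn 1 := idx_ne hn (by decide)
  have h12 : (idx hn 1 : Fin n) ≠ idx hn 2 := idx_ne hn (by decide)
  have h01 : (idx hn 0 : Fin n) ≠ idx hn 1 := idx_ne hn (by decide)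
  obtain ⟨d, c, a, hd, rfl⟩ := hx
  obtain ⟨c', hs, hk, h1, h2⟩ := D.H_sends M a
  have hm := (M.sends_mon hd).mul hs
  rw [← map_mul, h] at hm
  obtain ⟨-, hc⟩ := hm.of_one
  have e : ∀ k, c k * c' (k, true) = 1 := fun k => by simpa [monVec] using hc (k, true)
  have ek : ∀ k, k ≠ 𝟏 → k ≠ 𝟐 → c k = 1 := fun k k1 k2 => by simpa [hk k k1 k2] using e k
  have e1 : c 𝟏 * a = 1 := h1 ▸ e 𝟏
  have e2 : c 𝟐 * a = 1 := h2 ▸ e 𝟐
  have hp : c 𝟏 * c 𝟐 = 1 := by
    rw [← hd.prod_eq, Finset.prod_eq_mul 𝟏 𝟐 h12 (fun k _ hk => ek k hk.1 hk.2) (by simp) (by simp)]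
  have hsq : (a : F) * a = 1 := by linear_combination e1 * c 𝟐 * a + e2 - (a : F) * a * hp
  rcases mul_self_eq_one_iff.1 hsq with ha | ha
  · have ha1 : a = 1 := Units.ext ha
    subst ha1
    rw [D.H_one, mul_one]
    rw [(hd.ext isMon_one fun k => ?_), map_one]
    by_cases k1 : k = 𝟏
    · subst k1; simpa using e1
    by_cases k2 : k = 𝟐
    · subst k2; simpa using e2
    exact ek k k1 k2
  · have ha1 : a = -1 := Units.ext (by simpa using ha)
    subst ha1
    have hw : (dg 𝟐 𝟎 h20 (-1 : Fˣ) : SL) = w02 hn * w02 hn := by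
      have hw2 := (w02_mon (F := F) hn).mul (w02_mon hn)
      rw [Equiv.swap_mul_self] at hw2
      refine (dg_mon h20 _).ext hw2 fun k => ?_
      simp only [hVec]
      by_cases k0 : k = 𝟎
      · subst k0; simp [h20, h20.symm]
      by_cases k2 : k = 𝟐
      · subst k2; simp [h20, h20.symm]
      simp [swap_apply_of_ne_of_ne k0 k2, k0, k2]
    obtain ⟨c0, c1, -⟩ := cyc_apply hn
    have hH : Hel hn ι r (-1 : Fˣ) = ι (dg 𝟏 𝟐 h12 (-1 : Fˣ)) := by
      rw [Hel, hw, map_mul, ← conj_mul, D.braid, conj_mul, D.sq, ← map_inv, ← map_mul, ← map_mul]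
      congr 1
      have h' := pm_dg (F := F) (cyc hn) h01 (-1 : Fˣ)
      rw [MulAut.conj_apply] at h'
      rw [h']
      have hm1 := dg_mon (F := F) ((cyc hn : Perm (Fin n)).injective.ne h01) (-1 : Fˣ)
      exact hm1.ext (dg_mon h12 _) fun k => by rw [c0, c1]
    rw [hH, ← map_mul]
    have hdd := hd.mul (dg_mon (F := F) h12 (-1 : Fˣ))
    rw [one_mul] at hdd
    rw [hdd.ext isMon_one fun k => ?_, map_one]
    simp only [hVec, Perm.coe_one, id]
    by_cases k1 : k = 𝟏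
    · subst k1; simpa using e1
    by_cases k2 : k = 𝟐
    · subst k2; simpa [k1] using e2
    simpa [k1, k2] using ek k k1 k2

/-- The monomial part is mapped injectively. -/
theorem nsub_injective {x : G} (hx : x ∈ Nsub ι r) (h : ρ x = 1) : x = 1 := by
  haveI := D.tor_subgroupOf_normal
  have h01 : (idx hn 0 : Fin n) ≠ idx hn 1 := idx_ne hn (by decide)
  let q : ↥(Nsub ι r) →* ↥(Nsub ι r) ⧸ D.Tor.subgroupOf (Nsub ι r) := QuotientGroup.mk' _
  have q_eq : ∀ a b : ↥(Nsub ι r), q a = q b → ∃ t ∈ D.Tor, (b : G) = a * t := fun a b e => by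
    refine ⟨(a : G)⁻¹ * b, ?_, by group⟩
    have := QuotientGroup.eq.1 e
    rwa [Subgroup.mem_subgroupOf] at this
  let gm : Perm (Fin n) → SL := fun σ => (exists_mon (F := F) σ 𝟐).choose
  have hgm : ∀ σ, ∃ c, IsMon (gm σ) σ c ∧ ∀ k, k ≠ 𝟐 → c k = 1 := fun σ => (exists_mon σ 𝟐).choose_spec
  let pf : Perm (Fin n) → ↥(Nsub ι r) ⧸ D.Tor.subgroupOf (Nsub ι r) := fun σ =>
    q ⟨ι (gm σ), mon_mem_Nsub ι r (hgm σ).choose_spec.1.mem⟩
  have q_mon : ∀ (g : SL) (σ : Perm (Fin n)) (c : Fin n → F) (hg : IsMon g σ c),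
      q ⟨ι g, mon_mem_Nsub ι r hg.mem⟩ = pf σ := fun g σ c hg => by
    refine QuotientGroup.eq.2 ?_
    rw [Subgroup.mem_subgroupOf]
    show (ι g)⁻¹ * ι (gm σ) ∈ D.Tor
    rw [← map_inv, ← map_mul]
    have := hg.inv.mul (hgm σ).choose_spec.1
    rw [inv_mul_cancel] at this
    exact D.diag_mem_tor this
  let p : Perm (Fin n) →* ↥(Nsub ι r) ⧸ D.Tor.subgroupOf (Nsub ι r) :=
    MonoidHom.mk' pf fun σ τ => by
      rw [← q_mon _ _ _ ((hgm σ).choose_spec.1.mul (hgm τ).choose_spec.1)]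
      show _ = q _ * q _
      rw [← map_mul]
      congr 1
      exact Subtype.ext (map_mul ι _ _)
  let R := q ⟨r, r_mem_Nsub ι r⟩
  have hsq : R * R = 1 := by
    show q _ * q _ = 1
    rw [← map_mul]
    refine (QuotientGroup.eq_one_iff _).2 ?_
    rw [Subgroup.mem_subgroupOf]
    show r * r ∈ D.Tor
    rw [D.sq]
    exact D.diag_mem_tor (dg_mon h01 _)
  have hcomm : ∀ (g : SL) (σ : Perm (Fin n)) (c : Fin n → F), IsMon g σ c → g ∈ LevP 𝟎 𝟏 →
      Commute (p σ) R := fun g σ c hg hm => by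
    show Commute (pf σ) R
    rw [← q_mon g σ c hg]
    show q _ * q _ = q _ * q _
    rw [← map_mul, ← map_mul]
    congr 1
    exact Subtype.ext (D.comm_r g hm).symm.eq
  have FD : FlipData hn p R :=
    { sq := hsq
      stab := fun σ h0 h1 => by
        obtain ⟨c, hc, hc1⟩ := hgm σ
        refine hcomm _ σ c hc (mon_mem_levP (by omega) h01 σ _ c hc h0 h1 ?_)
        rw [hc1 _ (idx_ne hn (by decide)), hc1 _ (idx_ne hn (by decide)), one_mul]
      swap01 := hcomm _ _ _ (wEl_mon h01 one_ne_zero) (wEl_mem_levP h01 (by simp [Same]) 1)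
      braid := by
        show R * pf (swap 𝟎 𝟐) * R = pf _ * R * (pf _)⁻¹
        rw [← q_mon _ _ _ (w02_mon (F := F) hn), ← q_mon _ _ _ (pm_mon (F := F) (cyc hn))]
        nth_rewrite 2 [← inv_eq_of_mul_eq_one_right hsq]
        show q _ * q _ * (q _)⁻¹ = q _ * q _ * (q _)⁻¹
        rw [← map_inv, ← map_inv, ← map_mul, ← map_mul, ← map_mul, ← map_mul]
        congr 1
        exact Subtype.ext D.braid }
  let Snd : G → Perm (Fin n × Bool) → Prop := fun y f => ∃ c, SendsC (ρ y) f c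
  have snd_mul : ∀ {y z : G} {f g : Perm (Fin n × Bool)}, Snd y f → Snd z g → Snd (y * z) (f * g) :=
    fun ⟨c, hy⟩ ⟨d, hz⟩ => ⟨_, by rw [map_mul]; exact hy.mul hz⟩
  have snd_tor : ∀ {y t : G} {f : Perm (Fin n × Bool)}, Snd y f → t ∈ D.Tor → Snd (y * t) f :=
    fun {y t f} hy ht => by simpa using snd_mul hy (D.tor_sends M ht)
  have snd_mon : ∀ {g : SL} {σ : Perm (Fin n)} {c : Fin n → F}, IsMon g σ c → Snd (ι g) (liftP σ) :=
    fun hg => ⟨_, M.sends_mon hg⟩
  obtain ⟨s0, s1, sk⟩ := sigR_apply hn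
  have hE : ∀ k : Fin n, k ≠ 𝟎 → ∃ (e : ↥(Nsub ι r)) (f : Perm (Fin n × Bool)),
      q e = flipEl hn p R 𝟎 k ∧ Snd e f ∧
      ∀ j s, f (j, s) = if j = 𝟎 ∨ j = k then (j, !s) else (j, s) := by
    intro k hk
    obtain ⟨σ, hσ⟩ := exists_perm_extend (f := ![idx hn 0, idx hn 1]) (g := ![idx hn 0, k])
      (fun x y e => by fin_cases x <;> fin_cases y <;> simp [h01, h01.symm] at e ⊢)
      (fun x y e => by fin_cases x <;> fin_cases y <;> simp [hk, hk.symm] at e ⊢)
    have t0 : σ 𝟎 = 𝟎 := hσ 0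
    have t1 : σ 𝟏 = k := hσ 1
    obtain ⟨c, hc, -⟩ := hgm σ
    obtain ⟨c', hc', -⟩ := hgm (swap 𝟎 k)
    refine ⟨⟨ι (gm (swap 𝟎 k)) * (ι (gm σ) * r * (ι (gm σ))⁻¹),
      mul_mem (mon_mem_Nsub ι r hc'.mem) (mul_mem (mul_mem (mon_mem_Nsub ι r hc.mem) (r_mem_Nsub ι r))
        (inv_mem (mon_mem_Nsub ι r hc.mem)))⟩, _, ?_, snd_mul (snd_mon hc')
          (snd_mul (snd_mul (snd_mon hc) ⟨_, M.sends_r⟩)
            (show Snd (ι (gm σ))⁻¹ (liftP σ⁻¹) by rw [← map_inv]; exact snd_mon hc.inv)), ?_⟩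
    · have hp : pairR hn p R 𝟎 k = p σ * R * (p σ)⁻¹ := by
        have := FD.P_eq σ
        rwa [t0, t1] at this
      rw [flipEl, hp]
      show q _ = q _ * (q _ * q _ * (q _)⁻¹)
      rw [← map_inv q, ← map_mul q, ← map_mul q, ← map_mul q]
      rfl
    · intro j s
      simp only [Perm.mul_apply, liftP_apply, Perm.inv_def]
      by_cases j0 : j = 𝟎
      · rw [if_pos (Or.inl j0), j0]
        simp [show σ.symm 𝟎 = 𝟎 by rw [Equiv.symm_apply_eq, t0], s0, liftP_apply, t1]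
      by_cases jk : j = k
      · rw [if_pos (Or.inr jk), jk]
        simp [show σ.symm k = 𝟏 by rw [Equiv.symm_apply_eq, t1], s1, liftP_apply, t0]
      rw [if_neg (by simp [j0, jk])]
      simp [sk (σ.symm j) s (fun e => j0 (by rw [← t0, ← e, Equiv.apply_symm_apply]))
        (fun e => jk (by rw [← t1, ← e, Equiv.apply_symm_apply])), liftP_apply,
        swap_apply_of_ne_of_ne j0 jk]
  have rep : ∀ m, ∀ y ∈ flipGroup hn p R m, ∃ (e : ↥(Nsub ι r)) (f : Perm (Fin n × Bool)),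
      q e = y ∧ Snd e f ∧ (∀ j s, (f (j, s)).1 = j) ∧
      ∀ j : Fin n, j ≠ 𝟎 → m ≤ j.val → f (j, true) = (j, true) := by
    intro m
    induction m with
    | zero =>
      intro y hy
      have : flipGroup hn p R 0 ≤ ⊥ := (Subgroup.closure_le _).2 (by rintro _ ⟨k, -, hk, -⟩; omega)
      obtain rfl : y = 1 := by simpa using this hy
      exact ⟨1, 1, map_one q, ⟨_, by rw [Subgroup.coe_one, map_one]; exact sendsC_one⟩,
        fun j s => rfl, fun j _ _ => rfl⟩
    | succ m ih =>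
      intro y hy
      rcases FD.flipGroup_succ hy with hy | ⟨k, hk, hkm, z, hz, rfl⟩
      · obtain ⟨e, f, he, hs, h1, h2⟩ := ih y hy
        exact ⟨e, f, he, hs, h1, fun j hj hm => h2 j hj (by omega)⟩
      · obtain ⟨e, f, he, hs, h1, h2⟩ := ih z hz
        obtain ⟨e', f', he', hs', h'⟩ := hE k hk
        refine ⟨e' * e, f' * f, by rw [map_mul, he', he], snd_mul hs' hs, fun j s => ?_,
          fun j hj hm => ?_⟩
        · obtain ⟨b, hb⟩ : ∃ b, f (j, s) = (j, b) := ⟨(f (j, s)).2, Prod.ext (h1 j s) rfl⟩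
          rw [Perm.mul_apply, hb, h']
          split_ifs <;> rfl
        · rw [Perm.mul_apply, h2 j hj (by omega), h', if_neg]
          rintro (e0 | e0)
          · exact hj e0
          · rw [e0, hkm] at hm; omega
  have hqx : (⟨x, hx⟩ : ↥(Nsub ι r)) ∈ (Subgroup.closure (Set.range p ∪ {R})).comap q := by
    have key : ∀ y (hy : y ∈ Nsub ι r), q ⟨y, hy⟩ ∈ Subgroup.closure (Set.range p ∪ {R}) := by
      intro y hy
      refine Subgroup.closure_induction (p := fun y hy => q ⟨y, hy⟩ ∈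
        Subgroup.closure (Set.range p ∪ {R})) ?_ ?_ ?_ ?_ hy
      · rintro y (⟨g, ⟨σ, c, hg⟩, rfl⟩ | rfl)
        · exact Subgroup.subset_closure (Or.inl ⟨σ, (q_mon g σ c hg).symm⟩)
        · exact Subgroup.subset_closure (Or.inr rfl)
      · exact (map_one q).symm ▸ one_mem _
      · intro a b ha hb h1 h2
        exact (map_mul q ⟨a, ha⟩ ⟨b, hb⟩) ▸ mul_mem h1 h2
      · intro a ha h1
        exact (map_inv q ⟨a, ha⟩) ▸ inv_mem h1
    exact key x hx
  obtain ⟨y, hy, π, hπ⟩ := FD.normal_form hqx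
  obtain ⟨e, f, he, hs, h1, -⟩ := rep n y hy
  obtain ⟨c, hc, -⟩ := hgm π
  obtain ⟨t, ht, hxt⟩ := q_eq (e * ⟨ι (gm π), mon_mem_Nsub ι r hc.mem⟩) ⟨x, hx⟩
    (by rw [map_mul, he, hπ]; rfl)
  have hsx : Snd x (f * liftP π) := by
    rw [show x = ((e : G) * ι (gm π)) * t from hxt]
    exact snd_tor (snd_mul hs (snd_mon hc)) ht
  obtain ⟨c0, hc0⟩ := hsx
  rw [h] at hc0
  obtain ⟨hf1, -⟩ := hc0.of_one
  have hπ1 : π = 1 := Equiv.ext fun j => by
    have := congrFun (congrArg DFunLike.coe hf1) (j, true)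
    rw [Perm.mul_apply, liftP_apply, Perm.one_apply] at this
    have := congrArg Prod.fst this
    rwa [h1] at this
  rw [hπ1, map_one, mul_one] at hπ
  have desc : ∀ m, ∀ y ∈ flipGroup hn p R m, q ⟨x, hx⟩ = y → y = 1 := by
    intro m
    induction m with
    | zero =>
      intro y hy _
      have : flipGroup hn p R 0 ≤ ⊥ := (Subgroup.closure_le _).2 (by rintro _ ⟨k, -, hk, -⟩; omega)
      simpa using this hy
    | succ m ih =>
      intro y hy hq
      rcases FD.flipGroup_succ hy with hy' | ⟨k, hk, hkm, z, hz, rfl⟩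
      · exact ih y hy' hq
      · exfalso
        obtain ⟨e, f, he, hs, -, h2⟩ := rep m z hz
        obtain ⟨e', f', he', hs', h'⟩ := hE k hk
        obtain ⟨t, ht, hxt⟩ := q_eq (e' * e) ⟨x, hx⟩ (by rw [map_mul, he', he, hq])
        have hsx : Snd x (f' * f) := by
          rw [show x = ((e' : G) * e) * t from hxt]
          exact snd_tor (snd_mul hs' hs) ht
        obtain ⟨c0, hc0⟩ := hsx
        rw [h] at hc0
        have := congrFun (congrArg DFunLike.coe hc0.of_one.1) (k, true)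
        rw [Perm.mul_apply, h2 k hk (by omega), h', if_pos (Or.inr rfl), Perm.one_apply] at this
        simp at this
  have hy1 := desc n y hy hπ
  have hxT : x ∈ D.Tor := by
    have := (QuotientGroup.eq_one_iff _).1 (hπ.trans hy1)
    rwa [Subgroup.mem_subgroupOf] at this
  exact D.tor_injective M hxT h

/-- The homomorphism to matrices is injective. -/
theorem injective (hgen : Subgroup.closure (Set.range ι ∪ {r}) = ⊤) : Function.Injective ρ := by
  refine (injective_iff_map_eq_one ρ).2 fun x hx => ?_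
  obtain ⟨u, hu, m, hm, v, hv, rfl⟩ := D.bruhat hgen x
  have hsnd : ∃ f c, SendsC (ρ m) f c := by
    refine Subgroup.closure_induction_left (p := fun y _ => ∃ f c, SendsC (ρ y) f c)
      ⟨1, _, by rw [map_one]; exact sendsC_one⟩ ?_ ?_ hm
    · rintro s hs y - ⟨f, c, hy⟩
      rw [map_mul]
      rcases hs with ⟨g, ⟨σ, d, hg⟩, rfl⟩ | rfl
      · exact ⟨_, _, (M.sends_mon hg).mul hy⟩
      · exact ⟨_, _, M.sends_r.mul hy⟩
    · rintro s hs y - ⟨f, c, hy⟩
      rw [map_mul]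
      rcases hs with ⟨g, ⟨σ, d, hg⟩, rfl⟩ | rfl
      · rw [← map_inv]
        exact ⟨_, _, (M.sends_mon hg.inv).mul hy⟩
      · rw [D.inv_r, ← map_inv, map_mul]
        exact ⟨_, _, (M.sends_r.mul (M.sends_mon (dg_mon _ _).inv)).mul hy⟩
  obtain ⟨f, c, hs⟩ := hsnd
  have hmU : ρ m = ρ (u⁻¹ * v⁻¹) := by
    calc ρ m = ρ u⁻¹ * ρ (u * m * v) * ρ v⁻¹ := by
          rw [← map_mul, ← map_mul]; congr 1; group
      _ = _ := by rw [hx, mul_one, map_mul]
  have hd : ∀ I, f I = I ∧ c I = 1 := fun I =>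
    hs.diag I (by rw [hmU]; exact D.upos_diag M (mul_mem (inv_mem hu) (inv_mem hv)) _)
  have hm1 : ρ m = 1 := by
    have hs' : SendsC (ρ m) 1 (fun _ => 1) := fun I => by
      rw [hs I, (hd I).1, (hd I).2, Perm.one_apply]
    exact hs'.eq_one
  obtain rfl : m = 1 := D.nsub_injective M hm hm1
  rw [mul_one] at hx ⊢
  exact D.upos_injective M (mul_mem hu hv) hx

end Data

end CfsgLib.OmegaPresent
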