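import Cfsg.Agent.Lib.OmegaPresent.Target
import Cfsg.Agent.Lib.OmegaPresent.Gens
import Cfsg.Agent.Lib.SymPresent.Tietze
import Cfsg.Agent.Helper57OutPlus

/-!
From a presentation of the special linear group to one of the commutator subgroup of the isometry group of
the hyperbolic form: one further generator and a few relations.
-/

set_option autoImplicit false
set_option linter.unusedSectionVars false
set_option linter.unusedSimpArgs false

namespace CfsgLib.OmegaPresent

open Equiv Matrix CfsgLib.SLPresent CfsgLib.SymPresent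

variable {F : Type*} [Field F] [Fintype F] {n : ℕ}

local notation "SL" => Matrix.SpecialLinearGroup (Fin n) F
local notation "tv" => Matrix.SpecialLinearGroup.transvection

/-- Elements of the block group commuting with the root element commute with its conjugate by `r`. -/
theorem comm_y_of {G : Type*} [Group G] (hn : 4 ≤ n) (ι : Matrix.SpecialLinearGroup (Fin n) F →* G)
    (r : G) (hr : ∀ g ∈ LevP (idx hn 0) (idx hn 1), Commute r (ι g)) {g : SL}
    (hg : g ∈ LevP (idx hn 0) (idx hn 1))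
    (hc : Commute g (tv (idx_ne hn (show (2 : Fin 4) ≠ 0 by decide)) 1)) :
    Commute (y12 hn ι r (1 : F)) (ι g) :=
  ((hr g hg).mul_left (hc.symm.map ι)).mul_left (hr g hg).inv_left

/-- The conjugates of the free elements commute with the first element of the second family. -/
theorem free_comm {G : Type*} [Group G] (hn : 4 ≤ n) (ι : Matrix.SpecialLinearGroup (Fin n) F →* G)
    (r : G) (hr : ∀ g ∈ LevP (idx hn 0) (idx hn 1), Commute r (ι g)) {g : SL} (hg : g ∈ FreeSet hn) :
    Commute (y12 hn ι r (1 : F)) (ι (pm (cyc hn) * g * (pm (cyc hn))⁻¹)) := by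
  obtain ⟨c0, c1, c2⟩ := cyc_apply hn
  have h20 : (idx hn 2 : Fin n) ≠ idx hn 0 := idx_ne hn (by decide)
  have h21 : (idx hn 2 : Fin n) ≠ idx hn 1 := idx_ne hn (by decide)
  have h01 : (idx hn 0 : Fin n) ≠ idx hn 1 := idx_ne hn (by decide)
  have h30 : (idx hn 3 : Fin n) ≠ idx hn 0 := idx_ne hn (by decide)
  have h31 : (idx hn 3 : Fin n) ≠ idx hn 1 := idx_ne hn (by decide)
  have h32 : (idx hn 3 : Fin n) ≠ idx hn 2 := idx_ne hn (by decide)
  have c3 := cyc_fix hn h30 h31 h32
  rcases hg with ⟨u, rfl⟩ | ⟨a, b, hab, t, ha, hb, rfl⟩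
  · have hm := ((pm_mon (F := F) (cyc hn)).mul ((dg_mon (F := F)
      (idx_ne hn (show (1 : Fin 4) ≠ 0 by decide)) u).mul
      (dg_mon (idx_ne hn (show (2 : Fin 4) ≠ 3 by decide)) u))).mul (pm_mon (F := F) (cyc hn)).inv
    set d := pm (cyc hn) * (dg _ _ (idx_ne hn (show (1 : Fin 4) ≠ 0 by decide)) u *
      dg _ _ (idx_ne hn (show (2 : Fin 4) ≠ 3 by decide)) u) * (pm (cyc hn) : SL)⁻¹
    have i0 : (cyc hn : Perm (Fin n))⁻¹ (idx hn 0) = idx hn 2 := by
      rw [Perm.inv_def, Equiv.symm_apply_eq, c2]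
    have i1 : (cyc hn : Perm (Fin n))⁻¹ (idx hn 1) = idx hn 0 := by
      rw [Perm.inv_def, Equiv.symm_apply_eq, c0]
    have i2 : (cyc hn : Perm (Fin n))⁻¹ (idx hn 2) = idx hn 1 := by
      rw [Perm.inv_def, Equiv.symm_apply_eq, c1]
    refine comm_y_of hn ι r hr (mon_mem_levP (by omega) h01 _ _ _ hm ?_ ?_ ?_) ?_
    · simp [Perm.mul_apply, i0, c2]
    · simp [Perm.mul_apply, i1, c0]
    · simp [Perm.mul_apply, i0, i1, hVec, h20, h21, h01, h01.symm, h30.symm, h31.symm, h32.symm,
        h20.symm, h21.symm]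
    · refine mul_inv_eq_iff_eq_mul.1 ?_
      rw [hm.conj_tv h20 1]
      simp [Perm.mul_apply, i0, i2, c2, c1, hVec, h20, h21, h01, h01.symm, h30.symm, h31.symm,
        h32.symm, h20.symm, h21.symm]
  · have hne : ∀ x : Fin n, 3 ≤ x.val →
        x ≠ idx hn 0 ∧ x ≠ idx hn 1 ∧ x ≠ idx hn 2 := fun x hx =>
      ⟨fun e => by simp [e, idx] at hx, fun e => by simp [e, idx] at hx, fun e => by simp [e, idx] at hx⟩
    obtain ⟨a0, a1, a2⟩ := hne a ha
    obtain ⟨b0, b1, b2⟩ := hne b hb
    rw [(pm_mon (F := F) (cyc hn)).conj_tv hab t]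
    simp only [cyc_fix hn a0 a1 a2, cyc_fix hn b0 b1 b2, div_one, one_mul]
    refine comm_y_of hn ι r hr (tv_mem_levP hab (iff_of_false (by simp [a0, a1]) (by simp [b0, b1])) t) ?_
    exact tv_commute hab h20 b2 a0 t 1

variable {m R : ℕ}

/-- The presentation with one further generator. -/
theorem omega_pres (hn : 4 ≤ n) {w : Fin m → SL} (hw : HasPres w R) :
    ∃ v : Fin (m + 1) → ↥(OmP n F), HasPres v (R + (if n = 4 then 3 else 2) + 4) := by
  classical
  obtain ⟨l1, hl1, hl1m, hl1g⟩ := exists_block_gens (F := F) hn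
  obtain ⟨l2, hl2, hl2m, hl2g⟩ := exists_block_complement (F := F) hn
  have hgen : ∀ g : SL, ∃ x, FreeGroup.lift w x = g := fun g => by
    have : g ∈ (FreeGroup.lift w).range := by
      rw [FreeGroup.range_lift_eq_closure, hw.closure_eq_top]; exact Subgroup.mem_top g
    exact this
  choose word hword using hgen
  obtain ⟨rels, hc, e, he⟩ := hw
  set θ : FreeGroup (Fin m) →* FreeGroup (Fin (m + 1)) :=
    FreeGroup.lift fun i => FreeGroup.of i.castSucc with hθ
  set X : FreeGroup (Fin (m + 1)) := FreeGroup.of (Fin.last m) with hX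
  set W : SL → FreeGroup (Fin (m + 1)) := fun g => θ (word g) with hW
  set t20 : SL := tv (idx_ne hn (show (2 : Fin 4) ≠ 0 by decide)) 1 with ht20
  set p : SL := pm (cyc hn) with hp
  set d : SL := dg _ _ (idx_ne hn (show (0 : Fin 4) ≠ 1 by decide)) (-1) with hd
  set Y : FreeGroup (Fin (m + 1)) := X * W t20 * X⁻¹ with hY
  set A := rels.image θ
  set B := l1.toFinset.image fun g => X * W g * X⁻¹ * (W g)⁻¹ with hB
  set C := l2.toFinset.image fun g => Y * W (p * g * p⁻¹) * Y⁻¹ * (W (p * g * p⁻¹))⁻¹ with hC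
  set E : Finset (FreeGroup (Fin (m + 1))) :=
    {X * W (w02 hn) * X⁻¹ * (W p * X * (W p)⁻¹)⁻¹, X * X * (W d)⁻¹} with hE
  set R' := A ∪ B ∪ C ∪ E with hR'
  set v : Fin (m + 1) → ↥(OmP n F) := Fin.snoc (fun i => ιT hn (w i)) (rT hn) with hv
  have hvW : ∀ x, FreeGroup.lift v (θ x) = ιT hn (FreeGroup.lift w x) := fun x => by
    have : (FreeGroup.lift v).comp θ = (ιT hn).comp (FreeGroup.lift w) := by
      ext i
      simp [θ, v]
    exact DFunLike.congr_fun this x
  have hvg : ∀ g, FreeGroup.lift v (W g) = ιT hn g := fun g => by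
    simp only [W]; rw [hvW, hword]
  have hvX : FreeGroup.lift v X = rT hn := by simp [X, v]
  have DT := dataT (F := F) hn
  have hy : ∀ g ∈ l2, (pm (cyc hn) : SL) * g * (pm (cyc hn))⁻¹ ∈ LevP (idx hn 1) (idx hn 2) := fun g hg => by
    obtain ⟨c0, c1, -⟩ := cyc_apply hn
    have := (pm_mon (F := F) (cyc hn)).conj_levP (hl2m g hg)
    rwa [c0, c1] at this
  have hrel : ∀ x ∈ (↑R' : Set (FreeGroup (Fin (m + 1)))), FreeGroup.lift v x = 1 := by
    intro x hx
    simp only [R', A, B, C, E, Finset.coe_union, Finset.coe_image, Finset.coe_insert, Finset.coe_singleton,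
      Set.mem_union, Set.mem_image, Finset.mem_coe, List.mem_toFinset, Set.mem_insert_iff,
      Set.mem_singleton_iff] at hx
    rcases hx with ((⟨y, hy', rfl⟩ | ⟨g, hg, rfl⟩) | ⟨g, hg, rfl⟩) | rfl | rfl
    · rw [hvW, HasPres.lift_eq e he, PresentedGroup.one_of_mem hy', map_one, map_one]
    · rw [map_mul, map_mul, map_mul, map_inv, map_inv, hvX, hvg, mul_inv_eq_one]
      exact DT.r_fix (hl1m g hg)
    · simp only [Y, map_mul, map_inv, hvX, hvg]
      rw [mul_inv_eq_one, mul_inv_eq_iff_eq_mul]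
      simpa only [map_mul (ιT hn), map_inv (ιT hn)] using (DT.comm_y _ (hy g hg)).eq
    · simp only [map_mul, map_inv, hvX, hvg]
      rw [mul_inv_eq_one]
      exact DT.braid
    · simp only [map_mul, map_inv, hvX, hvg]
      rw [mul_inv_eq_one]
      exact DT.sq
  set φ := PresentedGroup.toGroup hrel
  set q := PresentedGroup.mk (↑R' : Set (FreeGroup (Fin (m + 1))))
  have hsub : ∀ x ∈ (↑rels : Set (FreeGroup (Fin m))),
      FreeGroup.lift (fun i => q (FreeGroup.of i.castSucc)) x = 1 := by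
    intro x hx
    rw [show FreeGroup.lift (fun i => q (FreeGroup.of i.castSucc)) = q.comp θ from
      FreeGroup.ext_hom _ _ fun i => by simp [θ]]
    refine PresentedGroup.one_of_mem ?_
    simp only [R', A, Finset.coe_union, Finset.coe_image]
    exact Or.inl (Or.inl (Or.inl ⟨x, hx, rfl⟩))
  set ι : Matrix.SpecialLinearGroup (Fin n) F →* PresentedGroup (↑R' : Set (FreeGroup (Fin (m + 1)))) :=
    (PresentedGroup.toGroup hsub).comp e.symm.toMonoidHom
  set r := q X with hr
  have hqW : ∀ g, q (W g) = ι g := fun g => by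
    have : ι.comp (FreeGroup.lift w) = q.comp θ := FreeGroup.ext_hom _ _ fun i => by
      simp only [MonoidHom.comp_apply, FreeGroup.lift_apply_of, ι, MulEquiv.coe_toMonoidHom, ← he i,
        e.symm_apply_apply, θ]
      exact PresentedGroup.toGroup.of hsub
    conv_rhs => rw [← hword g]
    exact (DFunLike.congr_fun this (word g)).symm
  have rel : ∀ x y : FreeGroup (Fin (m + 1)), x * y⁻¹ ∈ R' → q x = q y := fun x y h => by
    have := PresentedGroup.one_of_mem (rels := (↑R' : Set (FreeGroup (Fin (m + 1))))) (Finset.mem_coe.2 h)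
    rwa [map_mul, map_inv, mul_inv_eq_one] at this
  have hcr : ∀ g ∈ LevP (idx hn 0) (idx hn 1), Commute r (ι g) := fun g hg => by
    have hle : Subgroup.closure {g | g ∈ l1} ≤ (Subgroup.centralizer {r}).comap ι := by
      refine (Subgroup.closure_le _).2 fun x hx => Subgroup.mem_centralizer_iff.2 ?_
      rintro _ rfl
      have h1 := rel (X * W x * X⁻¹) (W x) (by simp only [R', B, Finset.mem_union]; exact Or.inl (Or.inl
        (Or.inr (Finset.mem_image.2 ⟨x, List.mem_toFinset.2 hx, rfl⟩))))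
      rw [map_mul, map_mul, map_inv, hqW] at h1
      exact mul_inv_eq_iff_eq_mul.1 h1
    exact Subgroup.mem_centralizer_iff.1 (hle (hl1g hg)) _ rfl
  have hcy : ∀ g ∈ LevP (idx hn 1) (idx hn 2), Commute (y12 hn ι r (1 : F)) (ι g) := fun g hg => by
    have hle : Subgroup.closure ({g | g ∈ l2} ∪ FreeSet hn) ≤
        ((Subgroup.centralizer {y12 hn ι r (1 : F)}).comap ι).comap (MulAut.conj p).toMonoidHom := by
      refine (Subgroup.closure_le _).2 fun x hx => Subgroup.mem_centralizer_iff.2 ?_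
      rintro _ rfl
      show y12 hn ι r 1 * ι (p * x * p⁻¹) = ι (p * x * p⁻¹) * y12 hn ι r 1
      rcases hx with hx | hx
      · have h1 := rel (Y * W (p * x * p⁻¹) * Y⁻¹) (W (p * x * p⁻¹)) (by
          simp only [R', C, Finset.mem_union]
          exact Or.inl (Or.inr (Finset.mem_image.2 ⟨x, List.mem_toFinset.2 hx, rfl⟩)))
        simp only [Y, map_mul q, map_inv q, hqW] at h1
        exact mul_inv_eq_iff_eq_mul.1 h1
      · exact free_comm hn ι r hcr hx
    obtain ⟨c0, c1, -⟩ := cyc_apply hn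
    have hx : p⁻¹ * g * p ∈ LevP (idx hn 0) (idx hn 1) := by
      have h := (pm_mon (F := F) (cyc hn)).inv.conj_levP hg
      rwa [show (cyc hn : Perm (Fin n))⁻¹ (idx hn 1) = idx hn 0 by
          rw [Perm.inv_def, Equiv.symm_apply_eq, c0],
        show (cyc hn : Perm (Fin n))⁻¹ (idx hn 2) = idx hn 1 by
          rw [Perm.inv_def, Equiv.symm_apply_eq, c1], inv_inv] at h
    have h2 := Subgroup.mem_centralizer_iff.1 (hle (hl2g hx)) _ rfl
    rwa [show (MulAut.conj p).toMonoidHom (p⁻¹ * g * p) = g by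
      show p * (p⁻¹ * g * p) * p⁻¹ = g
      group] at h2
  have D : Data hn ι r := by
    refine ⟨hcr, hcy, ?_, ?_⟩
    · have h1 := rel (X * W (w02 hn) * X⁻¹) (W p * X * (W p)⁻¹) (by simp [R', E])
      simpa only [map_mul q, map_inv q, hqW] using h1
    · have h1 := rel (X * X) (W d) (by simp [R', E])
      simpa only [map_mul q, hqW] using h1
  have hφq : ∀ x, φ (q x) = FreeGroup.lift v x := fun x => by
    have : φ.comp q = FreeGroup.lift v := FreeGroup.ext_hom _ _ fun i => by
      simp only [MonoidHom.comp_apply, FreeGroup.lift_apply_of]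
      exact PresentedGroup.toGroup.of hrel
    exact DFunLike.congr_fun this x
  have hφι : ∀ g, φ (ι g) = ιT hn g := fun g => by rw [← hqW, hφq, hvg]
  have hφr : φ r = rT hn := by rw [hr, hφq, hvX]
  have M : Model hn ι r (ρT.comp φ) :=
    ⟨fun g => by rw [MonoidHom.comp_apply, hφι, ρT_ιT], by rw [MonoidHom.comp_apply, hφr, ρT_rT]⟩
  have htop : Subgroup.closure (Set.range ι ∪ {r}) = ⊤ := by
    refine eq_top_iff.2 ((PresentedGroup.closure_range_of _).symm.le.trans (Subgroup.closure_mono ?_))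
    rintro _ ⟨j, rfl⟩
    refine Fin.lastCases (Or.inr rfl) (fun i => Or.inl ⟨w i, ?_⟩) j
    show PresentedGroup.toGroup hsub (e.symm (w i)) = _
    rw [← he i, e.symm_apply_apply]
    exact PresentedGroup.toGroup.of hsub
  have hinj : Function.Injective φ := fun a b h => D.injective M htop (congrArg ρT h)
  have hsurj : Function.Surjective φ := by
    refine MonoidHom.range_eq_top.1 (eq_top_iff.2 ((closureT hn).symm.le.trans ((Subgroup.closure_le _).2 ?_)))
    rintro _ (⟨g, rfl⟩ | rfl)
    · exact ⟨_, hφι g⟩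
    · exact ⟨_, hφr⟩
  refine ⟨v, R', ?_, MulEquiv.ofBijective φ ⟨hinj, hsurj⟩, fun j => PresentedGroup.toGroup.of hrel⟩
  have hA : A.card ≤ R := Finset.card_image_le.trans hc
  have hB' : B.card ≤ if n = 4 then 3 else 2 :=
    Finset.card_image_le.trans ((List.toFinset_card_le _).trans hl1)
  have hC' : C.card ≤ 2 := Finset.card_image_le.trans ((List.toFinset_card_le _).trans hl2)
  have hE' : E.card ≤ 2 := Finset.card_le_two
  have := Finset.card_union_le (A ∪ B ∪ C) E
  have := Finset.card_union_le (A ∪ B) C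
  have := Finset.card_union_le A B
  simp only [R']
  omega

/-- The centre is cyclic. -/
theorem center_le_zpowers (hn : 4 ≤ n) : ∃ z ∈ Subgroup.center ↥(OmP n F),
    Subgroup.center ↥(OmP n F) ≤ Subgroup.zpowers z := by
  have key : ∀ a ∈ Subgroup.center ↥(OmP n F), a = 1 ∨
      ∀ x, CfsgLib.Orth.app (a : CfsgLib.Orth.O (CfsgLib.Orth.plusQ n F)) x = -x := by
    intro a ha
    obtain ⟨c, hc, hca⟩ := Cfsg.Agent.GammaO57.central_scalar (CfsgLib.Orth.plusQ_nondegenerate n)
      (by simp; omega) (Cfsg.Agent.OutPlus57.plusData (show 2 ≤ n by omega)) ha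
    rcases mul_self_eq_one_iff.1 hc with rfl | rfl
    · refine Or.inl (Subtype.ext (CfsgLib.Orth.ext_app fun x => ?_))
      rw [hca, one_smul, Subgroup.coe_one, CfsgLib.Orth.app_one]
    · exact Or.inr fun x => by rw [hca, neg_one_smul]
  by_cases h : ∃ a ∈ Subgroup.center ↥(OmP n F), a ≠ 1
  · obtain ⟨a, ha, ha1⟩ := h
    refine ⟨a, ha, fun b hb => ?_⟩
    rcases key b hb with rfl | hb'
    · exact one_mem _
    · rw [show b = a from Subtype.ext (CfsgLib.Orth.ext_app fun x => by
        rw [hb', ((key a ha).resolve_left ha1) x])]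
      exact Subgroup.mem_zpowers a
  · push Not at h
    exact ⟨1, one_mem _, fun b hb => by rw [h b hb]; exact one_mem _⟩

end CfsgLib.OmegaPresent
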