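import Cfsg.Agent.Lib.SLPresent.Target
import Cfsg.Agent.Lib.TwoGen46.Hyp

/-!
Monomial matrices of determinant one and the block subgroups of a pair of indices.
-/

set_option autoImplicit false
set_option linter.unusedSimpArgs false

namespace CfsgLib.OmegaPresent

open Equiv Matrix CfsgLib.SLPresent

variable {F : Type*} [Field F] {n : ℕ}

local notation "SL" => Matrix.SpecialLinearGroup (Fin n) F
local notation "tv" => Matrix.SpecialLinearGroup.transvection

/-- The columns of `g` are multiples of coordinate vectors. -/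
def IsMon (g : SL) (σ : Perm (Fin n)) (c : Fin n → F) : Prop :=
  ∀ x, (g : Matrix (Fin n) (Fin n) F) *ᵥ Pi.single x 1 = Pi.single (σ x) (c x)

theorem single_eq_smul (x : Fin n) (a : F) :
    (Pi.single x a : Fin n → F) = a • (Pi.single x 1 : Fin n → F) := by
  ext i; simp [Pi.single_apply]

theorem mulVec_single' (A : Matrix (Fin n) (Fin n) F) (x : Fin n) (a : F) :
    A *ᵥ Pi.single x a = a • (A *ᵥ Pi.single x 1) := by
  rw [single_eq_smul, Matrix.mulVec_smul]

theorem ext_col {g h : SL} (e : ∀ x, (g : Matrix (Fin n) (Fin n) F) *ᵥ Pi.single x 1 =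
    (h : Matrix (Fin n) (Fin n) F) *ᵥ Pi.single x 1) : g = h := by
  refine sl_ext (Matrix.ext fun i j => ?_)
  simpa using congrFun (e j) i

theorem IsMon.mul {g h : SL} {σ τ : Perm (Fin n)} {c d : Fin n → F} (hg : IsMon g σ c)
    (hh : IsMon h τ d) : IsMon (g * h) (σ * τ) (fun x => c (τ x) * d x) := fun x => by
  rw [Matrix.SpecialLinearGroup.coe_mul, ← Matrix.mulVec_mulVec, hh x, mulVec_single', hg,
    ← Pi.single_smul, smul_eq_mul, Perm.mul_apply, mul_comm]

theorem IsMon.ne {g : SL} {σ : Perm (Fin n)} {c : Fin n → F} (hg : IsMon g σ c) (x : Fin n) :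
    c x ≠ 0 := by
  intro h0
  have h := hg x
  rw [h0, Pi.single_zero] at h
  have e := congrArg (fun v => ((g⁻¹ : SL) : Matrix (Fin n) (Fin n) F) *ᵥ v) h
  simp only [Matrix.mulVec_mulVec, ← Matrix.SpecialLinearGroup.coe_mul, inv_mul_cancel,
    Matrix.SpecialLinearGroup.coe_one, Matrix.one_mulVec, Matrix.mulVec_zero] at e
  simpa using congrFun e x

theorem IsMon.inv {g : SL} {σ : Perm (Fin n)} {c : Fin n → F} (hg : IsMon g σ c) :
    IsMon g⁻¹ σ⁻¹ (fun x => (c (σ⁻¹ x))⁻¹) := fun x => by
  have h := hg (σ⁻¹ x)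
  have e := congrArg (fun v => ((g⁻¹ : SL) : Matrix (Fin n) (Fin n) F) *ᵥ v) h
  simp only [Matrix.mulVec_mulVec, ← Matrix.SpecialLinearGroup.coe_mul, inv_mul_cancel,
    Matrix.SpecialLinearGroup.coe_one, Matrix.one_mulVec] at e
  rw [Perm.inv_def, Equiv.apply_symm_apply] at e
  rw [mulVec_single'] at e
  rw [Perm.inv_def, single_eq_smul (σ.symm x) ((c (σ.symm x))⁻¹), e, smul_smul,
    inv_mul_cancel₀ (hg.ne _), one_smul]

theorem isMon_one : IsMon (1 : SL) 1 (fun _ => 1) := fun x => by
  rw [Matrix.SpecialLinearGroup.coe_one, Matrix.one_mulVec, Perm.coe_one, id]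

theorem IsMon.eq_one {g : SL} (hg : IsMon g 1 (fun _ => 1)) : g = 1 :=
  ext_col fun x => (hg x).trans (isMon_one x).symm

/-- A monomial element conjugates transvections to transvections. -/
theorem IsMon.conj_tv {g : SL} {σ : Perm (Fin n)} {c : Fin n → F} (hg : IsMon g σ c) {a b : Fin n}
    (h : a ≠ b) (t : F) : g * tv h t * g⁻¹ = tv (σ.injective.ne h) (c a / c b * t) := by
  rw [mul_inv_eq_iff_eq_mul]
  refine ext_col fun x => ?_
  simp only [Matrix.SpecialLinearGroup.coe_mul, ← Matrix.mulVec_mulVec,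
    Matrix.SpecialLinearGroup.transvection_coe, Matrix.add_mulVec, Matrix.one_mulVec,
    Matrix.mulVec_add, hg x, Matrix.single_mulVec]
  by_cases hx : x = b
  · subst hx
    have hc := hg.ne x
    simp only [Pi.single_eq_same, mul_one]
    rw [show Function.update (0 : Fin n → F) a t = Pi.single a t from rfl,
      show Function.update (0 : Fin n → F) (σ a) (c a / c x * t * c x) =
        Pi.single (σ a) (c a / c x * t * c x) from rfl,
      mulVec_single', hg a, ← Pi.single_smul, smul_eq_mul]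
    congr 2
    field_simp
  · have h' : σ x ≠ σ b := σ.injective.ne hx
    simp [hx, h', Ne.symm hx, Ne.symm h']

/-- The monomial elements. -/
def monSub : Subgroup SL where
  carrier := {g | ∃ σ c, IsMon g σ c}
  mul_mem' := fun ⟨σ, c, h⟩ ⟨τ, d, h'⟩ => ⟨_, _, h.mul h'⟩
  one_mem' := ⟨_, _, isMon_one⟩
  inv_mem' := fun ⟨σ, c, h⟩ => ⟨_, _, h.inv⟩

theorem IsMon.mem {g : SL} {σ : Perm (Fin n)} {c : Fin n → F} (hg : IsMon g σ c) : g ∈ monSub :=
  ⟨σ, c, hg⟩

/-- A monomial element with prescribed permutation, with only one scalar different from one. -/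
theorem exists_mon (σ : Perm (Fin n)) (k : Fin n) :
    ∃ (g : SL) (c : Fin n → F), IsMon g σ c ∧ ∀ x, x ≠ k → c x = 1 := by
  obtain ⟨A, s, -, hA, -⟩ := CfsgLib.TwoGen46.Hyp.exists_mono (F := F) σ k
  exact ⟨A, _, hA, fun x hx => if_neg hx⟩

theorem IsMon.prod_eq {g : SL} {c : Fin n → F} (hg : IsMon g 1 c) : ∏ x, c x = 1 := by
  have e : (g : Matrix (Fin n) (Fin n) F) = Matrix.diagonal c := Matrix.ext fun i j => by
    have := congrFun (hg j) i
    simp only [Matrix.mulVec_single_one, Matrix.col_apply, Perm.coe_one, id] at this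
    rw [this, Matrix.diagonal_apply, Pi.single_apply]
    split_ifs with h <;> simp_all
  have := g.2
  rwa [e, Matrix.det_diagonal] at this

theorem wEl_mon {a b : Fin n} (h : a ≠ b) {u : F} (hu : u ≠ 0) :
    IsMon (tv h u * tv h.symm (-u⁻¹) * tv h u) (swap a b)
      (fun x => if x = a then -u⁻¹ else if x = b then u else 1) := fun x => by
  rw [Cfsg.Agent.Classical.slWeyl_coe h u hu]
  simp only [Matrix.add_mulVec, Matrix.one_mulVec, Matrix.single_mulVec]
  funext k
  simp only [Pi.add_apply, Pi.single_apply, Function.update_apply, Pi.zero_apply]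
  by_cases hxa : x = a
  · subst hxa
    rw [swap_apply_left]
    by_cases hk : k = x
    · subst hk; simp [h, h.symm]
    · by_cases hk' : k = b
      · subst hk'; simp [h, h.symm]
      · simp [h, h.symm, hk, hk']
  · by_cases hxb : x = b
    · subst hxb
      rw [swap_apply_right]
      by_cases hk : k = a
      · subst hk; simp [h, h.symm]
      · by_cases hk' : k = x
        · subst hk'; simp [h, h.symm]
        · simp [h, h.symm, hk, hk']
    · rw [swap_apply_of_ne_of_ne hxa hxb]
      by_cases hk : k = x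
      · subst hk; simp [hxa, hxb, Ne.symm hxa, Ne.symm hxb]
      · simp [hxa, hxb, hk, Ne.symm hxa, Ne.symm hxb]

theorem dg_mon {a b : Fin n} (h : a ≠ b) (u : Fˣ) : IsMon (dg a b h u : SL) 1 (hVec a b (u : F)) :=
  fun x => by rw [dg_coe, Matrix.diagonal_mulVec_single, mul_one, Perm.coe_one, id]

/-- Both indices inside the pair or both outside. -/
def Same (i j a b : Fin n) : Prop := (a = i ∨ a = j) ↔ (b = i ∨ b = j)

/-- The product of the special linear groups of a pair and of its complement. -/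
def LevP (i j : Fin n) : Subgroup SL :=
  Subgroup.closure {g | ∃ a b, ∃ h : a ≠ b, ∃ t, Same i j a b ∧ g = tv h t}

theorem tv_mem_levP {i j a b : Fin n} (h : a ≠ b) (hs : Same i j a b) (t : F) :
    tv h t ∈ LevP i j :=
  Subgroup.subset_closure ⟨a, b, h, t, hs, rfl⟩

theorem Same.symm {i j a b : Fin n} (h : Same i j a b) : Same i j b a := Iff.symm h

theorem wEl_mem_levP {i j a b : Fin n} (h : a ≠ b) (hs : Same i j a b) (u : F) :
    tv h u * tv h.symm (-u⁻¹) * tv h u ∈ LevP i j :=
  mul_mem (mul_mem (tv_mem_levP h hs _) (tv_mem_levP h.symm hs.symm _)) (tv_mem_levP h hs _)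

theorem dg_mem_levP {i j a b : Fin n} (h : a ≠ b) (hs : Same i j a b) (u : Fˣ) :
    (dg a b h u : SL) ∈ LevP i j := by
  have key : (dg a b h u : SL) = (tv h (u : F) * tv h.symm (-(u : F)⁻¹) * tv h (u : F)) *
      (tv h (-1) * tv h.symm (-(-1 : F)⁻¹) * tv h (-1)) := by
    refine ext_col fun x => ?_
    rw [dg_mon h u x, ((wEl_mon h u.ne_zero).mul (wEl_mon h (neg_ne_zero.2 one_ne_zero))) x]
    simp only [Perm.coe_one, id, Equiv.swap_mul_self, hVec]
    congr 1
    by_cases hxa : x = a
    · subst hxa; simp [h, h.symm]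
    · by_cases hxb : x = b
      · subst hxb; simp [h, h.symm]
      · simp [swap_apply_of_ne_of_ne hxa hxb, hxa, hxb]
  rw [key]
  exact mul_mem (wEl_mem_levP h hs _) (wEl_mem_levP h hs _)

theorem diag_mem_levP {i j : Fin n} (hij : i ≠ j) : ∀ (s : Finset (Fin n)) (g : SL) (c : Fin n → F),
    IsMon g 1 c → c i = 1 → c j = 1 → (∃ o, o ∉ s ∧ o ≠ i ∧ o ≠ j ∧
      ∀ x, x ≠ o → x ∉ s → c x = 1) → g ∈ LevP i j := by
  classical
  intro s
  induction s using Finset.induction_on with
  | empty =>
    rintro g c hg - - ⟨o, -, -, -, hc⟩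
    have hp := hg.prod_eq
    rw [Finset.prod_eq_single o (fun x _ hx => hc x hx (Finset.notMem_empty x)) (by simp)] at hp
    rw [show g = 1 from ext_col fun x => by
      rw [hg x, isMon_one x]
      by_cases hx : x = o
      · subst hx; rw [hp]
      · rw [hc x hx (Finset.notMem_empty x)]]
    exact one_mem _
  | insert a s has ih =>
    rintro g c hg hi hj ⟨o, ho, hoi, hoj, hc⟩
    simp only [Finset.mem_insert, not_or] at ho
    by_cases ha : a = i ∨ a = j
    · refine ih g c hg hi hj ⟨o, ho.2, hoi, hoj, fun x hx hxs => ?_⟩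
      by_cases hxa : x = a
      · subst hxa; rcases ha with rfl | rfl <;> assumption
      · exact hc x hx (by simp [hxa, hxs])
    · have hao : a ≠ o := Ne.symm ho.1
      simp only [not_or] at ha
      set u : Fˣ := Units.mk0 (c a) (hg.ne a) with hu
      have hs : Same i j a o :=
        iff_of_false (by simp [ha.1, ha.2]) (by simp [hoi, hoj])
      have hd := (dg_mon hao u⁻¹ (F := F)).mul hg
      rw [one_mul] at hd
      have hmem := ih _ _ hd (by simp [hVec, Ne.symm ha.1, Ne.symm hoi, hi])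
        (by simp [hVec, Ne.symm ha.2, Ne.symm hoj, hj]) ⟨o, ho.2, hoi, hoj, fun x hx hxs => ?_⟩
      · have := mul_mem (inv_mem (dg_mem_levP hao hs u⁻¹)) hmem
        rwa [inv_mul_cancel_left] at this
      · by_cases hxa : x = a
        · subst hxa; simp [hVec, hu, hg.ne x]
        · simp [hVec, hxa, hx, hc x hx (by simp [hxa, hxs])]

/-- A monomial element fixing both indices with inverse scalars there is in the block subgroup. -/
theorem mon_mem_levP (hn : 3 ≤ n) {i j : Fin n} (hij : i ≠ j) :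
    ∀ (σ : Perm (Fin n)) (g : SL) (c : Fin n → F), IsMon g σ c → σ i = i → σ j = j →
      c i * c j = 1 → g ∈ LevP i j := by
  classical
  intro σ
  induction hm : σ.support.card using Nat.strong_induction_on generalizing σ with
  | _ m ih =>
  intro g c hg hi hj hc
  by_cases h1 : σ = 1
  · subst h1
    set u : Fˣ := Units.mk0 (c i) (hg.ne i) with hu
    have hd := (dg_mon hij u⁻¹ (F := F)).mul hg
    rw [one_mul] at hd
    obtain ⟨o, -, ho⟩ := Finset.exists_mem_notMem_of_card_lt_card (s := ({i, j} : Finset (Fin n)))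
      (t := Finset.univ)
      (lt_of_le_of_lt Finset.card_le_two (by rw [Finset.card_univ, Fintype.card_fin]; omega))
    simp only [Finset.mem_insert, Finset.mem_singleton, not_or] at ho
    have hcu : (u : F) = c i := rfl
    have hmem := diag_mem_levP hij (Finset.univ.erase o) _ _ hd
      (by simp [hVec, hu, hg.ne i])
      (by simp [hVec, hij.symm, hcu, hc])
      ⟨o, by simp, ho.1, ho.2, fun x hx hxs => by simp [hx] at hxs⟩
    have := mul_mem (inv_mem (dg_mem_levP hij (by simp [Same]) u⁻¹)) hmem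
    rwa [inv_mul_cancel_left] at this
  · obtain ⟨a, ha⟩ : ∃ a, σ a ≠ a := by
      by_contra h
      exact h1 (Perm.ext fun x => not_not.1 fun hx => h ⟨x, hx⟩)
    have hai : a ≠ i := fun e => ha (e ▸ hi)
    have haj : a ≠ j := fun e => ha (e ▸ hj)
    have hbi : σ a ≠ i := fun e => hai (σ.injective (e.trans hi.symm))
    have hbj : σ a ≠ j := fun e => haj (σ.injective (e.trans hj.symm))
    have hs : Same i j a (σ a) := iff_of_false (by simp [hai, haj]) (by simp [hbi, hbj])
    have hd := (wEl_mon (F := F) (Ne.symm ha) one_ne_zero).mul hg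
    have hw := wEl_mem_levP (F := F) (Ne.symm ha) hs (1 : F)
    have hmem := ih _ (hm ▸ Perm.card_support_swap_mul ha) _ rfl _ _ hd
      (by simp [Perm.mul_apply, hi, swap_apply_of_ne_of_ne (Ne.symm hai) (Ne.symm hbi)])
      (by simp [Perm.mul_apply, hj, swap_apply_of_ne_of_ne (Ne.symm haj) (Ne.symm hbj)])
      (by simp [hi, hj, Ne.symm hai, Ne.symm haj, Ne.symm hbi, Ne.symm hbj, hc])
    have := mul_mem (inv_mem hw) hmem
    rwa [inv_mul_cancel_left] at this

/-- Monomial elements permute the block subgroups. -/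
theorem IsMon.conj_levP {g : SL} {σ : Perm (Fin n)} {c : Fin n → F} (hg : IsMon g σ c)
    {i j : Fin n} {x : SL} (hx : x ∈ LevP i j) : g * x * g⁻¹ ∈ LevP (σ i) (σ j) := by
  have : LevP i j ≤ (LevP (σ i) (σ j) : Subgroup SL).comap (MulAut.conj g).toMonoidHom := by
    refine (Subgroup.closure_le _).2 ?_
    rintro _ ⟨a, b, h, t, hs, rfl⟩
    show g * tv h t * g⁻¹ ∈ LevP (σ i) (σ j)
    rw [hg.conj_tv h t]
    exact tv_mem_levP _ (by simpa [Same, σ.injective.eq_iff] using hs) _
  exact this hx

/-- Transpose inverse. -/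
def theta : SL →* SL where
  toFun g := ⟨((g⁻¹ : SL) : Matrix (Fin n) (Fin n) F)ᵀ, by rw [Matrix.det_transpose]; exact (g⁻¹).2⟩
  map_one' := sl_ext (by simp)
  map_mul' g h := sl_ext (by
    show ((((g * h)⁻¹ : SL)) : Matrix (Fin n) (Fin n) F)ᵀ =
      ((g⁻¹ : SL) : Matrix (Fin n) (Fin n) F)ᵀ * ((h⁻¹ : SL) : Matrix (Fin n) (Fin n) F)ᵀ
    rw [_root_.mul_inv_rev, Matrix.SpecialLinearGroup.coe_mul, Matrix.transpose_mul])

theorem theta_coe (g : SL) :
    ((theta g : SL) : Matrix (Fin n) (Fin n) F) = ((g⁻¹ : SL) : Matrix (Fin n) (Fin n) F)ᵀ := rfl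

theorem theta_theta (g : SL) : theta (theta g : SL) = g := by
  refine sl_ext ?_
  rw [theta_coe, ← map_inv, theta_coe, inv_inv, Matrix.transpose_transpose]

theorem theta_tv {a b : Fin n} (h : a ≠ b) (t : F) : (theta (tv h t) : SL) = tv h.symm (-t) := by
  refine sl_ext ?_
  rw [theta_coe, Matrix.SpecialLinearGroup.transvection_inv,
    Matrix.SpecialLinearGroup.transvection_coe, Matrix.SpecialLinearGroup.transvection_coe,
    Matrix.transpose_add, Matrix.transpose_one, Matrix.transpose_single]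

theorem theta_mem_levP {i j : Fin n} {x : SL} (hx : x ∈ LevP i j) : (theta x : SL) ∈ LevP i j := by
  have : LevP i j ≤ (LevP i j : Subgroup SL).comap theta := by
    refine (Subgroup.closure_le _).2 ?_
    rintro _ ⟨a, b, h, t, hs, rfl⟩
    show theta (tv h t) ∈ LevP i j
    rw [theta_tv]
    exact tv_mem_levP _ hs.symm _
  exact this hx

theorem IsMon.theta {g : SL} {σ : Perm (Fin n)} {c : Fin n → F} (hg : IsMon g σ c) :
    IsMon (CfsgLib.OmegaPresent.theta g) σ (fun x => (c x)⁻¹) := fun x => by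
  funext k
  have h := congrFun (hg.inv k) x
  simp only [theta_coe, Matrix.mulVec_single_one, Matrix.col_apply, Matrix.transpose_apply] at h ⊢
  rw [h, Pi.single_apply, Pi.single_apply]
  by_cases hk : k = σ x
  · subst hk; simp
  · rw [if_neg hk, if_neg (fun e => hk (by rw [e, Perm.inv_def, Equiv.apply_symm_apply]))]

end CfsgLib.OmegaPresent
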