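import Cfsg.Agent.Lib.OmegaPresent.Action

/-!
Root elements indexed by pairs of signed indices, permuted by the monomial elements and `r`.
-/

set_option autoImplicit false
set_option linter.unusedSectionVars false
set_option linter.unusedSimpArgs false

namespace CfsgLib.OmegaPresent

open Equiv Matrix CfsgLib.SLPresent

variable {F : Type*} [Field F] {n : ℕ} {G : Type*} [Group G]

local notation "SL" => Matrix.SpecialLinearGroup (Fin n) F
local notation "tv" => Matrix.SpecialLinearGroup.transvection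

/-- The opposite signed index. -/
def ng (I : Fin n × Bool) : Fin n × Bool := (I.1, !I.2)

theorem ng_ng (I : Fin n × Bool) : ng (ng I) = I := by simp [ng]

/-- The root element of a pair of signed indices. -/
noncomputable def RX (hn : 4 ≤ n) (ι : SL →* G) (r : G) : Fin n × Bool → Fin n × Bool → F → G
  | (a, true), (b, true), t => if h : a ≠ b then ι (tv h t) else 1
  | (a, true), (b, false), t => Yel hn ι r a b t
  | (a, false), (b, true), t => Yel hn (ι.comp theta) r a b t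
  | (a, false), (b, false), t => if h : b ≠ a then ι (tv h t) else 1

/-- A permutation of the indices on the signed indices. -/
def liftP (σ : Perm (Fin n)) : Perm (Fin n × Bool) := σ.prodCongr (Equiv.refl Bool)

theorem liftP_apply (σ : Perm (Fin n)) (a : Fin n) (s : Bool) : liftP σ (a, s) = (σ a, s) := rfl

/-- The permutation induced by `r`. -/
def sigR (hn : 4 ≤ n) : Perm (Fin n × Bool) :=
  swap (idx hn 0, true) (idx hn 1, false) * swap (idx hn 1, true) (idx hn 0, false)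

theorem sigR_apply (hn : 4 ≤ n) :
    (∀ s, sigR hn (idx hn 0, s) = (idx hn 1, !s)) ∧ (∀ s, sigR hn (idx hn 1, s) = (idx hn 0, !s)) ∧
      ∀ k s, k ≠ idx hn 0 → k ≠ idx hn 1 → sigR hn (k, s) = (k, s) := by
  have h := idx_ne hn (show (0 : Fin 4) ≠ 1 by decide)
  refine ⟨fun s => ?_, fun s => ?_, fun k s h0 h1 => ?_⟩
  · cases s <;> simp [sigR, swap_apply_def, h, h.symm]
  · cases s <;> simp [sigR, swap_apply_def, h, h.symm]
  · simp [sigR, swap_apply_def, h0, h1]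

/-- `x` maps root elements to root elements along `f`. -/
def Moves (hn : 4 ≤ n) (ι : SL →* G) (r : G) (x : G) (f : Perm (Fin n × Bool)) : Prop :=
  (∀ I, f (ng I) = ng (f I)) ∧
    ∀ I J, I.1 ≠ J.1 → ∀ t : F, ∃ t', x * RX hn ι r I J t * x⁻¹ = RX hn ι r (f I) (f J) t'

theorem legit_map {f : Perm (Fin n × Bool)} (hf : ∀ I, f (ng I) = ng (f I)) {I J : Fin n × Bool}
    (h : I.1 ≠ J.1) : (f I).1 ≠ (f J).1 := by
  intro e
  have : f J = f I ∨ f J = f (ng I) := by
    rw [hf]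
    by_cases hs : (f J).2 = (f I).2
    · exact Or.inl (Prod.ext e.symm hs)
    · exact Or.inr (Prod.ext e.symm (by simpa [ng] using Bool.eq_not_of_ne hs))
  rcases this with h' | h'
  · exact h (congrArg Prod.fst (f.injective h')).symm
  · exact h ((congrArg Prod.fst (f.injective h')).trans rfl).symm

/-- The monomial elements and `r`. -/
def Nsub (ι : SL →* G) (r : G) : Subgroup G :=
  Subgroup.closure ((ι '' {g | g ∈ monSub}) ∪ {r})

theorem mon_mem_Nsub (ι : SL →* G) (r : G) {g : SL} (hg : g ∈ monSub) : ι g ∈ Nsub ι r :=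
  Subgroup.subset_closure (Or.inl ⟨g, hg, rfl⟩)

theorem r_mem_Nsub (ι : SL →* G) (r : G) : r ∈ Nsub ι r :=
  Subgroup.subset_closure (Or.inr rfl)

theorem comp_theta_theta (ι : SL →* G) : (ι.comp theta).comp theta = ι :=
  MonoidHom.ext fun g => by rw [MonoidHom.comp_apply, MonoidHom.comp_apply, theta_theta]

namespace Data

variable {hn : 4 ≤ n} {ι : Matrix.SpecialLinearGroup (Fin n) F →* G} {r : G} (D : Data hn ι r)
include D

local notation "𝟎" => idx hn 0
local notation "𝟏" => idx hn 1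

theorem RX_ng {I J : Fin n × Bool} (h : I.1 ≠ J.1) (t : F) :
    ∃ t', RX hn ι r I J t = RX hn ι r (ng J) (ng I) t' := by
  obtain ⟨a, s⟩ := I
  obtain ⟨b, s'⟩ := J
  cases s <;> cases s'
  · exact ⟨t, rfl⟩
  · exact ⟨-t, D.dual.Y_swap (Ne.symm h) t⟩
  · exact ⟨-t, D.Y_swap (Ne.symm h) t⟩
  · exact ⟨t, rfl⟩

theorem RX_add {I J : Fin n × Bool} (h : I.1 ≠ J.1) (t u : F) :
    RX hn ι r I J (t + u) = RX hn ι r I J t * RX hn ι r I J u := by
  obtain ⟨a, s⟩ := I
  obtain ⟨b, s'⟩ := J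
  cases s <;> cases s'
  · simp only [RX, dif_pos (Ne.symm h), Matrix.SpecialLinearGroup.transvection_add, map_mul]
  · exact D.dual.Y_add h t u
  · exact D.Y_add h t u
  · simp only [RX, dif_pos (show a ≠ b from h), Matrix.SpecialLinearGroup.transvection_add, map_mul]

theorem RX_zero {I J : Fin n × Bool} (h : I.1 ≠ J.1) : RX hn ι r I J (0 : F) = 1 := by
  have e := D.RX_add h 0 0
  rw [add_zero] at e
  exact left_eq_mul.1 e

theorem RX_neg {I J : Fin n × Bool} (h : I.1 ≠ J.1) (t : F) :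
    RX hn ι r I J (-t) = (RX hn ι r I J t)⁻¹ := by
  rw [eq_inv_iff_mul_eq_one, ← D.RX_add h, neg_add_cancel, D.RX_zero h]

theorem moves_mon {g : SL} {σ : Perm (Fin n)} {c : Fin n → F} (hg : IsMon g σ c) :
    Moves hn ι r (ι g) (liftP σ) := by
  refine ⟨fun I => rfl, ?_⟩
  rintro ⟨a, s⟩ ⟨b, s'⟩ h t
  have h' : σ a ≠ σ b := σ.injective.ne h
  cases s <;> cases s' <;> simp only [liftP_apply, RX]
  · refine ⟨c b / c a * t, ?_⟩
    rw [dif_pos (Ne.symm h), dif_pos h'.symm, ← map_inv, ← map_mul, ← map_mul,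
      hg.conj_tv (Ne.symm h)]
  · exact ⟨_, D.Z_mon hg h t⟩
  · exact ⟨_, D.Y_mon hg h t⟩
  · refine ⟨c a / c b * t, ?_⟩
    rw [dif_pos (show a ≠ b from h), dif_pos h', ← map_inv, ← map_mul, ← map_mul, hg.conj_tv h]

theorem moves_r : Moves hn ι r r (sigR hn) := by
  obtain ⟨s0, s1, sk⟩ := sigR_apply hn
  have h01 : (idx hn 0 : Fin n) ≠ idx hn 1 := idx_ne hn (by decide)
  have hng : ∀ I, sigR hn (ng I) = ng (sigR hn I) := by
    rintro ⟨a, s⟩
    rcases eq_or_ne a 𝟎 with rfl | h0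
    · simp [ng, s0]
    rcases eq_or_ne a 𝟏 with rfl | h1
    · simp [ng, s1]
    simp [ng, sk a _ h0 h1]
  refine ⟨hng, ?_⟩
  have hcase : ∀ a : Fin n, a = 𝟎 ∨ a = 𝟏 ∨ (a ≠ 𝟎 ∧ a ≠ 𝟏) := fun a => by
    by_cases h0 : a = 𝟎
    · exact Or.inl h0
    · by_cases h1 : a = 𝟏
      · exact Or.inr (Or.inl h1)
      · exact Or.inr (Or.inr ⟨h0, h1⟩)
  have pp : ∀ (a b : Fin n) (h : a ≠ b) (t : F),
      ∃ t', r * ι (tv h t) * r⁻¹ = RX hn ι r (sigR hn (a, true)) (sigR hn (b, true)) t' := by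
    intro a b h t
    rcases hcase a with rfl | rfl | ⟨a0, a1⟩ <;> rcases hcase b with rfl | rfl | ⟨b0, b1⟩
    · exact absurd rfl h
    · refine ⟨t, ?_⟩
      rw [s0, s1, D.r_fix (tv_mem_levP h (by simp [Same]) t)]
      simp only [RX, Bool.not_true, dif_pos h]
    · refine ⟨-t, ?_⟩
      rw [s0, sk b _ b0 b1]
      show _ = Yel hn (ι.comp theta) r 𝟏 b (-t)
      rw [← D.dual.r_X0 b0 b1, MonoidHom.comp_apply, theta_tv, neg_neg]
    · refine ⟨t, ?_⟩
      rw [s1, s0, D.r_fix (tv_mem_levP h (by simp [Same]) t)]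
      simp only [RX, Bool.not_true, dif_pos h]
    · exact absurd rfl h
    · refine ⟨t, ?_⟩
      rw [s1, sk b _ b0 b1]
      show _ = Yel hn (ι.comp theta) r 𝟎 b t
      have e := D.dual.r_X1 b0 b1 (-t)
      rw [MonoidHom.comp_apply, theta_tv, neg_neg] at e
      exact e
    · refine ⟨-t, ?_⟩
      rw [s0, sk a _ a0 a1, D.r_X0 a0 a1]
      show _ = Yel hn ι r a 𝟏 (-t)
      rw [D.Y_swap a1.symm, neg_neg]
    · refine ⟨t, ?_⟩
      rw [s1, sk a _ a0 a1, D.r_X1 a0 a1]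
      show _ = Yel hn ι r a 𝟎 t
      rw [D.Y_swap a0.symm]
    · refine ⟨t, ?_⟩
      rw [sk a _ a0 a1, sk b _ b0 b1,
        D.r_fix (tv_mem_levP h (iff_of_false (by simp [a0, a1]) (by simp [b0, b1])) t)]
      simp only [RX, dif_pos h]
  have ysd : ∀ (a b : Fin n) (h : a ≠ b) (t : F),
      ∃ t', r * Yel hn ι r a b t * r⁻¹ = RX hn ι r (sigR hn (a, true)) (sigR hn (b, false)) t' := by
    intro a b h t
    rcases hcase a with rfl | rfl | ⟨a0, a1⟩ <;> rcases hcase b with rfl | rfl | ⟨b0, b1⟩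
    · exact absurd rfl h
    · refine ⟨-t, ?_⟩
      rw [s0, s1, D.Y_swap h.symm, D.r_Y10]
      rfl
    · refine ⟨t, ?_⟩
      rw [s0, sk b _ b0 b1, D.r_Y0 b0 b1]
      simp only [RX, Bool.not_true, dif_pos b1]
    · refine ⟨-t, ?_⟩
      rw [s0, s1, D.r_Y10]
      show _ = Yel hn (ι.comp theta) r 𝟎 𝟏 (-t)
      rw [D.dual.Y_swap h, neg_neg]
    · exact absurd rfl h
    · refine ⟨-t, ?_⟩
      rw [s1, sk b _ b0 b1, D.r_Y1 b0 b1]
      simp only [RX, Bool.not_true, dif_pos b0]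
    · refine ⟨-t, ?_⟩
      rw [s0, sk a _ a0 a1, D.Y_swap a0.symm, D.r_Y0 a0 a1]
      simp only [RX, Bool.not_false, dif_pos a1]
    · refine ⟨t, ?_⟩
      rw [s1, sk a _ a0 a1, D.Y_swap a1.symm, D.r_Y1 a0 a1, neg_neg]
      simp only [RX, Bool.not_false, dif_pos a0]
    · refine ⟨t, ?_⟩
      rw [sk a _ a0 a1, sk b _ b0 b1, D.r_Y_far h a0 a1 b0 b1]
      rfl
  have zsd : ∀ (a b : Fin n) (h : a ≠ b) (t : F),
      ∃ t', r * Yel hn (ι.comp theta) r a b t * r⁻¹ =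
        RX hn ι r (sigR hn (a, false)) (sigR hn (b, true)) t' := by
    intro a b h t
    rcases hcase a with rfl | rfl | ⟨a0, a1⟩ <;> rcases hcase b with rfl | rfl | ⟨b0, b1⟩
    · exact absurd rfl h
    · refine ⟨-t, ?_⟩
      rw [s0, s1, D.dual.Y_swap h.symm, D.dual.r_Y10, comp_theta_theta]
      rfl
    · refine ⟨-t, ?_⟩
      rw [s0, sk b _ b0 b1, D.dual.r_Y0 b0 b1, MonoidHom.comp_apply, theta_tv]
      simp only [RX, Bool.not_false, dif_pos b1.symm]
    · refine ⟨-t, ?_⟩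
      rw [s0, s1, D.dual.r_Y10, comp_theta_theta]
      show _ = Yel hn ι r 𝟎 𝟏 (-t)
      rw [D.Y_swap h, neg_neg]
    · exact absurd rfl h
    · refine ⟨t, ?_⟩
      rw [s1, sk b _ b0 b1, D.dual.r_Y1 b0 b1, MonoidHom.comp_apply, theta_tv, neg_neg]
      simp only [RX, Bool.not_false, dif_pos b0.symm]
    · refine ⟨t, ?_⟩
      rw [s0, sk a _ a0 a1, D.dual.Y_swap a0.symm, D.dual.r_Y0 a0 a1, MonoidHom.comp_apply,
        theta_tv, neg_neg]
      simp only [RX, Bool.not_true, dif_pos a1.symm]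
    · refine ⟨-t, ?_⟩
      rw [s1, sk a _ a0 a1, D.dual.Y_swap a1.symm, D.dual.r_Y1 a0 a1, MonoidHom.comp_apply,
        theta_tv, neg_neg]
      simp only [RX, Bool.not_true, dif_pos a0.symm]
    · refine ⟨t, ?_⟩
      rw [sk a _ a0 a1, sk b _ b0 b1, D.dual.r_Y_far h a0 a1 b0 b1]
      rfl
  rintro ⟨a, s⟩ ⟨b, s'⟩ h t
  cases s <;> cases s'
  · obtain ⟨t', e⟩ := pp b a (Ne.symm h) t
    obtain ⟨t'', e'⟩ := D.RX_ng (legit_map hng (I := (b, true)) (J := (a, true)) (Ne.symm h)) t'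
    refine ⟨t'', ?_⟩
    rw [show RX hn ι r (a, false) (b, false) t = ι (tv (Ne.symm h) t) from dif_pos (Ne.symm h), e, e',
      ← hng, ← hng]
    rfl
  · exact zsd a b h t
  · exact ysd a b h t
  · obtain ⟨t', e⟩ := pp a b h t
    refine ⟨t', ?_⟩
    rw [show RX hn ι r (a, true) (b, true) t = ι (tv h t) from dif_pos h, e]

theorem moves_mul {x y : G} {f g : Perm (Fin n × Bool)} (hx : Moves hn ι r x f)
    (hy : Moves hn ι r y g) : Moves hn ι r (x * y) (f * g) := by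
  refine ⟨fun I => by rw [Perm.mul_apply, hy.1, hx.1, Perm.mul_apply], fun I J h t => ?_⟩
  obtain ⟨t', e⟩ := hy.2 I J h t
  obtain ⟨t'', e'⟩ := hx.2 _ _ (legit_map hy.1 h) t'
  refine ⟨t'', ?_⟩
  rw [Perm.mul_apply, Perm.mul_apply, ← e', ← e]
  group

theorem moves_one : Moves hn ι r 1 1 := by
  refine ⟨fun I => rfl, fun I J h t => ⟨t, ?_⟩⟩
  simp

theorem exists_moves {x : G} (hx : x ∈ Nsub ι r) : ∃ f, Moves hn ι r x f := by
  refine Subgroup.closure_induction_left (p := fun x _ => ∃ f, Moves hn ι r x f) ⟨1, D.moves_one⟩ ?_ ?_ hx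
  · rintro s hs y - ⟨f, hf⟩
    rcases hs with ⟨g, ⟨σ, c, hg⟩, rfl⟩ | rfl
    · exact ⟨_, D.moves_mul (D.moves_mon hg) hf⟩
    · exact ⟨_, D.moves_mul D.moves_r hf⟩
  · rintro s hs y - ⟨f, hf⟩
    rcases hs with ⟨g, ⟨σ, c, hg⟩, rfl⟩ | rfl
    · rw [← map_inv]
      exact ⟨_, D.moves_mul (D.moves_mon hg.inv) hf⟩
    · rw [D.inv_r, ← map_inv]
      exact ⟨_, D.moves_mul (D.moves_mul D.moves_r (D.moves_mon (dg_mon _ _).inv)) hf⟩

end Data

end CfsgLib.OmegaPresent
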