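import Cfsg.Agent.Lib.OmegaPresent.Kernel
import Cfsg.Agent.Helper57Levi
import Cfsg.Agent.Lib.DMult.Omega
import Cfsg.Agent.Lib.SLPresent.Present

/-!
The commutator subgroup of the isometry group of the hyperbolic form as a realisation of the model.
-/

set_option autoImplicit false
set_option linter.unusedSectionVars false
set_option linter.unusedSimpArgs false

namespace CfsgLib.OmegaPresent

open Equiv Matrix CfsgLib.SLPresent CfsgLib.Orth CfsgLib.OrthIso QuadraticMap

variable {F : Type*} [Field F] {n : ℕ}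

local notation "SL" => Matrix.SpecialLinearGroup (Fin n) F
local notation "tv" => Matrix.SpecialLinearGroup.transvection
local notation "M1" => Matrix (Fin n) (Fin n) F
local notation "M2" => Matrix (Fin n ⊕ Fin n) (Fin n ⊕ Fin n) F

/-! ## Matrices moving coordinate vectors -/

theorem SendsC.eq {A B : M2} {f g : Perm (Fin n × Bool)} {c d : Fin n × Bool → F}
    (hA : SendsC A f c) (hB : SendsC B g d) (h : ∀ I, f I = g I ∧ c I = d I) : A = B :=
  ext_basis fun I => by rw [hA I, hB I, (h I).1, (h I).2]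

theorem SendsC.mul_single {A : M2} {f : Perm (Fin n × Bool)} {c : Fin n × Bool → F}
    (hA : SendsC A f c) (I : Fin n × Bool) (y : Fin n ⊕ Fin n) (t : F) :
    A * Matrix.single (sIdx I) y t = Matrix.single (sIdx (f I)) y (c I * t) := by
  ext x z
  have e := congrFun (hA I) x
  simp only [Matrix.mulVec_single_one, Matrix.col_apply, Pi.single_apply] at e
  by_cases hz : z = y
  · subst hz
    rw [Matrix.mul_single_apply_same, e, Matrix.single_apply]
    by_cases hx : x = sIdx (f I)
    · subst hx; simp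
    · simp [hx, Ne.symm hx]
  · rw [Matrix.mul_single_apply_of_ne _ _ _ _ _ hz, Matrix.single_apply, if_neg (fun h => hz h.2.symm)]

theorem SendsC.single_mul {A : M2} {f : Perm (Fin n × Bool)} {c : Fin n × Bool → F}
    (hA : SendsC A f c) (x : Fin n ⊕ Fin n) (J : Fin n × Bool) (t : F) :
    Matrix.single x (sIdx (f J)) t * A = Matrix.single x (sIdx J) (t * c J) := by
  ext y z
  obtain ⟨K, rfl⟩ := sIdx_surjective z
  have e := congrFun (hA K) (sIdx (f J))
  simp only [Matrix.mulVec_single_one, Matrix.col_apply, Pi.single_apply,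
    sIdx_injective.eq_iff, f.injective.eq_iff] at e
  by_cases hy : y = x
  · subst hy
    rw [Matrix.single_mul_apply_same, e, Matrix.single_apply]
    by_cases hK : J = K
    · subst hK; simp
    · simp [hK, Ne.symm hK, sIdx_injective.eq_iff]
  · rw [Matrix.single_mul_apply_of_ne _ _ _ _ _ hy, Matrix.single_apply, if_neg (fun h => hy h.1.symm)]

theorem blocks_tv {a b : Fin n} (h : a ≠ b) (t : F) :
    Matrix.fromBlocks (tv h t : SL).1 0 0 ((theta (tv h t) : SL) : M1) =
      1 + Matrix.single (sIdx (a, true)) (sIdx (b, true)) t +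
        Matrix.single (sIdx (b, false)) (sIdx (a, false)) (-t) := by
  rw [theta_tv]
  ext (x | x) (y | y) <;>
    simp [Matrix.SpecialLinearGroup.transvection_coe, Matrix.one_apply, Matrix.single_apply, sIdx]

theorem cyc_fix (hn : 4 ≤ n) {a : Fin n} (h0 : a ≠ idx hn 0) (h1 : a ≠ idx hn 1) (h2 : a ≠ idx hn 2) :
    (cyc hn : Perm (Fin n)) a = a := by
  rw [cyc, twoSwap_apply, swap_apply_of_ne_of_ne h1 h2, swap_apply_of_ne_of_ne h0 h1]

/-! ## The target -/

variable [Fintype F]


/-- The commutator subgroup of the isometry group of the hyperbolic form. -/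
noncomputable abbrev OmP (n : ℕ) (F : Type*) [Field F] [Fintype F] :
    Subgroup (O (plusQ n F)) := Cfsg.Omega F ⇑(plusQ n F)

/-- The special linear group in the Levi subgroup. -/
noncomputable def ιT (hn : 4 ≤ n) : SL →* ↥(OmP n F) :=
  ((Cfsg.Agent.Levi57.levi n F).comp Matrix.SpecialLinearGroup.toGL).codRestrict _ fun g =>
    Cfsg.Agent.Levi57.levi_mem_of_det_one (Or.inr (by omega)) (Units.ext g.2)

/-- The monomial part of the further element. -/
def wR (hn : 4 ≤ n) : SL :=
  tv (idx_ne hn (show (0 : Fin 4) ≠ 1 by decide)) (-1) *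
    tv (idx_ne hn (show (1 : Fin 4) ≠ 0 by decide)) (-(-1 : F)⁻¹) *
    tv (idx_ne hn (show (0 : Fin 4) ≠ 1 by decide)) (-1)

theorem wR_mon (hn : 4 ≤ n) : IsMon (wR (F := F) hn) (swap (idx hn 0) (idx hn 1))
    (fun x => if x = idx hn 0 then 1 else if x = idx hn 1 then -1 else 1) := fun x => by
  rw [wR, wEl_mon (idx_ne hn (show (0 : Fin 4) ≠ 1 by decide)) (neg_ne_zero.2 one_ne_zero) x]
  simp

/-- The difference of a hyperbolic pair. -/
noncomputable abbrev dv (k : Fin n) : Fin n ⊕ Fin n → F :=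
  (DMult.frameP F n).x k - (1 : F) • (DMult.frameP F n).y k

theorem pair_mem (hn : 4 ≤ n) :
    CfsgLib.Orth.refl (plusQ n F) (dv (idx hn 0)) * CfsgLib.Orth.refl (plusQ n F) (dv (idx hn 1)) ∈ OmP n F :=
  (Cfsg.Agent.Levi57.refl_pair_mul_mem_iff (Or.inr (by omega))
    (by rw [dv, (DMult.frameP F n).Q_sub_smul]; simp)
    (by rw [dv, (DMult.frameP F n).Q_sub_smul]; simp)).2
    ⟨1, by rw [dv, dv, (DMult.frameP F n).Q_sub_smul, (DMult.frameP F n).Q_sub_smul]; ring⟩

/-- The further element. -/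
noncomputable def rT (hn : 4 ≤ n) : ↥(OmP n F) :=
  ⟨_, pair_mem hn⟩ * ιT hn (wR hn)

/-- The matrix of an element. -/
noncomputable def ρT : ↥(OmP n F) →* M2 :=
  (Units.coeHom M2).comp ((Subgroup.subtype (O (plusQ n F))).comp (Subgroup.subtype (OmP n F)))

theorem ρT_apply (g : ↥(OmP n F)) :
    ρT g = (((g : O (plusQ n F)) : GL (Fin n ⊕ Fin n) F) : M2) := rfl

theorem ρT_injective : Function.Injective (ρT : ↥(OmP n F) →* M2) := fun a b h =>
  Subtype.ext (Subtype.ext (Units.ext h))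

theorem ρT_mulVec (g : ↥(OmP n F)) (v : Fin n ⊕ Fin n → F) :
    ρT g *ᵥ v = app (g : O (plusQ n F)) v := rfl

theorem ρT_ιT (hn : 4 ≤ n) (g : SL) :
    ρT (ιT hn g) = Matrix.fromBlocks (g : M1) 0 0 ((theta g : SL) : M1) := rfl

theorem ρT_rT (hn : 4 ≤ n) : ρT (rT (F := F) hn) = r0 hn := by
  obtain ⟨s0, s1, sk⟩ := sigR_apply hn
  have h01 : (idx hn 0 : Fin n) ≠ idx hn 1 := idx_ne hn (by decide)
  set Fr := DMult.frameP F n with hFr
  have hx : ∀ a, (Pi.single (sIdx (a, true)) 1 : Fin n ⊕ Fin n → F) = Fr.x a := fun _ => rfl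
  have hy : ∀ a, (Pi.single (sIdx (a, false)) 1 : Fin n ⊕ Fin n → F) = Fr.y a := fun _ => rfl
  have sx : ∀ k, app (CfsgLib.Orth.refl (plusQ n F) (dv k)) (Fr.x k) = Fr.y k := fun k => by
    rw [dv, Fr.app_refl_x k one_ne_zero, one_smul]
  have sy : ∀ k, app (CfsgLib.Orth.refl (plusQ n F) (dv k)) (Fr.y k) = Fr.x k := fun k => by
    rw [dv, Fr.app_refl_y k one_ne_zero, inv_one, one_smul]
  have fx : ∀ k j, j ≠ k → app (CfsgLib.Orth.refl (plusQ n F) (dv k)) (Fr.x j) = Fr.x j := fun k j h =>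
    (Fr.fix_refl_pair h 1).1
  have fy : ∀ k j, j ≠ k → app (CfsgLib.Orth.refl (plusQ n F) (dv k)) (Fr.y j) = Fr.y j := fun k j h =>
    (Fr.fix_refl_pair h 1).2
  have hw : SendsC (ρT (ιT hn (wR (F := F) hn))) (liftP (swap (idx hn 0) (idx hn 1)))
      (monVec fun x => if x = (idx hn 0) then 1 else if x = (idx hn 1) then -1 else 1) := by
    rw [ρT_ιT]
    exact blocks_sends _ _ _ _ (wR_mon hn) (wR_mon hn).theta
  refine ext_basis fun I => ?_
  obtain ⟨a, s⟩ := I
  rw [r0_sends hn, rT, map_mul, ← Matrix.mulVec_mulVec, hw, mulVec_single2, ρT_mulVec, app_mul,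
    liftP_apply, ← mul_one (rVec hn (a, s)), ← smul_eq_mul, Pi.single_smul]
  by_cases h0 : a = (idx hn 0)
  · subst h0
    rw [s0, swap_apply_left]
    cases s <;> simp only [hx, hy, sx, sy, fx _ _ h01.symm, fy _ _ h01.symm, Bool.not_true,
      Bool.not_false] <;> simp [monVec, rVec, h01]
  by_cases h1 : a = (idx hn 1)
  · subst h1
    rw [s1, swap_apply_right]
    cases s <;> simp only [hx, hy, sx, sy, fx _ _ h01, fy _ _ h01, Bool.not_true,
      Bool.not_false] <;> simp [monVec, rVec, h01.symm]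
  rw [sk a s h0 h1, swap_apply_of_ne_of_ne h0 h1]
  cases s <;> simp only [hx, hy, fx _ _ h0, fx _ _ h1, fy _ _ h0, fy _ _ h1] <;>
    simp [monVec, rVec, h0, h1]

theorem modelT (hn : 4 ≤ n) : Model hn (ιT (F := F) hn) (rT hn) ρT :=
  ⟨ρT_ιT hn, ρT_rT hn⟩

theorem sqT (hn : 4 ≤ n) : rT (F := F) hn * rT hn =
    ιT hn (dg _ _ (idx_ne hn (show (0 : Fin 4) ≠ 1 by decide)) (-1)) := by
  obtain ⟨s0, s1, sk⟩ := sigR_apply hn
  have h01 : (idx hn 0 : Fin n) ≠ idx hn 1 := idx_ne hn (by decide)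
  have M := modelT (F := F) hn
  refine ρT_injective (SendsC.eq (by rw [map_mul]; exact M.sends_r.mul M.sends_r)
    (M.sends_mon (dg_mon _ _)) ?_)
  rintro ⟨a, s⟩
  rw [Perm.mul_apply, liftP_apply, Perm.one_apply]
  by_cases h0 : a = (idx hn 0)
  · subst h0
    rw [s0, s1]
    cases s <;> simp [monVec, rVec, hVec, h01, h01.symm]
  by_cases h1 : a = (idx hn 1)
  · subst h1
    rw [s1, s0]
    cases s <;> simp [monVec, rVec, hVec, h01, h01.symm]
  rw [sk a s h0 h1, sk a s h0 h1]
  cases s <;> simp [monVec, rVec, hVec, h0, h1]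

theorem braidT (hn : 4 ≤ n) : rT (F := F) hn * ιT hn (w02 hn) * (rT hn)⁻¹ =
    ιT hn (pm (cyc hn)) * rT hn * (ιT hn (pm (cyc hn)))⁻¹ := by
  obtain ⟨s0, s1, sk⟩ := sigR_apply hn
  obtain ⟨c0, c1, c2⟩ := cyc_apply hn
  have h01 : (idx hn 0 : Fin n) ≠ idx hn 1 := idx_ne hn (by decide)
  have h02 : (idx hn 0 : Fin n) ≠ idx hn 2 := idx_ne hn (by decide)
  have h12 : (idx hn 1 : Fin n) ≠ idx hn 2 := idx_ne hn (by decide)
  have M := modelT (F := F) hn
  have hinv : (rT (F := F) hn)⁻¹ =
      rT hn * ιT hn (dg _ _ (idx_ne hn (show (0 : Fin 4) ≠ 1 by decide)) (-1 : Fˣ))⁻¹ := by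
    rw [map_inv, ← sqT hn]; group
  rw [eq_mul_inv_iff_mul_eq, hinv]
  refine ρT_injective (SendsC.eq
    (by
      simp only [map_mul]
      exact ((M.sends_r.mul (M.sends_mon (w02_mon hn))).mul
        (M.sends_r.mul (M.sends_mon (dg_mon _ _).inv))).mul (M.sends_mon (pm_mon _)))
    (by rw [map_mul]; exact (M.sends_mon (pm_mon _)).mul M.sends_r) ?_)
  rintro ⟨a, s⟩
  simp only [Perm.mul_apply, liftP_apply, Perm.one_apply, inv_one]
  by_cases h0 : a = (idx hn 0)
  · subst h0
    cases s <;> simp [liftP_apply, swap_apply_left, swap_apply_right, c0, c1, c2, s0, s1, monVec, rVec, hVec, h01, h01.symm, h02, h02.symm, h12,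
      h12.symm, sk _ _ h02.symm h12.symm, swap_apply_of_ne_of_ne]
  by_cases h1 : a = (idx hn 1)
  · subst h1
    cases s <;> simp [liftP_apply, swap_apply_left, swap_apply_right, c0, c1, c2, s0, s1, monVec, rVec, hVec, h01, h01.symm, h02, h02.symm, h12,
      h12.symm, sk _ _ h02.symm h12.symm, swap_apply_of_ne_of_ne]
  by_cases h2 : a = (idx hn 2)
  · subst h2
    cases s <;> simp [liftP_apply, swap_apply_left, swap_apply_right, c0, c1, c2, s0, s1, monVec, rVec, hVec, h01, h01.symm, h02, h02.symm, h12,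
      h12.symm, sk _ _ h02.symm h12.symm, swap_apply_of_ne_of_ne]
  cases s <;> simp [liftP_apply, cyc_fix hn h0 h1 h2, sk _ _ h0 h1, monVec, rVec, hVec, h0, h1, h2,
    swap_apply_of_ne_of_ne]

theorem comm_rT (hn : 4 ≤ n) {g : SL} (hg : g ∈ LevP (idx hn 0) (idx hn 1)) : Commute (rT hn) (ιT hn g) := by
  obtain ⟨s0, s1, sk⟩ := sigR_apply hn
  have h01 : (idx hn 0 : Fin n) ≠ idx hn 1 := idx_ne hn (by decide)
  have S := r0_sends (F := F) hn
  have key : LevP (idx hn 0) (idx hn 1) ≤ (Subgroup.centralizer {rT (F := F) hn}).comap (ιT hn) := by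
    refine (Subgroup.closure_le _).2 ?_
    rintro _ ⟨a, b, hab, t, hs, rfl⟩
    refine Subgroup.mem_centralizer_iff.2 ?_
    rintro _ rfl
    refine ρT_injective ?_
    rw [map_mul, map_mul, ρT_rT, ρT_ιT, blocks_tv, mul_add, mul_add, add_mul, add_mul, mul_one,
      one_mul, S.mul_single, S.mul_single]
    by_cases h0 : a = (idx hn 0)
    · subst h0
      obtain rfl : b = (idx hn 1) := ((hs.1 (Or.inl rfl)).resolve_left hab.symm)
      have e1 := S.single_mul (sIdx ((idx hn 0), true)) ((idx hn 0), false) t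
      have e2 := S.single_mul (sIdx ((idx hn 1), false)) ((idx hn 1), true) (-t)
      rw [s0] at e1
      rw [s1] at e2
      simp only [Bool.not_false, Bool.not_true] at e1 e2
      rw [e1, e2, s0, s1]
      simp [rVec, h01, add_assoc, add_comm, add_left_comm]
    by_cases h1 : a = (idx hn 1)
    · subst h1
      obtain rfl : b = (idx hn 0) := ((hs.1 (Or.inr rfl)).resolve_right hab.symm)
      have e1 := S.single_mul (sIdx ((idx hn 1), true)) ((idx hn 1), false) t
      have e2 := S.single_mul (sIdx ((idx hn 0), false)) ((idx hn 0), true) (-t)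
      rw [s1] at e1
      rw [s0] at e2
      simp only [Bool.not_false, Bool.not_true] at e1 e2
      rw [e1, e2, s0, s1]
      simp [rVec, h01, add_assoc, add_comm, add_left_comm]
    have hb : b ≠ (idx hn 0) ∧ b ≠ (idx hn 1) :=
      ⟨fun e => by rcases hs.2 (Or.inl e) with e' | e' <;> contradiction,
        fun e => by rcases hs.2 (Or.inr e) with e' | e' <;> contradiction⟩
    have e1 := S.single_mul (sIdx (a, true)) (b, true) t
    have e2 := S.single_mul (sIdx (b, false)) (a, false) (-t)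
    rw [sk b _ hb.1 hb.2] at e1
    rw [sk a _ h0 h1] at e2
    rw [e1, e2, sk a _ h0 h1, sk b _ hb.1 hb.2]
    simp [rVec, h1, hb.2]
  exact Subgroup.mem_centralizer_iff.1 (key hg) _ rfl

theorem comm_yT (hn : 4 ≤ n) {g : SL} (hg : g ∈ LevP (idx hn 1) (idx hn 2)) :
    Commute (y12 hn (ιT hn) (rT hn) (1 : F)) (ιT hn g) := by
  have h12 : (idx hn 1 : Fin n) ≠ idx hn 2 := idx_ne hn (by decide)
  have key : LevP (idx hn 1) (idx hn 2) ≤
      (Subgroup.centralizer {y12 hn (ιT hn) (rT hn) (1 : F)}).comap (ιT (F := F) hn) := by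
    refine (Subgroup.closure_le _).2 ?_
    rintro _ ⟨a, b, hab, t, hs, rfl⟩
    refine Subgroup.mem_centralizer_iff.2 ?_
    rintro _ rfl
    refine ρT_injective ?_
    rw [map_mul, map_mul, (modelT hn).rho_y12, ρT_ιT, theta_tv, upM, Matrix.fromBlocks_multiply,
      Matrix.fromBlocks_multiply]
    simp only [Matrix.mul_zero, Matrix.zero_mul, add_zero, zero_add, Matrix.mul_one, Matrix.one_mul]
    congr 1
    rw [Matrix.SpecialLinearGroup.transvection_coe, Matrix.SpecialLinearGroup.transvection_coe,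
      mul_add, add_mul, Matrix.mul_one, Matrix.one_mul, add_right_inj, yBlock, mul_sub, sub_mul]
    by_cases ha : a = (idx hn 1)
    · subst ha
      obtain rfl : b = (idx hn 2) := (hs.1 (Or.inl rfl)).resolve_left hab.symm
      simp [Matrix.single_mul_single_same, Matrix.single_mul_single_of_ne, h12, h12.symm,
        Matrix.single_neg, ← sub_eq_add_neg]
    by_cases ha2 : a = (idx hn 2)
    · subst ha2
      obtain rfl : b = (idx hn 1) := (hs.1 (Or.inr rfl)).resolve_right hab.symm
      simp [Matrix.single_mul_single_same, Matrix.single_mul_single_of_ne, h12, h12.symm,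
        Matrix.single_neg, ← sub_eq_add_neg]
    have hb : b ≠ (idx hn 1) ∧ b ≠ (idx hn 2) :=
      ⟨fun e => by rcases hs.2 (Or.inl e) with e' | e' <;> contradiction,
        fun e => by rcases hs.2 (Or.inr e) with e' | e' <;> contradiction⟩
    simp [Matrix.single_mul_single_of_ne, hb.1, hb.2, hb.1.symm, hb.2.symm]
  exact Subgroup.mem_centralizer_iff.1 (key hg) _ rfl

theorem dataT (hn : 4 ≤ n) : Data hn (ιT (F := F) hn) (rT hn) :=
  ⟨fun _ hg => comm_rT hn hg, fun _ hg => comm_yT hn hg, braidT hn, sqT hn⟩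

/-! ## Surjectivity -/

theorem eich_eq (hn : 4 ≤ n) (g : ↥(OmP n F)) {u a : Fin n ⊕ Fin n → F} (hu : plusQ n F u = 0)
    (ha : polar (plusQ n F) u a = 0)
    (h : ∀ K : Fin n × Bool, ρT g *ᵥ Pi.single (sIdx K) 1 = Pi.single (sIdx K) 1 +
      polar (plusQ n F) (Pi.single (sIdx K) 1) u • a +
      (-(polar (plusQ n F) (Pi.single (sIdx K) 1) a) -
        plusQ n F a * polar (plusQ n F) (Pi.single (sIdx K) 1) u) • u) :
    eich (plusQ n F) u a = (g : O (plusQ n F)) := by
  refine Subtype.ext (Units.ext (ext_basis fun K => ?_))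
  rw [← app_apply, app_eich hu ha, ← h K]
  rfl

set_option maxHeartbeats 1000000 in
theorem closureT (hn : 4 ≤ n) :
    Subgroup.closure (Set.range (ιT (F := F) hn) ∪ {rT hn}) = ⊤ := by
  classical
  set K := Subgroup.closure (Set.range (ιT (F := F) hn) ∪ {rT hn})
  set H := K.map (Subgroup.subtype (OmP n F))
  have M := modelT (F := F) hn
  set Fr := DMult.frameP F n with hFr
  have hι : ∀ g, ιT hn g ∈ K := fun g => Subgroup.subset_closure (Or.inl ⟨g, rfl⟩)
  have hr : rT hn ∈ K := Subgroup.subset_closure (Or.inr rfl)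
  have hY : ∀ i j (t : F), Yel hn (ιT hn) (rT hn) i j t ∈ K := fun i j t => by
    rw [Yel]
    split_ifs
    · exact mul_mem (mul_mem (hι _) (mul_mem (mul_mem hr (hι _)) (inv_mem hr))) (inv_mem (hι _))
    · exact one_mem _
  have hQx : ∀ (i : Fin n) (s : Bool), plusQ n F (Pi.single (sIdx (i, s)) 1) = 0 := fun i s => by
    cases s
    · exact Fr.Q_y i
    · exact Fr.Q_x i
  have pol : ∀ I J : Fin n × Bool, polar (plusQ n F) (Pi.single (sIdx I) 1) (Pi.single (sIdx J) 1) =
      if I.1 = J.1 ∧ I.2 ≠ J.2 then (1 : F) else 0 := by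
    rintro ⟨a, s⟩ ⟨b, s'⟩
    cases s <;> cases s' <;> simp [sIdx, (DMult.frameP F n).hpol, DMult.frameP, DMult.polP]
  -- the three kinds inside the known subgroup
  have kxx : ∀ i j : Fin n, i ≠ j → ∀ t : F, eich (plusQ n F) (Pi.single (sIdx (i, true)) 1)
      (t • Pi.single (sIdx (j, true)) 1) ∈ H := fun i j hij t => by
    refine ⟨Yel hn (ιT hn) (rT hn) i j t, hY _ _ _, ?_⟩
    symm
    refine eich_eq hn _ (hQx _ _) (by simp [polar_smul_right, pol, hij]) fun ⟨a, s⟩ => ?_
    rw [M.rho_Y i j hij, upM]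
    funext x
    cases s <;> rcases x with x | x <;>
      simp [pol, polar_smul_right, QuadraticMap.map_smul, hQx] <;> simp [sIdx, mulVec_blocks_inl, mulVec_blocks_inr,
        Matrix.one_apply, yBlock, Matrix.single_apply, Pi.single_apply, ite_and, eq_comm] <;>
      (try split_ifs) <;> simp_all
  have kxy : ∀ i j : Fin n, i ≠ j → ∀ t : F, eich (plusQ n F) (Pi.single (sIdx (i, true)) 1)
      (t • Pi.single (sIdx (j, false)) 1) ∈ H := fun i j hij t => by
    refine ⟨ιT hn (tv hij (-t)), hι _, ?_⟩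
    symm
    refine eich_eq hn _ (hQx _ _) (by simp [polar_smul_right, pol, hij]) fun ⟨a, s⟩ => ?_
    rw [ρT_ιT, theta_tv]
    funext x
    cases s <;> rcases x with x | x <;>
      simp [pol, polar_smul_right, QuadraticMap.map_smul, hQx] <;> simp [sIdx, mulVec_blocks_inl, mulVec_blocks_inr,
        Matrix.one_apply, Matrix.SpecialLinearGroup.transvection_coe, Matrix.single_apply, Pi.single_apply,
        ite_and, eq_comm] <;>
      (try split_ifs) <;> simp_all
  have kyx : ∀ i j : Fin n, i ≠ j → ∀ t : F, eich (plusQ n F) (Pi.single (sIdx (i, false)) 1)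
      (t • Pi.single (sIdx (j, true)) 1) ∈ H := fun i j hij t => by
    refine ⟨ιT hn (tv hij.symm t), hι _, ?_⟩
    symm
    refine eich_eq hn _ (hQx _ _) (by simp [polar_smul_right, pol, hij]) fun ⟨a, s⟩ => ?_
    rw [ρT_ιT, theta_tv]
    funext x
    cases s <;> rcases x with x | x <;>
      simp [pol, polar_smul_right, QuadraticMap.map_smul, hQx] <;> simp [sIdx, mulVec_blocks_inl, mulVec_blocks_inr,
        Matrix.one_apply, Matrix.SpecialLinearGroup.transvection_coe, Matrix.single_apply, Pi.single_apply,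
        ite_and, eq_comm] <;>
      (try split_ifs) <;> simp_all
  have kyy : ∀ i j : Fin n, i ≠ j → ∀ t : F, eich (plusQ n F) (Pi.single (sIdx (i, false)) 1)
      (t • Pi.single (sIdx (j, false)) 1) ∈ H := fun i j hij t => by
    obtain ⟨s0, s1, -⟩ := sigR_apply hn
    have h01 : (idx hn 0 : Fin n) ≠ idx hn 1 := idx_ne hn (by decide)
    obtain ⟨σ, hσ⟩ := exists_perm_extend (f := ![idx hn 0, idx hn 1]) (g := ![i, j])
      (fun x y e => by fin_cases x <;> fin_cases y <;> simp [h01, h01.symm] at e ⊢)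
      (fun x y e => by fin_cases x <;> fin_cases y <;> simp [hij, hij.symm] at e ⊢)
    obtain ⟨g, c, hg, -⟩ := exists_mon (F := F) σ (idx hn 2)
    have hs0 : σ (idx hn 0) = i := hσ 0
    have hs1 : σ (idx hn 1) = j := hσ 1
    set N := ιT hn g * rT hn * (ιT hn g)⁻¹
    have hN : (N : O (plusQ n F)) ∈ H := ⟨N, mul_mem (mul_mem (hι _) hr) (inv_mem (hι _)), rfl⟩
    obtain ⟨cN, hsN⟩ : ∃ cN, SendsC (ρT N) (liftP σ * sigR hn * liftP σ⁻¹) cN := by
      rw [show N = ιT hn g * rT hn * ιT hn g⁻¹ by rw [map_inv], map_mul, map_mul]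
      exact ⟨_, ((M.sends_mon hg).mul M.sends_r).mul (M.sends_mon hg.inv)⟩
    have move : ∀ k l, σ⁻¹ k = l → ∀ m, sigR hn (l, false) = (m, true) → ∃ α : F,
        app (N : O (plusQ n F)) (Pi.single (sIdx (k, false)) 1) =
          α • Pi.single (sIdx (σ m, true)) 1 := fun k l hk m hm => by
      refine ⟨cN (k, false), ?_⟩
      rw [← ρT_mulVec, hsN (k, false), Perm.mul_apply, Perm.mul_apply, liftP_apply σ⁻¹, hk, hm,
        liftP_apply, ← Pi.single_smul, smul_eq_mul, mul_one]
    obtain ⟨α, hα⟩ := move i (idx hn 0) (by rw [Perm.inv_def, Equiv.symm_apply_eq, hs0]) (idx hn 1) (by rw [s0]; rfl)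
    obtain ⟨β, hβ⟩ := move j (idx hn 1) (by rw [Perm.inv_def, Equiv.symm_apply_eq, hs1]) (idx hn 0) (by rw [s1]; rfl)
    rw [hs1] at hα
    rw [hs0] at hβ
    have hpa : polar (plusQ n F) (Pi.single (sIdx (i, false)) 1)
        (t • Pi.single (sIdx (j, false)) 1) = 0 := by simp [polar_smul_right, pol]
    have e := eich_conj (hQx i false) hpa (N : O (plusQ n F))
    rw [map_smul, hα, hβ, CfsgLib.POmega.eich_smul (hQx j true) (by simp [polar_smul_right, pol]),
      smul_smul, smul_smul] at e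
    have h' := kxx j i hij.symm (α * t * β)
    rw [← e] at h'
    have := mul_mem (mul_mem (inv_mem hN) h') hN
    simpa [mul_assoc] using this
  have hall : ∀ a : Fin n ⊕ Fin n, ∃ i, a = Fr.xc i ∨ a = Fr.yc i := fun a => by
    rcases a with i | i; exacts [⟨i, Or.inl rfl⟩, ⟨i, Or.inr rfl⟩]
  have hle : commutator (O (plusQ n F)) ≤ H := by
    refine (Fr.commutator_le (by omega) (fun a b ha _ => ?_) (Fr.bigSub_eq_top fun g hg => ?_)).trans ?_
    · obtain ⟨i, hi | hi⟩ := hall a
      exacts [absurd hi (ha i).1, absurd hi (ha i).2]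
    · have h1 : g = 1 := ext_app fun x => by
        rw [app_one]
        have hl : app g = LinearMap.id := (Pi.basisFun F _).ext fun a => by
          rw [Pi.basisFun_apply, LinearMap.id_apply]
          obtain ⟨i, hi | hi⟩ := hall a <;> rw [hi]
          exacts [(hg i i.isLt).1, (hg i i.isLt).2]
        rw [hl, LinearMap.id_apply]
      rw [h1]
      exact one_mem _
    refine (Subgroup.closure_le _).2 ?_
    rintro _ ⟨i, u, a, hu, h1, h2, rfl⟩
    refine Fr.eich_mem_of_basis hu H (fun b hbx hby t => ?_) h1 h2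
    rcases b with j | j
    · have hij : i ≠ j := fun e => hbx (e ▸ rfl)
      rcases hu with rfl | rfl
      exacts [kxx i j hij t, kyx i j hij t]
    · have hij : i ≠ j := fun e => hby (e ▸ rfl)
      rcases hu with rfl | rfl
      exacts [kxy i j hij t, kyy i j hij t]
  refine eq_top_iff.2 fun g _ => ?_
  obtain ⟨g', hg', e⟩ := hle g.2
  rwa [← Subtype.ext (e : (g' : O (plusQ n F)) = g)]

end CfsgLib.OmegaPresent
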